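import Cfsg.Agent.Omega.TTn.Z.Base
import Cfsg.Agent.Omega.TTn.Norm

/-!
# #15257: the normal form of a T-T pair, `n` not 2-central, `V_P = V₀ × A`: alignment

`exists_align` of `TTn/Norm.lean` with `[Ω₁(Z(T)), S] ≤ ⟨s⟩` instead of `Ω₁(Z(T)) = E₄`.
-/

set_option autoImplicit false
set_option linter.unusedSectionVars false

namespace Cfsg.Agent.Omega.TTn.Z

open Subgroup Cfsg Cfsg.Agent.ZN Cfsg.Agent.ZN.ChoiceBase
open Cfsg.Agent.Omega.S5.Mod Cfsg.Agent.Omega.S5.TT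
open Cfsg.Agent.Omega.S5.TT.Pos (na ns as sn n_ne s_ne a_ne n_ne_a n_ne_s a_ne_s e_sq' mem_C)
open Cfsg.Agent.MinSimple.VModule (o2_isPGroup le_o2 o2_le le_normalizer_o2 o2_le_of_sylow
  normalizer_le_normalizer_zc le_centralizer_zc mem_zc)

universe u

/-- commuting involutions in a group with Sylow 2-subgroups of order 2 are equal -/
theorem eq_of_sylow_two {Γ : Type*} [Group Γ] [Finite Γ] (P : Sylow 2 Γ)
    (hP : Nat.card (P : Subgroup Γ) ≤ 2) {t t' : Γ} (ht : t * t = 1) (ht' : t' * t' = 1)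
    (hc : t * t' = t' * t) (h1 : t ≠ 1) (h1' : t' ≠ 1) : t = t' := by
  have hf : Fact (Nat.Prime 2) := ⟨Nat.prime_two⟩
  by_contra hne
  have hz : ∀ x : Γ, x * x = 1 → IsPGroup 2 (zpowers x) := by
    rintro x hx ⟨y, hy⟩
    obtain ⟨k, rfl⟩ := mem_zpowers_iff.1 hy
    refine ⟨1, Subtype.ext ?_⟩
    change (x ^ k) ^ 2 ^ 1 = 1
    rw [pow_one, pow_two, ← zpow_add, ← two_mul, zpow_mul, zpow_two, hx, one_zpow]
  have hQ : IsPGroup 2 (zpowers t ⊔ zpowers t' : Subgroup Γ) := by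
    refine (hz t ht).to_sup_of_normal_right' (hz t' ht') ?_
    rw [zpowers_le]
    refine centralizer_le_normalizer _ (mem_centralizer_iff.2 ?_)
    rintro _ ⟨k, rfl⟩
    exact ((show Commute t t' from hc).zpow_right k).symm
  obtain ⟨R, hR⟩ := hQ.exists_le_sylow
  have hcR : Nat.card (R : Subgroup Γ) = Nat.card (P : Subgroup Γ) :=
    Nat.card_congr (Sylow.equiv R P).toEquiv
  have h3 : Nat.card (Fin 3) ≤ Nat.card (R : Subgroup Γ) := by
    have hm1 : t ∈ (R : Subgroup Γ) := hR ((le_sup_left : zpowers t ≤ _) (mem_zpowers t))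
    have hm2 : t' ∈ (R : Subgroup Γ) := hR ((le_sup_right : zpowers t' ≤ _) (mem_zpowers t'))
    let f : Fin 3 → (R : Subgroup Γ) := ![1, ⟨t, hm1⟩, ⟨t', hm2⟩]
    refine Nat.card_le_card_of_injective f ?_
    have e0 : ((f 0 : (R : Subgroup Γ)) : Γ) = 1 := rfl
    have e1 : ((f 1 : (R : Subgroup Γ)) : Γ) = t := rfl
    have e2 : ((f 2 : (R : Subgroup Γ)) : Γ) = t' := rfl
    intro i j hij
    have hij' := congrArg Subtype.val hij
    fin_cases i <;> fin_cases j <;> first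
      | rfl
      | (exfalso; first
          | exact h1 (by simpa [e0, e1, e2] using hij')
          | exact h1 (by simpa [e0, e1, e2] using hij'.symm)
          | exact h1' (by simpa [e0, e1, e2] using hij')
          | exact h1' (by simpa [e0, e1, e2] using hij'.symm)
          | exact hne (by simpa [e0, e1, e2] using hij')
          | exact hne (by simpa [e0, e1, e2] using hij'.symm))
  rw [Nat.card_fin, hcR] at h3
  omega

variable {G : Type u} [Group G]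

/-! ### One module -/

namespace Dih

variable {S : Sylow 2 G} {V L : Subgroup G} {M : FiveMod V L} (t : Dih S M)
include t

theorem card_S [Finite G] : Nat.card (S : Subgroup G) =
    2 * Nat.card ((S : Subgroup G) ⊓ centralizer ({M.e nn} : Set G) : Subgroup G) := by
  obtain ⟨g, hgS, hg⟩ := t.exists_swap
  set T := (S : Subgroup G) ⊓ centralizer ({M.e nn} : Set G) with hT
  have h1 : (T.subgroupOf S).index = 2 := by
    rw [index_eq_two_iff]
    refine ⟨⟨g, hgS⟩, fun x => ?_⟩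
    have hgT : g ∉ T := by
      intro h0
      have h2 := Dih.tt_n hg
      rw [mem_C.1 h0.2, mul_inv_cancel_right] at h2
      exact n_ne_a M h2
    by_cases hx : (x : G) ∈ T
    · right
      refine ⟨mem_subgroupOf.2 hx, fun h0 => hgT ?_⟩
      have h2 := mem_subgroupOf.1 h0
      have h3 := mul_mem (inv_mem hx) h2
      have h4 : (x : G)⁻¹ * ((x * ⟨g, hgS⟩ : (S : Subgroup G)) : G) = g := by
        rw [coe_mul]; group
      rwa [h4] at h3
    · left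
      refine ⟨mem_subgroupOf.2 ?_, fun h0 => hx (mem_subgroupOf.1 h0)⟩
      rcases t.mem_or hgS hg x.2 with h2 | h2
      · exact absurd h2 hx
      · exact h2
  have h2 := (T.subgroupOf (S : Subgroup G)).card_mul_index
  rw [h1] at h2
  have h3 : Nat.card (T.subgroupOf (S : Subgroup G)) = Nat.card T :=
    Nat.card_congr (subgroupOfEquivOfLe inf_le_left).toEquiv
  rw [← h2, h3, mul_comm]

/-- `T = C_S(n)` is a Sylow 2-subgroup of `C_G(n)`, if `n` is not 2-central. -/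
theorem not_dvd [Finite G] (nc : ∀ P : Sylow 2 G, ¬ (P : Subgroup G) ≤ centralizer ({M.e nn} : Set G)) :
    ¬ 2 ∣ ((S : Subgroup G) ⊓ centralizer ({M.e nn} : Set G)).relIndex
      (centralizer ({M.e nn} : Set G)) := by
  have hf : Fact (Nat.Prime 2) := ⟨Nat.prime_two⟩
  set N := centralizer ({M.e nn} : Set G) with hN
  set T := (S : Subgroup G) ⊓ N with hT
  have hTp : IsPGroup 2 (T.subgroupOf N) :=
    (S.isPGroup'.to_le inf_le_left).comap_of_injective _ N.subtype_injective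
  obtain ⟨P, hP⟩ := hTp.exists_le_sylow
  have hPG : IsPGroup 2 ((P : Subgroup N).map N.subtype) := P.isPGroup'.map _
  obtain ⟨R, hR⟩ := hPG.exists_le_sylow
  have hlt : (P : Subgroup N).map N.subtype < (R : Subgroup G) := by
    refine lt_of_le_of_ne hR fun h0 => nc R ?_
    rw [← h0]
    exact map_subtype_le _
  have hcR : Nat.card (R : Subgroup G) = Nat.card (S : Subgroup G) :=
    Nat.card_congr (Sylow.equiv R S).toEquiv
  have h2 : 2 * Nat.card ((P : Subgroup N).map N.subtype) ≤ Nat.card (R : Subgroup G) := by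
    obtain ⟨k, hk⟩ := card_dvd_of_le hR
    rw [hk, mul_comm]
    refine Nat.mul_le_mul_left _ ?_
    rcases k with _ | _ | k
    · rw [mul_zero] at hk
      exact absurd hk Nat.card_pos.ne'
    · rw [zero_add, mul_one] at hk
      exact absurd (eq_of_le_of_card_ge hR hk.le) hlt.ne
    · omega
  have h3 : Nat.card ((P : Subgroup N).map N.subtype) = Nat.card (P : Subgroup N) :=
    Nat.card_congr (equivMapOfInjective _ _ N.subtype_injective).symm.toEquiv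
  have h4 : Nat.card (T.subgroupOf N) = Nat.card T :=
    Nat.card_congr (subgroupOfEquivOfLe inf_le_right).toEquiv
  have h5 : (P : Subgroup N) = T.subgroupOf N := by
    refine (eq_of_le_of_card_ge hP ?_).symm
    rw [h4, ← h3]
    have h6 := t.card_S
    rw [← hN, ← hT] at h6
    omega
  have h6 := P.not_dvd_index
  rw [h5] at h6
  exact h6

/-- Conjugating the module by an element of `N_G(S)`. -/
theorem cj [Finite G] {g : G} (hg : ∀ x ∈ (S : Subgroup G), g * x * g⁻¹ ∈ (S : Subgroup G)) :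
    Dih S (M.cj g) := by
  have hgN : g ∈ normalizer ((S : Subgroup G) : Set G) := by
    refine mem_normalizer_of_cj_le ?_
    rintro _ ⟨x, hx, rfl⟩
    exact hg x hx
  have hg' : ∀ x ∈ (S : Subgroup G), g⁻¹ * x * g ∈ (S : Subgroup G) := by
    intro x hx
    have := (mem_normalizer_iff.1 (inv_mem hgN) x).1 hx
    rwa [inv_inv] at this
  refine ⟨?_, ?_, ?_⟩
  · intro x hx
    rw [mem_cj]
    exact t.S_le (hg' x hx)
  · intro x hx p hp
    exact t.d8 _ (hg' x hx) p (ind_of_cj hp)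
  · intro p hp
    obtain ⟨b, hb, hi⟩ := t.d8' p hp
    exact ⟨_, hg b hb, M.cj_ind hi⟩

end Dih

/-! ### Two modules with the same `n` -/

/-- conjugates of `n` are not 2-central -/
theorem nc_conj {n : G} (nc : ∀ P : Sylow 2 G, ¬ (P : Subgroup G) ≤ centralizer ({n} : Set G)) (g : G)
    (P : Sylow 2 G) : ¬ (P : Subgroup G) ≤ centralizer ({g * n * g⁻¹} : Set G) := by
  intro hP
  refine nc (g⁻¹ • P) ?_
  rintro _ ⟨y, hy, rfl⟩
  have h1 := mem_C.1 (hP hy)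
  refine mem_C.2 ?_
  change g⁻¹ * y * g⁻¹⁻¹ * n = n * (g⁻¹ * y * g⁻¹⁻¹)
  calc g⁻¹ * y * g⁻¹⁻¹ * n = g⁻¹ * (y * (g * n * g⁻¹)) * g := by group
    _ = g⁻¹ * (g * n * g⁻¹ * y) * g := by rw [h1]
    _ = n * (g⁻¹ * y * g⁻¹⁻¹) := by group

/-- two Sylow subgroups `S`, `S'` over the same `T ⊴`, acting on `B` as transvections `n ↦ n s`, `n ↦ n s'` -/
theorem same_action [Finite G] {S : Sylow 2 G} {H B : Subgroup G} {x x' n s s' : G}
    (hSH : (S : Subgroup G) ≤ H) (hBH : H ≤ normalizer (B : Set G)) (hBc : ∀ b ∈ B, ∀ b' ∈ B, b * b' = b' * b)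
    (hB2 : ∀ b ∈ B, b * b = 1)
    (hS : ∀ g ∈ (S : Subgroup G), (∀ b ∈ B, g * b * g⁻¹ = b) ∨ ∀ b ∈ B, g * x * b * (g * x)⁻¹ = b)
    (hx : x ∈ H) (hx' : x' ∈ H) (hn : n ∈ B) (hs : s ∈ B) (hs' : s' ∈ B) (hs1 : s ≠ 1) (hs1' : s' ≠ 1)
    (ax : ∀ b ∈ B, x * b * x⁻¹ = b ∨ x * b * x⁻¹ = b * s) (ax' : ∀ b ∈ B, x' * b * x'⁻¹ = b ∨ x' * b * x'⁻¹ = b * s')
    (xn : x * n * x⁻¹ = n * s) (xn' : x' * n * x'⁻¹ = n * s') (xs : x * s * x⁻¹ = s) (xs' : x * s' * x⁻¹ = s')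
    (ys : x' * s * x'⁻¹ = s) (ys' : x' * s' * x'⁻¹ = s') : ∀ b ∈ B, x * b * x⁻¹ = x' * b * x'⁻¹ := by
  have hf : Fact (Nat.Prime 2) := ⟨Nat.prime_two⟩
  obtain ⟨C, hC⟩ : ∃ C, C = centralizer (B : Set G) := ⟨_, rfl⟩
  have hCm : ∀ g, g ∈ C ↔ ∀ b ∈ B, g * b * g⁻¹ = b := by
    intro g
    rw [hC, mem_centralizer_iff]
    exact forall₂_congr fun b _ => by rw [mul_inv_eq_iff_eq_mul]; exact eq_comm
  have hCn : (C.subgroupOf H).Normal := by
    refine ⟨fun g hg h => ?_⟩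
    rw [mem_subgroupOf, hCm] at hg ⊢
    intro b hb
    have h1 : (h : G)⁻¹ * b * h ∈ B := by
      have := (mem_normalizer_iff.1 (inv_mem (hBH h.2)) b).1 hb
      rwa [inv_inv] at this
    have h2 := hg _ h1
    calc ((h * g * h⁻¹ : H) : G) * b * ((h * g * h⁻¹ : H) : G)⁻¹ = h * (g * ((h : G)⁻¹ * b * h) * (g : G)⁻¹) * (h : G)⁻¹ := by
          simp only [coe_mul, coe_inv]; group
      _ = b := by rw [h2]; group
  let q := QuotientGroup.mk' (C.subgroupOf H)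
  have hq1 : ∀ g : H, q g = 1 ↔ (g : G) ∈ C := fun g => by
    change (QuotientGroup.mk g : H ⧸ C.subgroupOf H) = 1 ↔ _
    rw [QuotientGroup.eq_one_iff, mem_subgroupOf]
  let P : Sylow 2 (H ⧸ C.subgroupOf H) := (S.subtype hSH).mapSurjective (f := q) (QuotientGroup.mk'_surjective _)
  have hP : ∀ y, y ∈ (P : Subgroup (H ⧸ C.subgroupOf H)) → y = 1 ∨ y * q ⟨x, hx⟩ = 1 := by
    rintro _ ⟨g, hg, rfl⟩
    rcases hS g hg with h1 | h1
    · exact Or.inl ((hq1 g).2 ((hCm _).2 h1))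
    · right
      change q g * q ⟨x, hx⟩ = 1
      rw [← map_mul, hq1]
      exact (hCm _).2 h1
  have hcP : Nat.card (P : Subgroup (H ⧸ C.subgroupOf H)) ≤ 2 := by
    have h1 : ((P : Subgroup (H ⧸ C.subgroupOf H)) : Set (H ⧸ C.subgroupOf H)) ⊆ {1, (q ⟨x, hx⟩)⁻¹} := by
      intro y hy
      rcases hP y hy with h1 | h1
      · exact Or.inl h1
      · exact Or.inr (eq_inv_of_mul_eq_one_left h1)
    calc Nat.card (P : Subgroup (H ⧸ C.subgroupOf H)) = Set.ncard ((P : Subgroup (H ⧸ C.subgroupOf H)) : Set _) := rfl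
      _ ≤ Set.ncard {1, (q ⟨x, hx⟩)⁻¹} := Set.ncard_le_ncard h1 (Set.toFinite _)
      _ ≤ 2 := Set.ncard_insert_le _ _ |>.trans (by rw [Set.ncard_singleton])
  have hconj : ∀ g b c : G, g * (b * c) * g⁻¹ = g * b * g⁻¹ * (g * c * g⁻¹) := fun g b c => by group
  have hxx : ∀ b ∈ B, x * (x * b * x⁻¹) * x⁻¹ = b := by
    intro b hb
    rcases ax b hb with h1 | h1
    · rw [h1, h1]
    · rw [h1, hconj, h1, xs, mul_assoc, hB2 s hs, mul_one]
  have hxx' : ∀ b ∈ B, x' * (x' * b * x'⁻¹) * x'⁻¹ = b := by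
    intro b hb
    rcases ax' b hb with h1 | h1
    · rw [h1, h1]
    · rw [h1, hconj, h1, ys', mul_assoc, hB2 s' hs', mul_one]
  have hxy : ∀ b ∈ B, x * (x' * b * x'⁻¹) * x⁻¹ = x' * (x * b * x⁻¹) * x'⁻¹ := by
    intro b hb
    rcases ax b hb with h1 | h1 <;> rcases ax' b hb with h2 | h2
    · rw [h1, h2, h1]
    · rw [h1, h2, hconj, h1, xs']
    · rw [h1, h2, h1, hconj, h2, ys]
    · rw [h1, h2, hconj, h1, xs', hconj, h2, ys, mul_assoc, mul_assoc, hBc s hs s' hs']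
  have key : q ⟨x, hx⟩ = q ⟨x', hx'⟩ := by
    refine eq_of_sylow_two P hcP ?_ ?_ ?_ ?_ ?_
    · rw [← map_mul, hq1, hCm]
      intro b hb
      calc x * x * b * (x * x)⁻¹ = x * (x * b * x⁻¹) * x⁻¹ := by group
        _ = b := hxx b hb
    · rw [← map_mul, hq1, hCm]
      intro b hb
      calc x' * x' * b * (x' * x')⁻¹ = x' * (x' * b * x'⁻¹) * x'⁻¹ := by group
        _ = b := hxx' b hb
    · rw [← map_mul, ← map_mul, ← inv_mul_eq_one, ← map_inv, ← map_mul, hq1, hCm]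
      intro b hb
      change (x * x')⁻¹ * (x' * x) * b * ((x * x')⁻¹ * (x' * x))⁻¹ = b
      calc (x * x')⁻¹ * (x' * x) * b * ((x * x')⁻¹ * (x' * x))⁻¹ =
          x'⁻¹ * x⁻¹ * (x' * (x * b * x⁻¹) * x'⁻¹) * x * x' := by group
        _ = b := by rw [← hxy b hb]; group
    · intro h
      rw [hq1, hCm] at h
      have h1 := h n hn
      rw [xn, mul_eq_left] at h1
      exact hs1 h1
    · intro h
      rw [hq1, hCm] at h
      have h1 := h n hn
      rw [xn', mul_eq_left] at h1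
      exact hs1' h1
  have h1 : x⁻¹ * x' ∈ C := by
    rw [← inv_mul_eq_one, ← map_inv, ← map_mul, hq1] at key
    exact key
  intro b hb
  have h2 := (hCm _).1 h1 b hb
  calc x * b * x⁻¹ = x * (x⁻¹ * x' * b * (x⁻¹ * x')⁻¹) * x⁻¹ := by rw [h2]
    _ = x' * b * x'⁻¹ := by group

theorem exists_align [Finite G] {S : Sylow 2 G} {V₁ L₁ V₂ L₂ : Subgroup G} {M₁ : FiveMod V₁ L₁}
    {M₂ : FiveMod V₂ L₂} (t₁ : Dih S M₁) (t₂ : Dih S M₂) {y : G}
    (hy : y * M₂.e nn * y⁻¹ = M₁.e nn)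
    (nc : ∀ P : Sylow 2 G, ¬ (P : Subgroup G) ≤ centralizer ({M₁.e nn} : Set G))
    (hB₁ : ∀ b ∈ zc ((S : Subgroup G) ⊓ centralizer ({M₁.e nn} : Set G)), ∀ g ∈ (S : Subgroup G),
      g * b * g⁻¹ = b ∨ g * b * g⁻¹ = b * M₁.e ss)
    (hB₂ : ∀ b ∈ zc ((S : Subgroup G) ⊓ centralizer ({M₂.e nn} : Set G)), ∀ g ∈ (S : Subgroup G),
      g * b * g⁻¹ = b ∨ g * b * g⁻¹ = b * M₂.e ss) :
    ∃ g h : G, y = h * g ∧ (∀ x ∈ (S : Subgroup G), g * x * g⁻¹ ∈ (S : Subgroup G)) ∧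
      h * M₁.e nn = M₁.e nn * h ∧ g * M₂.e nn * g⁻¹ = M₁.e nn ∧ g * M₂.e aa * g⁻¹ = M₁.e aa := by
  set N := centralizer ({M₁.e nn} : Set G) with hN
  set T := (S : Subgroup G) ⊓ N with hT
  set T₂ := (S : Subgroup G) ⊓ centralizer ({M₂.e nn} : Set G) with hT₂
  have hcard : Nat.card T = Nat.card T₂ := by
    have h1 := t₁.card_S
    have h2 := t₂.card_S
    rw [← hN, ← hT] at h1
    rw [← hT₂] at h2
    omega
  have hTp : IsPGroup 2 T := S.isPGroup'.to_le inf_le_left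
  have hT₂p : IsPGroup 2 T₂ := S.isPGroup'.to_le inf_le_left
  -- conjugate `T₂ ^ y` to `T` in `N`
  have h1 : cj y T₂ ≤ N := by
    rintro _ ⟨x, hx, rfl⟩
    refine mem_C.2 ?_
    have h2 := mem_C.1 hx.2
    change y * x * y⁻¹ * M₁.e nn = M₁.e nn * (y * x * y⁻¹)
    rw [← hy]
    calc y * x * y⁻¹ * (y * M₂.e nn * y⁻¹) = y * (x * M₂.e nn) * y⁻¹ := by group
      _ = y * (M₂.e nn * x) * y⁻¹ := by rw [h2]
      _ = y * M₂.e nn * y⁻¹ * (y * x * y⁻¹) := by group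
  obtain ⟨c, hcN, hc⟩ := TTn.exists_conj_le_of_odd_relIndex hTp (t₁.not_dvd nc)
    (isPGroup_cj y hT₂p) h1
  have hcn : c * M₁.e nn = M₁.e nn * c := mem_C.1 hcN
  obtain ⟨k, hk⟩ : ∃ k, k = c * y := ⟨_, rfl⟩
  have hkT : cj k T₂ = T := by
    refine eq_of_le_of_card_ge ?_ ?_
    · rintro _ ⟨x, hx, rfl⟩
      have h2 := hc (y * x * y⁻¹) ⟨x, hx, rfl⟩
      have h3 : c * (y * x * y⁻¹) * c⁻¹ = k * x * k⁻¹ := by rw [hk]; group
      rw [h3] at h2
      exact h2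
    · rw [hcard]
      exact (Nat.card_congr (T₂.equivMapOfInjective _ (MulAut.conj k).injective).toEquiv).le
  have hkn : k * M₂.e nn * k⁻¹ = M₁.e nn := by
    have h2 : k * M₂.e nn * k⁻¹ = c * (y * M₂.e nn * y⁻¹) * c⁻¹ := by rw [hk]; group
    rw [h2, hy, hcn, mul_inv_cancel_right]
  -- transport of `zc T₂`
  have hkz : ∀ {b : G}, b ∈ zc T₂ → k * b * k⁻¹ ∈ zc T := by
    intro b hb
    obtain ⟨h3, h4, h5⟩ := MinSimple.VModule.mem_zc.1 hb
    refine MinSimple.VModule.mem_zc.2 ⟨?_, ?_, ?_⟩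
    · rw [← hkT]; exact ⟨_, h3, rfl⟩
    · intro u hu
      rw [← hkT] at hu
      obtain ⟨u', hu', rfl⟩ := hu
      have h6 := h4 u' hu'
      change k * u' * k⁻¹ * (k * b * k⁻¹) = k * b * k⁻¹ * (k * u' * k⁻¹)
      calc k * u' * k⁻¹ * (k * b * k⁻¹) = k * (u' * b) * k⁻¹ := by group
        _ = k * (b * u') * k⁻¹ := by rw [h6]
        _ = k * b * k⁻¹ * (k * u' * k⁻¹) := by group
    · rw [pow_two] at h5 ⊢
      calc k * b * k⁻¹ * (k * b * k⁻¹) = k * (b * b) * k⁻¹ := by group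
        _ = 1 := by rw [h5]; group
  have hkz' : ∀ {b : G}, b ∈ zc T → k⁻¹ * b * k ∈ zc T₂ := by
    intro b hb
    obtain ⟨h3, h4, h5⟩ := MinSimple.VModule.mem_zc.1 hb
    have hT2k : ∀ u, u ∈ T₂ ↔ k * u * k⁻¹ ∈ T := by
      intro u
      rw [← hkT, mem_cj]
      have e : k⁻¹ * (k * u * k⁻¹) * k = u := by group
      rw [e]
    refine MinSimple.VModule.mem_zc.2 ⟨?_, ?_, ?_⟩
    · rw [hT2k]
      have e : k * (k⁻¹ * b * k) * k⁻¹ = b := by group
      rwa [e]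
    · intro u hu
      have h6 := h4 _ ((hT2k u).1 hu)
      calc u * (k⁻¹ * b * k) = k⁻¹ * (k * u * k⁻¹ * b) * k := by group
        _ = k⁻¹ * (b * (k * u * k⁻¹)) * k := by rw [h6]
        _ = k⁻¹ * b * k * u := by group
    · rw [pow_two] at h5 ⊢
      calc k⁻¹ * b * k * (k⁻¹ * b * k) = k⁻¹ * (b * b) * k := by group
        _ = 1 := by rw [h5]; group
  have hzc : ∀ b ∈ zc T, ∀ b' ∈ zc T, b * b' = b' * b := MinSimple.VModule.zc_comm T
  have hz2 : ∀ b ∈ zc T, b * b = 1 := fun b hb => by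
    rw [← pow_two]; exact MinSimple.VModule.zc_sq T b hb
  obtain ⟨x, hxS, hx⟩ := t₁.exists_swap
  obtain ⟨x₂, hx₂S, hx₂⟩ := t₂.exists_swap
  obtain ⟨x', hx'⟩ : ∃ x', x' = k * x₂ * k⁻¹ := ⟨_, rfl⟩
  obtain ⟨s', hs'⟩ : ∃ s', s' = k * M₂.e ss * k⁻¹ := ⟨_, rfl⟩
  have hconj : ∀ g b c : G, g * (b * c) * g⁻¹ = g * b * g⁻¹ * (g * c * g⁻¹) := fun g b c => by group
  have hnB : M₁.e nn ∈ zc T := t₁.n_mem_zT
  have hsB : M₁.e ss ∈ zc T := t₁.s_mem_zT
  have hs'B : s' ∈ zc T := hs' ▸ hkz t₂.s_mem_zT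
  have hs'1 : s' ≠ 1 := by
    rw [hs', Ne, mul_inv_eq_one, mul_eq_left]
    exact s_ne M₂
  have ha' : k * M₂.e aa * k⁻¹ = M₁.e nn * s' := by rw [← ns M₂, hconj, hkn, hs']
  have hSH : (S : Subgroup G) ≤ normalizer (T : Set G) := t₁.S_le_normalizer_T
  have hS₂H : cj k (S : Subgroup G) ≤ normalizer (T : Set G) := by
    rw [← hkT, ← cj_normalizer]
    exact cj_mono k t₂.S_le_normalizer_T
  have hx'S : x' ∈ cj k (S : Subgroup G) := ⟨x₂, hx₂S, hx'.symm⟩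
  have ax : ∀ b ∈ zc T, x * b * x⁻¹ = b ∨ x * b * x⁻¹ = b * M₁.e ss := fun b hb => hB₁ b hb x hxS
  have ax' : ∀ b ∈ zc T, x' * b * x'⁻¹ = b ∨ x' * b * x'⁻¹ = b * s' := by
    intro b hb
    have e1 : x' * b * x'⁻¹ = k * (x₂ * (k⁻¹ * b * k) * x₂⁻¹) * k⁻¹ := by rw [hx']; group
    have e2 : k * (k⁻¹ * b * k) * k⁻¹ = b := by group
    rcases hB₂ _ (hkz' hb) x₂ hx₂S with h2 | h2
    · left
      rw [e1, h2, e2]
    · right
      rw [e1, h2, hconj, e2, hs']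
  have xn : x * M₁.e nn * x⁻¹ = M₁.e nn * M₁.e ss := by rw [Dih.tt_n hx, ns]
  have xs : x * M₁.e ss * x⁻¹ = M₁.e ss := Dih.tt_s hx
  have xn' : x' * M₁.e nn * x'⁻¹ = M₁.e nn * s' := by
    have e1 : x' * M₁.e nn * x'⁻¹ = k * (x₂ * (k⁻¹ * M₁.e nn * k) * x₂⁻¹) * k⁻¹ := by rw [hx']; group
    have e2 : k⁻¹ * M₁.e nn * k = M₂.e nn := by rw [← hkn]; group
    rw [e1, e2, Dih.tt_n hx₂, ha']
  have ys' : x' * s' * x'⁻¹ = s' := by
    have e1 : x' * s' * x'⁻¹ = k * (x₂ * M₂.e ss * x₂⁻¹) * k⁻¹ := by rw [hx', hs']; group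
    rw [e1, Dih.tt_s hx₂, hs']
  -- elements of `S` and of `S ^ k`
  have hTb : ∀ g ∈ T, ∀ b ∈ zc T, g * b * g⁻¹ = b := by
    intro g hg b hb
    rw [(MinSimple.VModule.mem_zc.1 hb).2.1 g hg, mul_inv_cancel_right]
  have hmem : ∀ g ∈ (S : Subgroup G), g ∈ T ∨ g * x ∈ T := fun g hg => t₁.mem_or hxS hx hg
  have hmem' : ∀ g ∈ cj k (S : Subgroup G), g ∈ T ∨ g * x' ∈ T := by
    rintro _ ⟨g, hg, rfl⟩
    change k * g * k⁻¹ ∈ T ∨ k * g * k⁻¹ * x' ∈ T
    rcases t₂.mem_or hx₂S hx₂ hg with h2 | h2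
    · left
      rw [← hkT]
      exact ⟨g, h2, rfl⟩
    · right
      rw [← hkT]
      refine ⟨g * x₂, h2, ?_⟩
      change k * (g * x₂) * k⁻¹ = _
      rw [hx']
      group
  -- (i)
  have xs' : x * s' * x⁻¹ = s' := by
    rcases ax s' hs'B with h2 | h2
    · exact h2
    exfalso
    refine nc_conj nc x' S ?_
    rw [xn']
    have h3 : x * (M₁.e nn * s') * x⁻¹ = M₁.e nn * s' := by
      rw [hconj, xn, h2, hzc s' hs'B _ hsB, mul_assoc, ← mul_assoc (M₁.e ss), M₁.e_sq, one_mul]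
    intro g hg
    refine mem_C.2 ?_
    rcases hmem g hg with h4 | h4
    · exact (MinSimple.VModule.mem_zc.1 (mul_mem hnB hs'B)).2.1 g h4
    · have h5 := (MinSimple.VModule.mem_zc.1 (mul_mem hnB hs'B)).2.1 _ h4
      rw [mul_inv_eq_iff_eq_mul] at h3
      have h6 : g * (M₁.e nn * s') * x = M₁.e nn * s' * g * x := by
        calc g * (M₁.e nn * s') * x = g * (M₁.e nn * s' * x) := by group
          _ = g * (x * (M₁.e nn * s')) := by rw [h3]
          _ = g * x * (M₁.e nn * s') := by group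
          _ = M₁.e nn * s' * (g * x) := h5
          _ = M₁.e nn * s' * g * x := by group
      exact mul_right_cancel h6
  -- (ii)
  have ys : x' * M₁.e ss * x'⁻¹ = M₁.e ss := by
    rcases ax' _ hsB with h2 | h2
    · exact h2
    exfalso
    refine nc_conj nc x (k • S) ?_
    rw [xn]
    have h3 : x' * (M₁.e nn * M₁.e ss) * x'⁻¹ = M₁.e nn * M₁.e ss := by
      rw [hconj, xn', h2, hzc _ hsB s' hs'B, mul_assoc, ← mul_assoc s', hz2 s' hs'B, one_mul]
    intro g hg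
    have hg' : g ∈ cj k (S : Subgroup G) := hg
    refine mem_C.2 ?_
    rcases hmem' g hg' with h4 | h4
    · exact (MinSimple.VModule.mem_zc.1 (mul_mem hnB hsB)).2.1 g h4
    · have h5 := (MinSimple.VModule.mem_zc.1 (mul_mem hnB hsB)).2.1 _ h4
      rw [mul_inv_eq_iff_eq_mul] at h3
      have h6 : g * (M₁.e nn * M₁.e ss) * x' = M₁.e nn * M₁.e ss * g * x' := by
        calc g * (M₁.e nn * M₁.e ss) * x' = g * (M₁.e nn * M₁.e ss * x') := by group
          _ = g * (x' * (M₁.e nn * M₁.e ss)) := by rw [h3]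
          _ = g * x' * (M₁.e nn * M₁.e ss) := by group
          _ = M₁.e nn * M₁.e ss * (g * x') := h5
          _ = M₁.e nn * M₁.e ss * g * x' := by group
      exact mul_right_cancel h6
  -- (iii)
  have hsame := same_action (S := S) (H := normalizer (T : Set G)) (B := zc T) hSH
    (normalizer_le_normalizer_zc T) hzc hz2 (x := x) (x' := x') (n := M₁.e nn) (s := M₁.e ss) (s' := s')
    (fun g hg => (hmem g hg).imp (fun h4 => hTb g h4) fun h4 => hTb _ h4) (hSH hxS) (hS₂H hx'S) hnB hsB hs'B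
    (s_ne M₁) hs'1 ax ax' xn xn' xs xs' ys ys'
  -- (iv)
  have hss : s' = M₁.e ss := by
    have h2 := hsame _ hnB
    rw [xn, xn'] at h2
    exact (mul_left_cancel h2).symm
  have hks : k * M₂.e ss * k⁻¹ = M₁.e ss := by rw [← hs', hss]
  -- (v)
  obtain ⟨C, hC⟩ : ∃ C, C = normalizer (T : Set G) ⊓ centralizer (zc T : Set G) := ⟨_, rfl⟩
  have hSK : (S : Subgroup G) ≤ C ⊔ S := le_sup_right
  have hTC : T ≤ C := by
    rw [hC]
    exact le_inf le_normalizer (le_centralizer_zc T)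
  have hxx' : x⁻¹ * x' ∈ C := by
    rw [hC]
    refine ⟨(normalizer (T : Set G)).mul_mem ((normalizer (T : Set G)).inv_mem (hSH hxS)) (hS₂H hx'S),
      mem_centralizer_iff.2 fun b hb => ?_⟩
    have h2 := hsame b hb
    calc b * (x⁻¹ * x') = x⁻¹ * (x * b * x⁻¹) * x' := by group
      _ = x⁻¹ * (x' * b * x'⁻¹) * x' := by rw [h2]
      _ = x⁻¹ * x' * b := by group
  have hx'K : x' ∈ C ⊔ (S : Subgroup G) := by
    have e : x' = x * (x⁻¹ * x') := by group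
    rw [e]
    exact mul_mem (mem_sup_right hxS) (mem_sup_left hxx')
  have hS₂K : cj k (S : Subgroup G) ≤ C ⊔ S := by
    intro g hg
    rcases hmem' g hg with h4 | h4
    · exact mem_sup_left (hTC h4)
    · have h5 := mul_mem (mem_sup_left (hTC h4) : g * x' ∈ C ⊔ (S : Subgroup G)) (inv_mem hx'K)
      rwa [mul_inv_cancel_right] at h5
  obtain ⟨c', hc'K, hc'⟩ := exists_conj_le_sylow S _ _ hSK (isPGroup_cj k S.isPGroup') hS₂K
  let Pr : Subgroup G :=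
    { carrier := {g | (g * M₁.e nn * g⁻¹ = M₁.e nn ∧ g * M₁.e aa * g⁻¹ = M₁.e aa) ∨
        (g * M₁.e nn * g⁻¹ = M₁.e aa ∧ g * M₁.e aa * g⁻¹ = M₁.e nn)}
      one_mem' := Or.inl ⟨by group, by group⟩
      mul_mem' := by
        intro a b ha hb
        have e : ∀ z : G, a * b * z * (a * b)⁻¹ = a * (b * z * b⁻¹) * a⁻¹ := fun z => by group
        rcases hb with ⟨h2, h3⟩ | ⟨h2, h3⟩ <;> rcases ha with ⟨h4, h5⟩ | ⟨h4, h5⟩
        · exact Or.inl ⟨by rw [e, h2, h4], by rw [e, h3, h5]⟩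
        · exact Or.inr ⟨by rw [e, h2, h4], by rw [e, h3, h5]⟩
        · exact Or.inr ⟨by rw [e, h2, h5], by rw [e, h3, h4]⟩
        · exact Or.inl ⟨by rw [e, h2, h5], by rw [e, h3, h4]⟩
      inv_mem' := by
        intro a ha
        have e : ∀ z w : G, a * z * a⁻¹ = w → a⁻¹ * w * a⁻¹⁻¹ = z := fun z w h => by rw [← h]; group
        rcases ha with ⟨h4, h5⟩ | ⟨h4, h5⟩
        · exact Or.inl ⟨e _ _ h4, e _ _ h5⟩
        · exact Or.inr ⟨e _ _ h5, e _ _ h4⟩ }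
  have hPr : C ⊔ (S : Subgroup G) ≤ Pr := by
    have haB : M₁.e aa ∈ zc T := by rw [← ns M₁]; exact mul_mem hnB hsB
    have hCP : C ≤ Pr := by
      intro g hg
      rw [hC] at hg
      refine Or.inl ⟨?_, ?_⟩
      · rw [← mem_centralizer_iff.1 hg.2 _ hnB, mul_inv_cancel_right]
      · rw [← mem_centralizer_iff.1 hg.2 _ haB, mul_inv_cancel_right]
    have hxP : x ∈ Pr := Or.inr ⟨Dih.tt_n hx, Dih.tt_a hx⟩
    refine sup_le hCP fun g hg => ?_
    rcases hmem g hg with h4 | h4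
    · exact hCP (hTC h4)
    · have h5 := Pr.mul_mem (hCP (hTC h4)) (Pr.inv_mem hxP)
      rwa [mul_inv_cancel_right] at h5
  have hc's : ∀ {g : G}, g ∈ Pr → g * M₁.e ss * g⁻¹ = M₁.e ss := by
    intro g hg
    rw [← na M₁, hconj]
    rcases hg with ⟨h2, h3⟩ | ⟨h2, h3⟩
    · rw [h2, h3]
    · rw [h2, h3, M₁.e_comm]
  -- the element `r`
  obtain ⟨r, hrS, hrn, hrs⟩ : ∃ r : G, (∀ x ∈ cj k (S : Subgroup G), r * x * r⁻¹ ∈ (S : Subgroup G)) ∧
      r * M₁.e nn * r⁻¹ = M₁.e nn ∧ r * M₁.e ss * r⁻¹ = M₁.e ss := by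
    have h5 := hPr hc'K
    have h6 := hc's h5
    rcases h5 with ⟨h2, h3⟩ | ⟨h2, h3⟩
    · exact ⟨c', hc', h2, h6⟩
    · refine ⟨x * c', fun z hz => ?_, ?_, ?_⟩
      · have h7 := mul_mem (mul_mem hxS (hc' z hz)) (inv_mem hxS)
        have h8 : x * (c' * z * c'⁻¹) * x⁻¹ = x * c' * z * (x * c')⁻¹ := by group
        rwa [h8] at h7
      · calc x * c' * M₁.e nn * (x * c')⁻¹ = x * (c' * M₁.e nn * c'⁻¹) * x⁻¹ := by group
          _ = M₁.e nn := by rw [h2, Dih.tt_a hx]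
      · calc x * c' * M₁.e ss * (x * c')⁻¹ = x * (c' * M₁.e ss * c'⁻¹) * x⁻¹ := by group
          _ = M₁.e ss := by rw [h6, Dih.tt_s hx]
  have hrn' : r * M₁.e nn = M₁.e nn * r := by rwa [mul_inv_eq_iff_eq_mul] at hrn
  refine ⟨r * k, y * (r * k)⁻¹, by group, ?_, ?_, ?_, ?_⟩
  · intro x hx
    have h2 := hrS (k * x * k⁻¹) ⟨x, hx, rfl⟩
    have h3 : r * (k * x * k⁻¹) * r⁻¹ = r * k * x * (r * k)⁻¹ := by group
    rwa [h3] at h2
  · have h2 : y * (r * k)⁻¹ = c⁻¹ * r⁻¹ := by rw [hk]; group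
    rw [h2]
    have h3 : (r * c) * M₁.e nn = M₁.e nn * (r * c) := by
      rw [mul_assoc, hcn, ← mul_assoc, hrn', mul_assoc]
    have h4 : c⁻¹ * r⁻¹ = (r * c)⁻¹ := by group
    rw [h4, inv_mul_eq_iff_eq_mul, ← mul_assoc, h3, mul_inv_cancel_right]
  · calc r * k * M₂.e nn * (r * k)⁻¹ = r * (k * M₂.e nn * k⁻¹) * r⁻¹ := by group
      _ = M₁.e nn := by rw [hkn, hrn]
  · rw [← ns M₂, ← ns M₁]
    calc r * k * (M₂.e nn * M₂.e ss) * (r * k)⁻¹ =
          (r * (k * M₂.e nn * k⁻¹) * r⁻¹) * (r * (k * M₂.e ss * k⁻¹) * r⁻¹) := by group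
      _ = M₁.e nn * M₁.e ss := by rw [hkn, hks, hrn, hrs]

end Cfsg.Agent.Omega.TTn.Z
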