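import Cfsg.Agent.Omega.TTn.Calc
import Cfsg.Agent.Omega.S5.ChiConst

/-!
# `a ^ C(n)` is connected (#15257 (5) of helper816; arbitrary `V₀`)

* `orbit`: a 2-group `T` with exactly one fixed point `a` on `cls N a`, `R` an `N`-invariant equivalence relation:
  in every block there is a `c` fixed by the stabiliser of the block in `T`, and `u` = product of the `T`-orbit of `c`;
* `Con.conn`: `cls N a` is connected with respect to `[Wf c, d] ≠ 1`.
-/

set_option autoImplicit false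
set_option linter.unusedSectionVars false

namespace Cfsg.Agent.Omega.TTn.Z.Conn

open Subgroup
open Cfsg.Agent.Omega.S5.ChiConst (cls)
open Cfsg.Agent.Omega.TTn.Calc (conj_eq_iff comm_conj_iff)

variable {G : Type*} [Group G]

theorem cls_conj {N : Subgroup G} {a c g : G} (hc : c ∈ cls N a) (hg : g ∈ N) : g * c * g⁻¹ ∈ cls N a := by
  obtain ⟨k, hk, rfl⟩ := hc
  exact ⟨g * k, mul_mem hg hk, by group⟩

theorem cls_conj' {N : Subgroup G} {a c g : G} (hc : c ∈ cls N a) (hg : g ∈ N) : g⁻¹ * c * g ∈ cls N a := by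
  have := cls_conj hc (inv_mem hg)
  rwa [inv_inv] at this

theorem a_cls {N : Subgroup G} {a : G} : a ∈ cls N a := ⟨1, one_mem _, by group⟩

/-! ### The orbit lemma -/

/-- an equivalence relation on `cls N a` invariant under `N` -/
structure Rel (N : Subgroup G) (a : G) (R : G → G → Prop) : Prop where
  refl : ∀ c ∈ cls N a, R c c
  symm : ∀ c ∈ cls N a, ∀ d ∈ cls N a, R c d → R d c
  trans : ∀ c ∈ cls N a, ∀ d ∈ cls N a, ∀ e ∈ cls N a, R c d → R d e → R c e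
  inv : ∀ g ∈ N, ∀ c ∈ cls N a, ∀ d ∈ cls N a, R c d → R (g * c * g⁻¹) (g * d * g⁻¹)

/-- the block of `c` -/
def Bl (N : Subgroup G) (a : G) (R : G → G → Prop) (c : G) : Type _ := {d : G // d ∈ cls N a ∧ R d c}

/-- a subgroup of `N` stabilising the block acts on it -/
@[reducible] def blAct {N : Subgroup G} {a : G} {R : G → G → Prop} (h : Rel N a R) {c : G} (hc : c ∈ cls N a)
    (K : Subgroup G) (hK : K ≤ N) (hS : ∀ k ∈ K, R (k * c * k⁻¹) c) : MulAction K (Bl N a R c) where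
  smul k d := ⟨k * d.1 * (k : G)⁻¹, cls_conj d.2.1 (hK k.2),
    h.trans _ (cls_conj d.2.1 (hK k.2)) _ (cls_conj hc (hK k.2)) _ hc
      (h.inv k (hK k.2) _ d.2.1 _ hc d.2.2) (hS k k.2)⟩
  one_smul d := Subtype.ext (by
    show (1 : G) * d.1 * (1 : G)⁻¹ = d.1
    group)
  mul_smul k l d := Subtype.ext (by
    show ((k * l : K) : G) * d.1 * ((k * l : K) : G)⁻¹ = k * (l * d.1 * (l : G)⁻¹) * (k : G)⁻¹
    rw [Subgroup.coe_mul]
    group)

/-- all blocks have the same size -/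
theorem card_bl {N : Subgroup G} {a : G} {R : G → G → Prop} (h : Rel N a R) {c : G} (hc : c ∈ cls N a) :
    Nat.card (Bl N a R c) = Nat.card (Bl N a R a) := by
  obtain ⟨g, hg, rfl⟩ := hc
  refine Nat.card_congr ⟨fun d => ⟨g⁻¹ * d.1 * g, cls_conj' d.2.1 hg, ?_⟩,
    fun d => ⟨g * d.1 * g⁻¹, cls_conj d.2.1 hg, h.inv g hg _ d.2.1 _ a_cls d.2.2⟩,
    fun d => Subtype.ext (by dsimp only; group), fun d => Subtype.ext (by dsimp only; group)⟩
  have h1 := h.inv g⁻¹ (inv_mem hg) _ d.2.1 _ (cls_conj a_cls hg) d.2.2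
  have e : g⁻¹ * (g * a * g⁻¹) * g⁻¹⁻¹ = a := by group
  rwa [e, inv_inv] at h1

theorem orbit [Finite G] {a : G} {N U T : Subgroup G} {R : G → G → Prop} (h : Rel N a R)
    (hcU : ∀ c ∈ cls N a, c ∈ U) (hUN : ∀ g ∈ N, ∀ u ∈ U, g * u * g⁻¹ ∈ U)
    (Ucomm : ∀ u ∈ U, ∀ v ∈ U, u * v = v * u) (hT : IsPGroup 2 T) (hTN : T ≤ N)
    (hTa : ∀ t ∈ T, t * a = a * t) (heq : ∀ c ∈ cls N a, (∀ t ∈ T, t * c = c * t) → c = a)
    {c₀ : G} (hc₀ : c₀ ∈ cls N a) :
    ∃ c ∈ cls N a, R c c₀ ∧ (∀ t ∈ T, R (t * c * t⁻¹) c → t * c * t⁻¹ = c) ∧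
      ∃ u ∈ U, (∀ t ∈ T, t * u = u * t) ∧
      (∀ w, (∀ t ∈ T, t * c * t⁻¹ ≠ c → w * (t * c * t⁻¹) = t * c * t⁻¹ * w) → w * c ≠ c * w →
        w * u ≠ u * w) ∧
      (∀ w, (∀ t ∈ T, w * (t * c * t⁻¹) = t * c * t⁻¹ * w) → w * u = u * w) := by
  classical
  have hodd : ¬ 2 ∣ Nat.card (Bl N a R a) := by
    let _ := blAct h a_cls T hTN (fun t ht => by
      have e : t * a * t⁻¹ = a := conj_eq_iff.2 (hTa t ht)
      rw [e]
      exact h.refl _ a_cls)
    have := Fact.mk Nat.prime_two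
    have : Finite (Bl N a R a) := Subtype.finite
    have h2 := hT.card_modEq_card_fixedPoints (Bl N a R a)
    have h3 : Nat.card (MulAction.fixedPoints T (Bl N a R a)) = 1 := by
      rw [Nat.card_eq_one_iff_unique]
      have key : ∀ d : MulAction.fixedPoints T (Bl N a R a), d.1.1 = a := by
        rintro ⟨d, hd⟩
        refine heq _ d.2.1 fun t ht => ?_
        have h5 : t * d.1 * t⁻¹ = d.1 := congrArg Subtype.val (hd ⟨t, ht⟩)
        exact conj_eq_iff.1 h5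
      refine ⟨⟨fun x y => Subtype.ext (Subtype.ext ((key x).trans (key y).symm))⟩,
        ⟨⟨⟨a, a_cls, h.refl _ a_cls⟩, fun t => Subtype.ext ?_⟩⟩⟩
      exact conj_eq_iff.2 (hTa t t.2)
    rw [h3] at h2
    intro h4
    have h5 := (Nat.modEq_zero_iff_dvd.mpr h4).symm.trans h2
    exact absurd h5 (by decide)
  let T₂ : Subgroup G :=
    { carrier := {t | t ∈ T ∧ R (t * c₀ * t⁻¹) c₀}
      one_mem' := ⟨one_mem _, by
        have e : (1 : G) * c₀ * 1⁻¹ = c₀ := by group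
        rw [e]
        exact h.refl _ hc₀⟩
      mul_mem' := by
        rintro t s ⟨ht, ht'⟩ ⟨hs, hs'⟩
        refine ⟨mul_mem ht hs, ?_⟩
        have h2 := h.inv t (hTN ht) _ (cls_conj hc₀ (hTN hs)) _ hc₀ hs'
        have e : t * s * c₀ * (t * s)⁻¹ = t * (s * c₀ * s⁻¹) * t⁻¹ := by group
        rw [e]
        exact h.trans _ (cls_conj (cls_conj hc₀ (hTN hs)) (hTN ht)) _ (cls_conj hc₀ (hTN ht)) _ hc₀ h2 ht'
      inv_mem' := by
        rintro t ⟨ht, ht'⟩
        refine ⟨inv_mem ht, ?_⟩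
        have h2 := h.inv t⁻¹ (inv_mem (hTN ht)) _ (cls_conj hc₀ (hTN ht)) _ hc₀ ht'
        have e : t⁻¹ * (t * c₀ * t⁻¹) * t⁻¹⁻¹ = c₀ := by group
        rw [e] at h2
        exact h.symm _ hc₀ _ (cls_conj hc₀ (inv_mem (hTN ht))) h2 }
  obtain ⟨c, hcS, hcT⟩ : ∃ c : G, (c ∈ cls N a ∧ R c c₀) ∧ ∀ t ∈ T₂, t * c * t⁻¹ = c := by
    let _ := blAct h hc₀ T₂ (fun t ht => hTN ht.1) (fun t ht => ht.2)
    have := Fact.mk Nat.prime_two
    have : Finite (Bl N a R c₀) := Subtype.finite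
    have hT₂ : IsPGroup 2 T₂ := hT.to_le (fun t ht => ht.1)
    obtain ⟨d, hd⟩ := hT₂.nonempty_fixed_point_of_prime_not_dvd_card (Bl N a R c₀)
      (by rw [card_bl h hc₀]; exact hodd)
    exact ⟨d.1, d.2, fun t ht => congrArg Subtype.val (hd ⟨t, ht⟩)⟩
  have hcA := hcS.1
  have hcU' := hcU c hcA
  have hst : ∀ t ∈ T, R (t * c * t⁻¹) c → t * c * t⁻¹ = c := by
    intro t ht hs
    refine hcT t ⟨ht, ?_⟩
    have h2 := h.inv t (hTN ht) _ hcA _ hc₀ hcS.2
    exact h.trans _ (cls_conj hc₀ (hTN ht)) _ (cls_conj hcA (hTN ht)) _ hc₀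
      (h.symm _ (cls_conj hcA (hTN ht)) _ (cls_conj hc₀ (hTN ht)) h2)
      (h.trans _ (cls_conj hcA (hTN ht)) _ hcA _ hc₀ hs hcS.2)
  refine ⟨c, hcA, hcS.2, hst, ?_⟩
  let _ : CommGroup U := { (inferInstance : Group U) with
    mul_comm := fun x y => Subtype.ext (Ucomm x x.2 y y.2) }
  let _ : Fintype U := Fintype.ofFinite U
  let O : Finset U := Finset.univ.filter (fun e : U => ∃ t ∈ T, (e : G) = t * c * t⁻¹)
  have hO : ∀ e : U, e ∈ O ↔ ∃ t ∈ T, (e : G) = t * c * t⁻¹ := fun e => by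
    simp only [O, Finset.mem_filter, Finset.mem_univ, true_and]
  let φ : ∀ g ∈ N, (U →* U) := fun g hg => MonoidHom.mk' (fun e => ⟨g * e * g⁻¹, hUN g hg e e.2⟩)
    (fun x y => Subtype.ext (by
      show g * ((x * y : U) : G) * g⁻¹ = g * x * g⁻¹ * (g * y * g⁻¹)
      rw [Subgroup.coe_mul]
      group))
  set u : U := ∏ e ∈ O, e with hu
  have hcO : (⟨c, hcU'⟩ : U) ∈ O := (hO _).mpr ⟨1, one_mem _, by group⟩
  have huT : ∀ t ∈ T, t * (u : G) = u * t := by
    intro t ht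
    have h2 : φ t (hTN ht) u = u := by
      rw [hu, map_prod]
      refine Finset.prod_nbij' (fun e => φ t (hTN ht) e) (fun e => φ t⁻¹ (inv_mem (hTN ht)) e)
        ?_ ?_ ?_ ?_ ?_
      · intro e he
        obtain ⟨s, hs, hes⟩ := (hO e).mp he
        refine (hO _).mpr ⟨t * s, mul_mem ht hs, ?_⟩
        show t * (e : G) * t⁻¹ = _
        rw [hes]
        group
      · intro e he
        obtain ⟨s, hs, hes⟩ := (hO e).mp he
        refine (hO _).mpr ⟨t⁻¹ * s, mul_mem (inv_mem ht) hs, ?_⟩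
        show t⁻¹ * (e : G) * t⁻¹⁻¹ = _
        rw [hes]
        group
      · intro e _
        apply Subtype.ext
        show t⁻¹ * (t * (e : G) * t⁻¹) * t⁻¹⁻¹ = e
        group
      · intro e _
        apply Subtype.ext
        show t * (t⁻¹ * (e : G) * t⁻¹⁻¹) * t⁻¹ = e
        group
      · intro e _
        rfl
    have h3 : t * (u : G) * t⁻¹ = u := congrArg Subtype.val h2
    exact conj_eq_iff.1 h3
  have hmv : ∀ w : G, (∀ e ∈ O, e ≠ ⟨c, hcU'⟩ → w * (e : G) = e * w) → w * c ≠ c * w →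
      w * (u : G) ≠ u * w := by
    intro w hw hwc h0
    have h2 : ((∏ e ∈ O.erase ⟨c, hcU'⟩, e : U) : G) ∈ centralizer ({w} : Set G) := by
      have h3 : (∏ e ∈ O.erase ⟨c, hcU'⟩, e : U) ∈ (centralizer ({w} : Set G)).subgroupOf U := by
        refine prod_mem fun e he => ?_
        rw [mem_subgroupOf, mem_centralizer_singleton_iff]
        exact (hw e (Finset.mem_of_mem_erase he) (Finset.ne_of_mem_erase he)).symm
      exact h3
    rw [mem_centralizer_singleton_iff] at h2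
    have h3 : (u : G) = c * ((∏ e ∈ O.erase ⟨c, hcU'⟩, e : U) : G) := by
      have h4 := Finset.mul_prod_erase O (fun e => e) hcO
      rw [hu, ← h4]
      rfl
    rw [h3] at h0
    apply hwc
    have h4 : w * c * ((∏ e ∈ O.erase ⟨c, hcU'⟩, e : U) : G) =
        c * w * ((∏ e ∈ O.erase ⟨c, hcU'⟩, e : U) : G) := by
      calc w * c * _ = w * (c * ((∏ e ∈ O.erase ⟨c, hcU'⟩, e : U) : G)) := by group
        _ = c * (((∏ e ∈ O.erase ⟨c, hcU'⟩, e : U) : G) * w) := by rw [h0]; group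
        _ = c * w * _ := by rw [h2]; group
    exact mul_right_cancel h4
  have hall : ∀ w : G, (∀ e ∈ O, w * (e : G) = e * w) → w * (u : G) = u * w := by
    intro w hw
    have h3 : (∏ e ∈ O, e : U) ∈ (centralizer ({w} : Set G)).subgroupOf U := by
      refine prod_mem fun e he => ?_
      rw [mem_subgroupOf, mem_centralizer_singleton_iff]
      exact (hw e he).symm
    rw [mem_subgroupOf, mem_centralizer_singleton_iff] at h3
    exact h3.symm
  refine ⟨u, u.2, huT, fun w hw hwc => hmv w (fun e he hne => ?_) hwc, fun w hw => hall w fun e he => ?_⟩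
  · obtain ⟨t, ht, het⟩ := (hO e).mp he
    rw [het]
    refine hw t ht fun h0 => hne (Subtype.ext ?_)
    rw [het]
    exact h0
  · obtain ⟨t, ht, het⟩ := (hO e).mp he
    rw [het]
    exact hw t ht

/-! ### Partners, adjacency, components -/

/-- the partners of `p`: `(p, d)` is conjugate to `(n, a)` -/
def AA (n a p : G) : Set G := {d | ∃ g, g * n * g⁻¹ = p ∧ g * a * g⁻¹ = d}

/-- adjacency among the partners of `p` -/
def adj (n a : G) (Wf : G → Subgroup G) (p c d : G) : Prop :=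
  c ∈ AA n a p ∧ d ∈ AA n a p ∧ ∃ w ∈ Wf c, w * d ≠ d * w

/-- connectedness among the partners of `p` -/
def cn (n a : G) (Wf : G → Subgroup G) (p : G) : G → G → Prop := Relation.ReflTransGen (adj n a Wf p)

theorem AA_n {n a d : G} : d ∈ AA n a n ↔ d ∈ cls (centralizer ({n} : Set G)) a := by
  constructor
  · rintro ⟨g, hg, hd⟩
    exact ⟨g, mem_centralizer_singleton_iff.2 (conj_eq_iff.1 hg), hd.symm⟩
  · rintro ⟨g, hg, hd⟩
    exact ⟨g, conj_eq_iff.2 (mem_centralizer_singleton_iff.1 hg), hd.symm⟩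

theorem AA_conj {n a p d : G} (g : G) (hd : d ∈ AA n a p) : g * d * g⁻¹ ∈ AA n a (g * p * g⁻¹) := by
  obtain ⟨k, hk, hk'⟩ := hd
  refine ⟨g * k, ?_, ?_⟩
  · rw [← hk]; group
  · rw [← hk']; group

theorem rtg_symm {r : G → G → Prop} (hr : ∀ c d, r c d → r d c) {c d : G} (h : Relation.ReflTransGen r c d) :
    Relation.ReflTransGen r d c := by
  induction h with
  | refl => exact Relation.ReflTransGen.refl
  | tail _ h2 ih => exact Relation.ReflTransGen.head (hr _ _ h2) ih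

/-- The data: `x` exchanges `n` and `a`, `T` is a 2-group in `C(n) ∩ C(a)` with few fixed points. -/
structure Con (n a b x : G) (U T V0 : Subgroup G) (Wf : G → Subgroup G) : Prop where
  cal : Calc.Dat (centralizer ({n} : Set G)) U (cls (centralizer ({n} : Set G)) a) Wf
  eqv : ∀ g c w, w ∈ Wf c → g * w * g⁻¹ ∈ Wf (g * c * g⁻¹)
  xn : x * n * x⁻¹ = a
  xa : x * a * x⁻¹ = n
  nU : n ∈ U
  hT : IsPGroup 2 T
  hTN : ∀ t ∈ T, t * n = n * t
  hTa : ∀ t ∈ T, t * a = a * t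
  heq : ∀ c ∈ cls (centralizer ({n} : Set G)) a, (∀ t ∈ T, t * c = c * t) → c = a
  fix : ∀ u ∈ U, (∀ t ∈ T, t * u = u * t) → ∃ v ∈ V0, u = v ∨ u = v * n ∨ u = v * a ∨ u = v * (n * a)
  V0x : ∀ v ∈ V0, x * v = v * x
  V0b : ∀ v ∈ V0, ∀ w ∈ Wf b, w * v = v * w
  bA : b ∈ cls (centralizer ({n} : Set G)) a
  ab : ∃ w ∈ Wf a, w * b ≠ b * w
  bb : ∃ w ∈ Wf (x * b * x⁻¹), w * b ≠ b * w
  kk : ∃ k, k ∈ Wf a ⊔ Wf b ∧ k * a * k⁻¹ = b

namespace Con

variable {n a b x : G} {U T V0 : Subgroup G} {Wf : G → Subgroup G} (h : Con n a b x U T V0 Wf)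
include h

theorem eqv_iff {g c w : G} : g⁻¹ * w * g ∈ Wf c ↔ w ∈ Wf (g * c * g⁻¹) := by
  constructor
  · intro hw
    have := h.eqv g _ _ hw
    have e : g * (g⁻¹ * w * g) * g⁻¹ = w := by group
    rwa [e] at this
  · intro hw
    have := h.eqv g⁻¹ _ _ hw
    have e : g⁻¹ * (g * c * g⁻¹) * g⁻¹⁻¹ = c := by group
    rwa [e, inv_inv] at this

theorem swap {p d : G} (hd : d ∈ AA n a p) : p ∈ AA n a d := by
  obtain ⟨g, hg, hg'⟩ := hd
  refine ⟨g * x, ?_, ?_⟩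
  · have e : g * x * n * (g * x)⁻¹ = g * (x * n * x⁻¹) * g⁻¹ := by group
    rw [e, h.xn, hg']
  · have e : g * x * a * (g * x)⁻¹ = g * (x * a * x⁻¹) * g⁻¹ := by group
    rw [e, h.xa, hg]

theorem adj_conj (g : G) {p c d : G} (ha : adj n a Wf p c d) :
    adj n a Wf (g * p * g⁻¹) (g * c * g⁻¹) (g * d * g⁻¹) := by
  obtain ⟨hc, hd, w, hw, hwd⟩ := ha
  refine ⟨AA_conj g hc, AA_conj g hd, g * w * g⁻¹, h.eqv g c w hw, fun h0 => hwd ?_⟩
  have h1 := comm_conj_iff.1 h0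
  have e : g⁻¹ * (g * d * g⁻¹) * g = d := by group
  rwa [e] at h1

theorem cn_conj (g : G) {p c d : G} (hc : cn n a Wf p c d) :
    cn n a Wf (g * p * g⁻¹) (g * c * g⁻¹) (g * d * g⁻¹) := by
  induction hc with
  | refl => exact Relation.ReflTransGen.refl
  | tail _ h2 ih => exact ih.tail (h.adj_conj g h2)

theorem cn_conj_n {g : G} (hg : g * n = n * g) {c d : G} (hc : cn n a Wf n c d) :
    cn n a Wf n (g * c * g⁻¹) (g * d * g⁻¹) := by
  have := h.cn_conj g hc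
  rwa [conj_eq_iff.2 hg] at this

theorem x_inv_a : x⁻¹ * a * x = n := by rw [← h.xn]; group

theorem x_inv_n : x⁻¹ * n * x = a := by rw [← h.xa]; group

variable [Finite G]

theorem adj_symm_n {c d : G} (hcd : adj n a Wf n c d) : adj n a Wf n d c := by
  obtain ⟨hc, hd, hw⟩ := hcd
  exact ⟨hd, hc, h.cal.sym c (AA_n.1 hc) d (AA_n.1 hd) hw⟩

theorem adj_symm_a {c d : G} (hcd : adj n a Wf a c d) : adj n a Wf a d c := by
  have h1 := h.adj_conj x⁻¹ hcd
  rw [inv_inv, h.x_inv_a] at h1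
  have h2 := h.adj_conj x (h.adj_symm_n h1)
  rw [h.xn] at h2
  have e1 : x * (x⁻¹ * d * x) * x⁻¹ = d := by group
  have e2 : x * (x⁻¹ * c * x) * x⁻¹ = c := by group
  rwa [e1, e2] at h2

theorem cn_symm_n {c d : G} (hcd : cn n a Wf n c d) : cn n a Wf n d c :=
  rtg_symm (fun _ _ h1 => h.adj_symm_n h1) hcd

theorem cn_symm_a {c d : G} (hcd : cn n a Wf a c d) : cn n a Wf a d c :=
  rtg_symm (fun _ _ h1 => h.adj_symm_a h1) hcd

theorem rel : Rel (centralizer ({n} : Set G)) a (cn n a Wf n) where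
  refl _ _ := Relation.ReflTransGen.refl
  symm _ _ _ _ h1 := h.cn_symm_n h1
  trans _ _ _ _ _ _ h1 h2 := h1.trans h2
  inv _ hg _ _ _ _ h1 := h.cn_conj_n (mem_centralizer_singleton_iff.1 hg) h1

theorem adj_ab : adj n a Wf n a b := ⟨AA_n.2 a_cls, AA_n.2 h.bA, h.ab⟩

/-- members outside the component of `a` do not see `a`, `b` -/
theorem far {e : G} (he : e ∈ cls (centralizer ({n} : Set G)) a) (hne : ¬ cn n a Wf n a e) :
    (∀ w ∈ Wf e, w * n = n * w ∧ w * a = a * w) ∧ (∀ w ∈ Wf a, w * e = e * w) ∧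
      ∀ w ∈ Wf b, w * e = e * w := by
  refine ⟨fun w hw => ⟨mem_centralizer_singleton_iff.1 (h.cal.WX e he w hw), ?_⟩, fun w hw => ?_,
    fun w hw => ?_⟩
  · by_contra h0
    exact hne (Relation.ReflTransGen.single (h.adj_symm_n ⟨AA_n.2 he, AA_n.2 a_cls, w, hw, h0⟩))
  · by_contra h0
    exact hne (Relation.ReflTransGen.single ⟨AA_n.2 a_cls, AA_n.2 he, w, hw, h0⟩)
  · by_contra h0
    exact hne ((Relation.ReflTransGen.single h.adj_ab).tail ⟨AA_n.2 h.bA, AA_n.2 he, w, hw, h0⟩)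

/-- `Y = C(n) ∩ C(a)`, extended by `x` -/
def XX (n a : G) : Subgroup G where
  carrier := {g | (g * n * g⁻¹ = n ∧ g * a * g⁻¹ = a) ∨ (g * n * g⁻¹ = a ∧ g * a * g⁻¹ = n)}
  one_mem' := Or.inl ⟨by group, by group⟩
  mul_mem' := by
    rintro g k (⟨h1, h2⟩ | ⟨h1, h2⟩) (⟨h3, h4⟩ | ⟨h3, h4⟩)
    · left
      refine ⟨?_, ?_⟩
      · rw [show g * k * n * (g * k)⁻¹ = g * (k * n * k⁻¹) * g⁻¹ by group, h3, h1]
      · rw [show g * k * a * (g * k)⁻¹ = g * (k * a * k⁻¹) * g⁻¹ by group, h4, h2]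
    · right
      refine ⟨?_, ?_⟩
      · rw [show g * k * n * (g * k)⁻¹ = g * (k * n * k⁻¹) * g⁻¹ by group, h3, h2]
      · rw [show g * k * a * (g * k)⁻¹ = g * (k * a * k⁻¹) * g⁻¹ by group, h4, h1]
    · right
      refine ⟨?_, ?_⟩
      · rw [show g * k * n * (g * k)⁻¹ = g * (k * n * k⁻¹) * g⁻¹ by group, h3, h1]
      · rw [show g * k * a * (g * k)⁻¹ = g * (k * a * k⁻¹) * g⁻¹ by group, h4, h2]
    · left
      refine ⟨?_, ?_⟩
      · rw [show g * k * n * (g * k)⁻¹ = g * (k * n * k⁻¹) * g⁻¹ by group, h3, h2]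
      · rw [show g * k * a * (g * k)⁻¹ = g * (k * a * k⁻¹) * g⁻¹ by group, h4, h1]
  inv_mem' := by
    rintro g (⟨h1, h2⟩ | ⟨h1, h2⟩)
    · left
      refine ⟨?_, ?_⟩
      · calc g⁻¹ * n * g⁻¹⁻¹ = g⁻¹ * (g * n * g⁻¹) * g⁻¹⁻¹ := by rw [h1]
          _ = n := by group
      · calc g⁻¹ * a * g⁻¹⁻¹ = g⁻¹ * (g * a * g⁻¹) * g⁻¹⁻¹ := by rw [h2]
          _ = a := by group
    · right
      refine ⟨?_, ?_⟩
      · calc g⁻¹ * n * g⁻¹⁻¹ = g⁻¹ * (g * a * g⁻¹) * g⁻¹⁻¹ := by rw [h2]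
          _ = a := by group
      · calc g⁻¹ * a * g⁻¹⁻¹ = g⁻¹ * (g * n * g⁻¹) * g⁻¹⁻¹ := by rw [h1]
          _ = n := by group

omit h [Finite G] in
theorem mem_XX {g : G} (h1 : g * n = n * g) (h2 : g * a = a * g) : g ∈ XX n a :=
  Or.inl ⟨conj_eq_iff.2 h1, conj_eq_iff.2 h2⟩

theorem x_mem_XX : x ∈ XX n a := Or.inr ⟨h.xn, h.xa⟩

/-- `⟨v ^ Y⟩` -/
def V3 (n a v : G) : Subgroup G := closure {y | ∃ g, g * n = n * g ∧ g * a = a * g ∧ y = g * v * g⁻¹}

omit h [Finite G] in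
theorem self_mem_V3 {v : G} : v ∈ V3 n a v :=
  subset_closure ⟨1, by group, by group, by group⟩

theorem V3_le {v : G} (hv : v ∈ U) : V3 n a v ≤ U := by
  rw [V3, closure_le]
  rintro _ ⟨g, hg, -, rfl⟩
  exact h.cal.norm g (mem_centralizer_singleton_iff.2 hg) v hv

theorem V3_norm {v : G} (hv : x * v = v * x) {g y : G} (hg : g ∈ XX n a) (hy : y ∈ V3 n a v) :
    g * y * g⁻¹ ∈ V3 n a v := by
  induction hy using closure_induction with
  | mem y hy =>
    obtain ⟨k, hk1, hk2, rfl⟩ := hy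
    rcases hg with ⟨h1, h2⟩ | ⟨h1, h2⟩
    · rw [conj_eq_iff] at h1 h2
      refine subset_closure ⟨g * k, ?_, ?_, by group⟩
      · rw [mul_assoc, hk1, ← mul_assoc, h1, mul_assoc]
      · rw [mul_assoc, hk2, ← mul_assoc, h2, mul_assoc]
    · refine subset_closure ⟨g * k * x⁻¹, ?_, ?_, ?_⟩
      · rw [← conj_eq_iff]
        have e : g * k * x⁻¹ * n * (g * k * x⁻¹)⁻¹ = g * (k * (x⁻¹ * n * x) * k⁻¹) * g⁻¹ := by group
        rw [e, h.x_inv_n, conj_eq_iff.2 hk2, h2]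
      · rw [← conj_eq_iff]
        have e : g * k * x⁻¹ * a * (g * k * x⁻¹)⁻¹ = g * (k * (x⁻¹ * a * x) * k⁻¹) * g⁻¹ := by group
        rw [e, h.x_inv_a, conj_eq_iff.2 hk1, h1]
      · have e : g * k * x⁻¹ * v * (g * k * x⁻¹)⁻¹ = g * k * (x⁻¹ * v * x) * (g * k)⁻¹ := by group
        have e2 : x⁻¹ * v * x = v := by
          calc x⁻¹ * v * x = x⁻¹ * (v * x) := by group
            _ = x⁻¹ * (x * v) := by rw [hv]
            _ = v := by group
        rw [e, e2]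
        group
  | one =>
    have e : g * 1 * g⁻¹ = 1 := by group
    rw [e]
    exact one_mem _
  | mul y z _ _ hy hz =>
    have e : g * (y * z) * g⁻¹ = g * y * g⁻¹ * (g * z * g⁻¹) := by group
    rw [e]
    exact mul_mem hy hz
  | inv y _ hy =>
    have e : g * y⁻¹ * g⁻¹ = (g * y * g⁻¹)⁻¹ := by group
    rw [e]
    exact inv_mem hy

/-- the calculus on `V₃ = ⟨v ^ Y⟩` for the class of `c` under `Y⟨x⟩` -/
theorem calX {v c : G} (hxv : x * v = v * x) (hv : v ∈ U) (hc : c ∈ cls (centralizer ({n} : Set G)) a)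
    (hcV : c ∈ V3 n a v) (hW : ∀ w ∈ Wf c, w * n = n * w ∧ w * a = a * w) :
    Calc.Dat (XX n a) (V3 n a v) (cls (XX n a) c) Wf where
  comm u hu w hw := h.cal.comm u (h.V3_le hv hu) w (h.V3_le hv hw)
  sq u hu := h.cal.sq u (h.V3_le hv hu)
  norm g hg u hu := h.V3_norm hxv hg hu
  OmA := by
    rintro _ ⟨g, hg, rfl⟩
    exact h.V3_norm hxv hg hcV
  OmX := by
    rintro k hk _ ⟨g, hg, rfl⟩
    exact ⟨k * g, mul_mem hk hg, by group⟩
  trans := by
    rintro _ ⟨g, hg, rfl⟩ _ ⟨k, hk, rfl⟩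
    exact ⟨k * g⁻¹, mul_mem hk (inv_mem hg), by group⟩
  WX := by
    rintro _ ⟨g, hg, rfl⟩ w hw
    have h1 := hW _ (h.eqv_iff.2 hw)
    have h2 := mul_mem (mul_mem hg (mem_XX h1.1 h1.2)) (inv_mem hg)
    have e : g * (g⁻¹ * w * g) * g⁻¹ = w := by group
    rwa [e] at h2
  eqv g _ d _ w hw := h.eqv g d w hw
  cen := by
    rintro _ ⟨g, hg, rfl⟩ w hw
    have h1 := h.cal.cen c hc _ (h.eqv_iff.2 hw)
    calc w * (g * c * g⁻¹) = g * (g⁻¹ * w * g * c) * g⁻¹ := by group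
      _ = g * c * g⁻¹ * w := by rw [h1]; group
  act := by
    rintro _ ⟨g, hg, rfl⟩ w hw u hu
    have h1 := h.V3_norm hxv (inv_mem hg) hu
    rw [inv_inv] at h1
    have e : g * (g⁻¹ * w * g * (g⁻¹ * u * g) * (g⁻¹ * w * g)⁻¹) * g⁻¹ = w * u * w⁻¹ := by group
    rcases h.cal.act c hc _ (h.eqv_iff.2 hw) _ (h.V3_le hv h1) with h2 | h2
    · left
      rw [← e, h2]
      group
    · right
      rw [← e, h2]
      group

/-- the main step -/
theorem claim {c₁ : G} (hc₁ : c₁ ∈ cls (centralizer ({n} : Set G)) a) (hne : ¬ cn n a Wf n a c₁) :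
    (c₁ ∈ AA n a a ∧ ¬ cn n a Wf a n c₁) ∧ cn n a Wf c₁ n a := by
  have hTN' : T ≤ centralizer ({n} : Set G) := fun t ht => mem_centralizer_singleton_iff.2 (h.hTN t ht)
  obtain ⟨c, hcA, hcc, hst, u, huU, huT, hmv, hall⟩ := orbit h.rel h.cal.OmA h.cal.norm h.cal.comm h.hT
    hTN' h.hTa h.heq hc₁
  have hnec : ¬ cn n a Wf n a c := fun h0 => hne (h0.trans hcc)
  -- the conjugates of `c` under `T`
  have htc : ∀ t ∈ T, t * c * t⁻¹ ∈ cls (centralizer ({n} : Set G)) a ∧ ¬ cn n a Wf n a (t * c * t⁻¹) := by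
    intro t ht
    refine ⟨cls_conj hcA (hTN' ht), fun h0 => hnec ?_⟩
    have ht' : t⁻¹ * n = n * t⁻¹ := h.hTN _ (inv_mem ht)
    have h1 := h.cn_conj_n ht' h0
    have e1 : t⁻¹ * a * t⁻¹⁻¹ = a := conj_eq_iff.2 (h.hTa _ (inv_mem ht))
    have e2 : t⁻¹ * (t * c * t⁻¹) * t⁻¹⁻¹ = c := by group
    rwa [e1, e2] at h1
  obtain ⟨w₁, hw₁, hw₁a⟩ := h.cal.sym a a_cls b h.bA h.ab
  have hwbN : ∀ w ∈ Wf b, w * n = n * w := fun w hw =>
    mem_centralizer_singleton_iff.1 (h.cal.WX b h.bA w hw)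
  have hbu : ∀ w ∈ Wf b, w * u = u * w := fun w hw => hall w fun t ht =>
    (h.far (htc t ht).1 (htc t ht).2).2.2 w hw
  -- `u = v` or `u = v n`
  obtain ⟨v, hv0, hv⟩ : ∃ v ∈ V0, u = v ∨ u = v * n := by
    obtain ⟨v, hv0, hv⟩ := h.fix u huU huT
    have h1 := h.V0b v hv0 w₁ hw₁
    have h2 := hbu w₁ hw₁
    rcases hv with hv | hv | hv | hv
    · exact ⟨v, hv0, Or.inl hv⟩
    · exact ⟨v, hv0, Or.inr hv⟩
    · exfalso
      rw [hv] at h2
      apply hw₁a
      have h3 : v * (w₁ * a) = v * (a * w₁) := by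
        rw [← mul_assoc, ← h1, mul_assoc, h2, mul_assoc]
      exact mul_left_cancel h3
    · exfalso
      rw [hv] at h2
      apply hw₁a
      have h4 := hwbN w₁ hw₁
      have h3 : v * n * (w₁ * a) = v * n * (a * w₁) := by
        calc v * n * (w₁ * a) = v * (n * w₁) * a := by group
          _ = v * (w₁ * n) * a := by rw [h4]
          _ = (v * w₁) * (n * a) := by group
          _ = (w₁ * v) * (n * a) := by rw [h1]
          _ = w₁ * (v * (n * a)) := by group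
          _ = v * (n * a) * w₁ := h2
          _ = v * n * (a * w₁) := by group
      exact mul_left_cancel h3
  have hn2 : n * n = 1 := h.cal.sq n h.nU
  have hvU : v ∈ U := by
    rcases hv with hv | hv
    · rwa [← hv]
    · have h1 : v = u * n := by rw [hv, mul_assoc, hn2, mul_one]
      rw [h1]
      exact mul_mem huU h.nU
  have hxv : x * v = v * x := h.V0x v hv0
  -- elements of `C(n)` see `u` as `v`
  have huv : ∀ w, w * n = n * w → (w * u = u * w ↔ w * v = v * w) := by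
    intro w hwn
    rcases hv with hv | hv
    · rw [hv]
    · rw [hv]
      constructor
      · intro h1
        have h2 : w * v * n = v * w * n := by
          calc w * v * n = w * (v * n) := by group
            _ = v * n * w := h1
            _ = v * (n * w) := by group
            _ = v * w * n := by rw [← hwn]; group
        exact mul_right_cancel h2
      · intro h1
        calc w * (v * n) = (w * v) * n := by group
          _ = v * (w * n) := by rw [h1]; group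
          _ = v * n * w := by rw [hwn]; group
  -- the neighbour `c'`
  obtain ⟨c', hc'A, hc'c, w', hw', hw'c⟩ : ∃ c' ∈ cls (centralizer ({n} : Set G)) a,
      adj n a Wf n c' c ∧ ∃ w' ∈ Wf c', w' * c ≠ c * w' := by
    obtain ⟨g, hg, rfl⟩ := hcA
    have h1 : g * w₁ * g⁻¹ ∈ Wf (g * b * g⁻¹) := h.eqv g b w₁ hw₁
    have h2 : g * w₁ * g⁻¹ * (g * a * g⁻¹) ≠ g * a * g⁻¹ * (g * w₁ * g⁻¹) := by
      intro h0
      apply hw₁a
      have h3 := comm_conj_iff.1 h0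
      have e : g⁻¹ * (g * a * g⁻¹) * g = a := by group
      rwa [e] at h3
    exact ⟨g * b * g⁻¹, cls_conj h.bA hg, ⟨AA_n.2 (cls_conj h.bA hg), AA_n.2 (cls_conj a_cls hg), _, h1, h2⟩,
      _, h1, h2⟩
  have hnec' : ¬ cn n a Wf n a c' := fun h0 => hnec (h0.tail hc'c)
  have far' := h.far hc'A hnec'
  have hw'u : w' * u ≠ u * w' := by
    refine hmv w' (fun t ht htc' => ?_) hw'c
    by_contra h0
    refine htc' (hst t ht ?_)
    exact (Relation.ReflTransGen.single (h.adj_symm_n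
      ⟨AA_n.2 hc'A, AA_n.2 (htc t ht).1, w', hw', h0⟩)).tail hc'c
  have hw'v : w' * v ≠ v * w' := fun h0 => hw'u ((huv w' (far'.1 w' hw').1).2 h0)
  have hc'V : c' ∈ V3 n a v := by
    have h1 := h.cal.move hc'A hw' hvU hw'v
    have h2 : w' * v * w'⁻¹ ∈ V3 n a v :=
      subset_closure ⟨w', (far'.1 w' hw').1, (far'.1 w' hw').2, rfl⟩
    rw [h1] at h2
    have h3 := mul_mem (inv_mem (self_mem_V3 (n := n) (a := a) (v := v))) h2
    rwa [inv_mul_cancel_left] at h3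
  have hcal := h.calX hxv hvU hc'A hc'V far'.1
  have hc'Om : c' ∈ cls (XX n a) c' := ⟨1, one_mem _, by group⟩
  -- `c` is conjugate to `c'` under `Y`
  have hcOm : c ∈ cls (XX n a) c' := by
    obtain ⟨w₂, hw₂, hw₂c'⟩ := h.cal.sym c' hc'A c hcA ⟨w', hw', hw'c⟩
    have far₂ := (h.far hcA hnec).1 w₂ hw₂
    have h1 := h.cal.move hc'A hw' (h.cal.OmA c hcA) hw'c
    have h2 := h.cal.move hcA hw₂ (h.cal.OmA c' hc'A) hw₂c'
    have h3 : c' * c = c * c' := h.cal.comm _ (h.cal.OmA c' hc'A) _ (h.cal.OmA c hcA)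
    refine ⟨w'⁻¹ * w₂, mul_mem (inv_mem (mem_XX (far'.1 w' hw').1 (far'.1 w' hw').2))
      (mem_XX far₂.1 far₂.2), ?_⟩
    calc c = w'⁻¹ * (w' * c * w'⁻¹) * w' := by group
      _ = w'⁻¹ * (c' * c) * w' := by rw [h1, h3]
      _ = w'⁻¹ * (w₂ * c' * w₂⁻¹) * w' := by rw [h2]
      _ = _ := by group
  -- the crossing
  obtain ⟨t, ht, hw'd⟩ : ∃ t ∈ T, w' * (x * (t * c * t⁻¹) * x⁻¹) ≠ x * (t * c * t⁻¹) * x⁻¹ * w' := by
    by_contra hno
    push Not at hno
    apply hw'v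
    have h1 : x⁻¹ * w' * x * u = u * (x⁻¹ * w' * x) := by
      refine hall _ fun t ht => ?_
      have h2 := hno t ht
      have e : x * (t * c * t⁻¹) * x⁻¹ = x⁻¹⁻¹ * (t * c * t⁻¹) * x⁻¹ := by rw [inv_inv]
      rw [e] at h2
      have h3 := comm_conj_iff.2 h2
      rwa [inv_inv] at h3
    have h4 : w' * (x * u * x⁻¹) = x * u * x⁻¹ * w' := by
      calc w' * (x * u * x⁻¹) = x * (x⁻¹ * w' * x * u) * x⁻¹ := by group
        _ = x * u * x⁻¹ * w' := by rw [h1]; group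
    have h5 : x * v * x⁻¹ = v := conj_eq_iff.2 hxv
    rcases hv with hv | hv
    · rw [hv, h5] at h4
      exact h4
    · have e : x * u * x⁻¹ = v * a := by
        calc x * u * x⁻¹ = x * v * x⁻¹ * (x * n * x⁻¹) := by rw [hv]; group
          _ = v * a := by rw [h5, h.xn]
      rw [e] at h4
      have h6 := (far'.1 w' hw').2
      have h7 : w' * v * a = v * w' * a := by
        calc w' * v * a = w' * (v * a) := by group
          _ = v * a * w' := h4
          _ = v * (a * w') := by group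
          _ = v * w' * a := by rw [← h6]; group
      exact mul_right_cancel h7
  set d := x * (t * c * t⁻¹) * x⁻¹ with hd
  have htcX : t * c * t⁻¹ ∈ cls (XX n a) c' := hcal.OmX t (mem_XX (h.hTN t ht) (h.hTa t ht)) c hcOm
  have hdOm : d ∈ cls (XX n a) c' := hcal.OmX x h.x_mem_XX _ htcX
  have hdA : d ∈ AA n a a := by
    have h1 := AA_conj x (AA_n.2 (htc t ht).1)
    rwa [h.xn] at h1
  -- `Wf d ≤ Y`
  have hWd : ∀ w ∈ Wf d, w * n = n * w ∧ w * a = a * w := by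
    intro w hw
    have h1 := (h.far (htc t ht).1 (htc t ht).2).1 _ (h.eqv_iff.2 hw)
    refine ⟨?_, ?_⟩
    · rw [← h.xa]
      calc w * (x * a * x⁻¹) = x * (x⁻¹ * w * x * a) * x⁻¹ := by group
        _ = x * a * x⁻¹ * w := by rw [h1.2]; group
    · rw [← h.xn]
      calc w * (x * n * x⁻¹) = x * (x⁻¹ * w * x * n) * x⁻¹ := by group
        _ = x * n * x⁻¹ * w := by rw [h1.1]; group
  obtain ⟨w'', hw'', hw''c'⟩ := hcal.sym c' hc'Om d hdOm ⟨w', hw', hw'd⟩
  have hm1 := hcal.move hc'Om hw' (hcal.OmA d hdOm) hw'd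
  have hm2 := hcal.move hdOm hw'' (hcal.OmA c' hc'Om) hw''c'
  have hdc : d * c' = c' * d := hcal.comm _ (hcal.OmA d hdOm) _ (hcal.OmA c' hc'Om)
  -- `f = c' d`
  have hfa : c' * d ∈ AA n a a := by
    have h1 := AA_conj w' hdA
    rwa [conj_eq_iff.2 (far'.1 w' hw').2, hm1, hdc] at h1
  have hfn : c' * d ∈ cls (centralizer ({n} : Set G)) a := by
    have h1 := cls_conj hc'A (mem_centralizer_singleton_iff.2 (hWd w'' hw'').1)
    rwa [hm2] at h1
  have hw'f : w' * (c' * d) ≠ c' * d * w' := by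
    intro h0
    apply hw'd
    have h1 := h.cal.cen c' hc'A w' hw'
    have h2 : c' * (w' * d) = c' * (d * w') := by
      calc c' * (w' * d) = (c' * w') * d := by group
        _ = w' * (c' * d) := by rw [← h1]; group
        _ = c' * (d * w') := by rw [h0]; group
    exact mul_left_cancel h2
  have hw''f : w'' * (c' * d) ≠ c' * d * w'' := by
    intro h0
    apply hw''c'
    have h1 := hcal.cen d hdOm w'' hw''
    have h2 : w'' * c' * d = c' * w'' * d := by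
      calc w'' * c' * d = w'' * (c' * d) := by group
        _ = c' * d * w'' := h0
        _ = c' * (d * w'') := by group
        _ = c' * w'' * d := by rw [← h1]; group
    exact mul_right_cancel h2
  have adj1 : adj n a Wf n c' (c' * d) := ⟨AA_n.2 hc'A, AA_n.2 hfn, w', hw', hw'f⟩
  have adj2 : adj n a Wf a d (c' * d) := ⟨hdA, hfa, w'', hw'', hw''f⟩
  have hnef : ¬ cn n a Wf n a (c' * d) := fun h0 => hnec' (h0.tail (h.adj_symm_n adj1))
  -- the component of `f` in `AA n` lies in its component in `AA a`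
  have hcomp : ∀ e, cn n a Wf n (c' * d) e → e ∈ AA n a a ∧ cn n a Wf a (c' * d) e := by
    intro e he
    induction he with
    | refl => exact ⟨hfa, Relation.ReflTransGen.refl⟩
    | @tail e e' h1 h2 ih =>
      obtain ⟨he, he', w, hw, hwe'⟩ := h2
      have hne1 : ¬ cn n a Wf n a e := fun h0 => hnef (h0.trans (h.cn_symm_n h1))
      have hne2 : ¬ cn n a Wf n a e' := fun h0 =>
        hne1 (h0.tail (h.adj_symm_n ⟨he, he', w, hw, hwe'⟩))
      obtain ⟨w₃, hw₃, hw₃e⟩ := h.cal.sym e (AA_n.1 he) e' (AA_n.1 he') ⟨w, hw, hwe'⟩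
      have f1 := (h.far (AA_n.1 he) hne1).1 w hw
      have f3 := (h.far (AA_n.1 he') hne2).1 w₃ hw₃
      have m1 := h.cal.move (AA_n.1 he) hw (h.cal.OmA e' (AA_n.1 he')) hwe'
      have m3 := h.cal.move (AA_n.1 he') hw₃ (h.cal.OmA e (AA_n.1 he)) hw₃e
      have hee' : e * e' ∈ AA n a a := by
        have h3 := AA_conj w₃ ih.1
        rwa [conj_eq_iff.2 f3.2, m3] at h3
      have he'a : e' ∈ AA n a a := by
        have h3 := AA_conj w hee'
        rw [conj_eq_iff.2 f1.2] at h3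
        have h4 : w * (e * e') * w⁻¹ = e' := by
          have h5 := conj_eq_iff.2 (h.cal.cen e (AA_n.1 he) w hw)
          calc w * (e * e') * w⁻¹ = w * e * w⁻¹ * (w * e' * w⁻¹) := by group
            _ = e * (e' * e) := by rw [h5, m1]
            _ = e * (e * e') := by rw [h.cal.comm e' (h.cal.OmA e' (AA_n.1 he')) e (h.cal.OmA e (AA_n.1 he))]
            _ = e' := by rw [← mul_assoc, h.cal.sq e (h.cal.OmA e (AA_n.1 he)), one_mul]
        rwa [h4] at h3
      exact ⟨he'a, ih.2.tail ⟨ih.1, he'a, w, hw, hwe'⟩⟩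
  have hfc₁ : cn n a Wf n (c' * d) c₁ :=
    (Relation.ReflTransGen.head (h.adj_symm_n adj1) (Relation.ReflTransGen.single hc'c)).trans hcc
  obtain ⟨hc₁a, hc₁f⟩ := hcomp c₁ hfc₁
  have hP1 : ¬ cn n a Wf a n c₁ := by
    intro h0
    have h1 : cn n a Wf a n d := (h0.trans (h.cn_symm_a hc₁f)).trans
      (Relation.ReflTransGen.single (h.adj_symm_a adj2))
    have h2 := h.cn_conj x⁻¹ h1
    rw [inv_inv, h.x_inv_a, h.x_inv_n, hd] at h2
    have e : x⁻¹ * (x * (t * c * t⁻¹) * x⁻¹) * x = t * c * t⁻¹ := by group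
    rw [e] at h2
    exact (htc t ht).2 h2
  refine ⟨⟨hc₁a, hP1⟩, ?_⟩
  -- (P2)
  have far₁ := h.far hc₁ hne
  have hΛ : Wf a ⊔ Wf b ≤ centralizer ({c₁} : Set G) := by
    rw [sup_le_iff]
    exact ⟨fun w hw => mem_centralizer_singleton_iff.2 (far₁.2.1 w hw),
      fun w hw => mem_centralizer_singleton_iff.2 (far₁.2.2 w hw)⟩
  have hxc₁ : x⁻¹ * c₁ * x ∈ cls (centralizer ({n} : Set G)) a := by
    have h1 := AA_conj x⁻¹ hc₁a
    rw [inv_inv, h.x_inv_a] at h1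
    exact AA_n.1 h1
  have hxne : ¬ cn n a Wf n a (x⁻¹ * c₁ * x) := by
    intro h0
    have h1 := h.cn_conj x h0
    rw [h.xn, h.xa] at h1
    have e : x * (x⁻¹ * c₁ * x) * x⁻¹ = c₁ := by group
    rw [e] at h1
    exact hP1 h1
  have far₂ := h.far hxc₁ hxne
  have hΛ' : Wf a ⊔ Wf b ≤ centralizer ({x⁻¹ * c₁ * x} : Set G) := by
    rw [sup_le_iff]
    exact ⟨fun w hw => mem_centralizer_singleton_iff.2 (far₂.2.1 w hw),
      fun w hw => mem_centralizer_singleton_iff.2 (far₂.2.2 w hw)⟩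
  obtain ⟨k, hk, hka⟩ := h.kk
  have hkc := mem_centralizer_singleton_iff.1 (hΛ hk)
  have hkc' := mem_centralizer_singleton_iff.1 (hΛ' hk)
  have hn1 : n ∈ AA n a c₁ := h.swap (AA_n.2 hc₁)
  have ha1 : a ∈ AA n a c₁ := h.swap hc₁a
  have hb1 : b ∈ AA n a c₁ := by
    have h1 := AA_conj k ha1
    rwa [conj_eq_iff.2 hkc, hka] at h1
  have hb'1 : x * b * x⁻¹ ∈ AA n a c₁ := by
    have h1 := AA_conj (x * k * x⁻¹) hn1
    have e1 : x * k * x⁻¹ * c₁ * (x * k * x⁻¹)⁻¹ = c₁ := by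
      rw [conj_eq_iff, comm_conj_iff]
      exact hkc'
    have e2 : x * k * x⁻¹ * n * (x * k * x⁻¹)⁻¹ = x * b * x⁻¹ := by
      calc x * k * x⁻¹ * n * (x * k * x⁻¹)⁻¹ = x * (k * (x⁻¹ * n * x) * k⁻¹) * x⁻¹ := by group
        _ = x * b * x⁻¹ := by rw [h.x_inv_n, hka]
    rwa [e1, e2] at h1
  -- the path `n - b' - b - a`
  have p1 : adj n a Wf c₁ n (x * b * x⁻¹) := by
    obtain ⟨w, hw, hwb⟩ := h.ab
    refine ⟨hn1, hb'1, x * w * x⁻¹, ?_, fun h0 => hwb ?_⟩
    · have := h.eqv x a w hw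
      rwa [h.xa] at this
    · have h1 := comm_conj_iff.1 h0
      have e : x⁻¹ * (x * b * x⁻¹) * x = b := by group
      rwa [e] at h1
  have p2 : adj n a Wf c₁ (x * b * x⁻¹) b := ⟨hb'1, hb1, h.bb⟩
  have p3 : adj n a Wf c₁ b a := ⟨hb1, ha1, w₁, hw₁, hw₁a⟩
  exact ((Relation.ReflTransGen.single p1).tail p2).tail p3

/-- **`a ^ C(n)` is connected.** -/
theorem conn {c : G} (hc : c ∈ cls (centralizer ({n} : Set G)) a) : cn n a Wf n a c := by
  by_contra hne
  have h1 := (h.claim hc hne).2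
  obtain ⟨g, hg, rfl⟩ := hc
  have hgn := mem_centralizer_singleton_iff.1 hg
  have hgn' : g⁻¹ * n = n * g⁻¹ := mem_centralizer_singleton_iff.1 (inv_mem hg)
  have hc₂ : g⁻¹ * a * g ∈ cls (centralizer ({n} : Set G)) a := cls_conj' a_cls hg
  have hne₂ : ¬ cn n a Wf n a (g⁻¹ * a * g) := by
    intro h0
    have h2 := h.cn_conj_n hgn h0
    have e : g * (g⁻¹ * a * g) * g⁻¹ = a := by group
    rw [e] at h2
    exact hne (h.cn_symm_n h2)
  have h2 := (h.claim hc₂ hne₂).1.2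
  apply h2
  have h3 := h.cn_conj g⁻¹ h1
  rw [inv_inv] at h3
  have e1 : g⁻¹ * (g * a * g⁻¹) * g = a := by group
  have e2 : g⁻¹ * n * g = n := by
    have := conj_eq_iff.2 hgn'
    rwa [inv_inv] at this
  rwa [e1, e2] at h3

end Con

end Cfsg.Agent.Omega.TTn.Z.Conn
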