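import Cfsg.Agent.Omega.TTn.Z.Base
import Cfsg.Agent.Omega.TTn.Z.Conn
import Cfsg.Agent.Omega.TTn.BOne
import Cfsg.Agent.Omega.TTn.BZero

/-!
# T-T, `n` not 2-central, `A ≤ O₂(C(s))`, `U_n ≤ O₂(C(a))`, arbitrary `V₀` (#15257 (5))

THEOREM B1 (helper429) without `zc S ≤ V`: `V₀` is a subgroup centralised by `S` and by the elements of `L₁`,
the elements of `U_n` centralised by `T = C_S(n)` lie in `V₀ {1, n, a, s}`, and `a` is the only member of `a ^ C(n)`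
centralised by `T`.
-/

set_option autoImplicit false
set_option linter.unusedSectionVars false

namespace Cfsg.Agent.Omega.TTn.Z.BOne

open Subgroup Cfsg Cfsg.Agent.ZN Cfsg.Agent.ZN.ChoiceBase
open Cfsg.Agent.Omega.S5.Mod Cfsg.Agent.Omega.S5.TT
open Cfsg.Agent.Omega.S5.TT.Pos (na ns as sn n_ne s_ne a_ne n_ne_a n_ne_s a_ne_s e_sq' mem_C)
open Cfsg.Agent.MinSimple.VModule (o2_isPGroup le_o2 o2_le le_normalizer_o2 o2_le_of_sylow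
  normalizer_le_normalizer_zc)
open Cfsg.Agent.Omega.S5.ChiConst (cls)
open Cfsg.Agent.Omega.TTn.Calc (conj_eq_iff comm_conj_iff)
open Cfsg.Agent.Omega.TTn.BOne (Fam mem_Fam Fam_conj Fam_conj_iff v4_move v4_odd oo odd_add)

universe u

variable {G : Type u} [Group G]

section E

variable [Finite G] {S : Sylow 2 G} {V L : Subgroup G} {M : FiveMod V L} (t : Dih S M)
include t

theorem Qs_le_S : Q (M.e ss) ≤ (S : Subgroup G) :=
  o2_le_of_sylow S.isPGroup' (MinSimple.Basic.not_dvd_relIndex S fun _ hg => mem_C.2 (t.S_comm hg))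

theorem Qs_ind {q : G} (hq : q ∈ Q (M.e ss)) : ∃ p, V4p p ∧ M.Ind q p :=
  Pos.Q_ind_aux t.S_le t.d8 (Qs_le_S t) hq

theorem Qs_conj {m q : G} (hm : m * M.e ss = M.e ss * m) (hq : q ∈ Q (M.e ss)) :
    m * q * m⁻¹ ∈ Q (M.e ss) :=
  (mem_normalizer_iff.1 (le_normalizer_o2 _ (mem_C.2 hm)) _).1 hq

theorem Qs_conj' {m q : G} (hm : m * M.e ss = M.e ss * m) (hq : q ∈ Q (M.e ss)) :
    m⁻¹ * q * m ∈ Q (M.e ss) := by
  have h1 : m⁻¹ * M.e ss = M.e ss * m⁻¹ := by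
    rw [inv_mul_eq_iff_eq_mul, ← mul_assoc, hm, mul_inv_cancel_right]
  have h2 := Qs_conj t h1 hq
  rwa [inv_inv] at h2

theorem comm_odd (hV : V ≤ Q (M.e ss)) {m : G} (hm : m * M.e ss = M.e ss * m) {x : Vec}
    (hx : x 0 + x 1 + x 2 + x 3 = 1) {w : G} (hw : w ∈ cj m V) : M.e x * w = w * M.e x := by
  obtain ⟨p, hp, hi⟩ := Qs_ind t (Qs_conj' t hm (hV (M.e_mem x)))
  have hi' := M.cj_ind (g := m) hi
  have e : m * (m⁻¹ * M.e x * m) * m⁻¹ = M.e x := by group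
  rw [e] at hi'
  by_cases h1 : p = 1
  · rw [h1] at hi'
    exact (mem_centralizer_iff.1 (FiveMod.ind_one_iff.1 hi') w hw).symm
  · exfalso
    obtain ⟨y, hy⟩ := v4_move p hp h1
    have h2 := hi'.comm_eq y
    have h3 : (M.cj m).e (ss + 1) = M.e ss := by
      rw [M.cj_e, M.e_add, M.e_one, mul_one, hm, mul_inv_cancel_right]
    rw [hy, h3] at h2
    have h4 : (M.cj m).e y ∈ Q (M.e ss) := by
      rw [M.cj_e]
      exact Qs_conj t hm (hV (M.e_mem y))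
    obtain ⟨q, hq, hj⟩ := Qs_ind t h4
    have h5 : M.e x * (M.cj m).e y * (M.e x)⁻¹ * ((M.cj m).e y)⁻¹ = M.e (x + x ∘ q.symm) := by
      rw [M.e_add, ← hj x]
      have e2 : (M.e x)⁻¹ = M.e x := M.e_inv x
      rw [e2]
      group
    rw [h5] at h2
    rcases M.e_eq_iff.1 h2 with h6 | h6
    · exact (v4_odd q hq x hx).1 h6
    · exact (v4_odd q hq x hx).2 h6

theorem comm_conj (hV : V ≤ Q (M.e ss)) {m : G} (hm : m * M.e ss = M.e ss * m) {v w : G} (hv : v ∈ V)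
    (hw : w ∈ cj m V) : v * w = w * v := by
  obtain ⟨x, rfl⟩ := (M.mem_iff v).1 hv
  by_cases hx : x 0 + x 1 + x 2 + x 3 = 1
  · exact comm_odd t hV hm hx hw
  · have h1 := comm_odd t hV hm (odd_add x hx) hw
    have h2 := comm_odd t hV hm (x := oo) (by decide) hw
    have h3 : M.e x = M.e (x + oo) * M.e oo := by
      rw [← M.e_add, add_add_cancel']
    rw [h3, mul_assoc, h2, ← mul_assoc, h1, mul_assoc]

theorem E_comm (hV : V ≤ Q (M.e ss)) {u v : G} (hu : u ∈ WW V V (M.e ss)) (hv : v ∈ WW V V (M.e ss)) :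
    u * v = v * u := by
  have key : ∀ g, g * M.e ss = M.e ss * g → ∀ k, k * M.e ss = M.e ss * k → ∀ v ∈ V, ∀ w ∈ V,
      g * v * g⁻¹ * (k * w * k⁻¹) = k * w * k⁻¹ * (g * v * g⁻¹) := by
    intro g hg k hk v hv w hw
    have hg' : g⁻¹ * M.e ss = M.e ss * g⁻¹ := by
      rw [inv_mul_eq_iff_eq_mul, ← mul_assoc, hg, mul_inv_cancel_right]
    have h1 : g⁻¹ * k * M.e ss = M.e ss * (g⁻¹ * k) := by
      rw [mul_assoc, hk, ← mul_assoc, hg', mul_assoc]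
    have h2 := comm_conj t hV h1 hv (w := (g⁻¹ * k) * w * (g⁻¹ * k)⁻¹) ⟨w, hw, rfl⟩
    calc g * v * g⁻¹ * (k * w * k⁻¹) = g * (v * ((g⁻¹ * k) * w * (g⁻¹ * k)⁻¹)) * g⁻¹ := by group
      _ = g * (((g⁻¹ * k) * w * (g⁻¹ * k)⁻¹) * v) * g⁻¹ := by rw [h2]
      _ = k * w * k⁻¹ * (g * v * g⁻¹) := by group
  have h1 : WW V V (M.e ss) ≤ centralizer ({u} : Set G) := by
    have h2 : ∀ g, g * M.e ss = M.e ss * g → ∀ v ∈ V, g * v * g⁻¹ ∈ centralizer ({u} : Set G) := by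
      intro g hg v hv
      have h3 : WW V V (M.e ss) ≤ centralizer ({g * v * g⁻¹} : Set G) := by
        have h4 : ∀ k, k * M.e ss = M.e ss * k → ∀ w ∈ V, k * w * k⁻¹ ∈
            centralizer ({g * v * g⁻¹} : Set G) := fun k hk w hw => mem_C.2 (key k hk g hg w hw v hv)
        exact WW_le h4 h4
      exact mem_C.2 (mem_C.1 (h3 hu)).symm
    exact WW_le h2 h2
  exact (mem_C.1 (h1 hv)).symm

theorem E_sq (hV : V ≤ Q (M.e ss)) {u : G} (hu : u ∈ WW V V (M.e ss)) : u * u = 1 := by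
  induction hu using closure_induction with
  | mem x hx =>
    obtain ⟨g, -, v, hv, rfl⟩ := hx
    have hv : v ∈ V := hv.elim id id
    calc g * v * g⁻¹ * (g * v * g⁻¹) = g * (v * v) * g⁻¹ := by group
      _ = 1 := by rw [M.sq hv]; group
  | one => exact one_mul 1
  | mul x y hx hy h1 h2 =>
    have h3 : x * y = y * x := E_comm t hV hx hy
    calc x * y * (x * y) = x * (y * x) * y := by group
      _ = (x * x) * (y * y) := by rw [← h3]; group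
      _ = 1 := by rw [h1, h2, one_mul]
  | inv x _ h1 => rw [← mul_inv_rev, h1, inv_one]

theorem E_isPGroup (hV : V ≤ Q (M.e ss)) : IsPGroup 2 (WW V V (M.e ss)) := by
  rintro ⟨v, hv⟩
  refine ⟨1, Subtype.ext ?_⟩
  change v ^ (2 ^ 1) = 1
  rw [pow_one, pow_two]
  exact E_sq t hV hv

end E

/-! ### The main part -/

section main

variable [Finite G] {S : Sylow 2 G} {V₁ V₂ L₁ L₂ : Subgroup G} {M₁ : FiveMod V₁ L₁} {M₂ : FiveMod V₂ L₂}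
  {h : G} (b : Base S M₁ M₂ h)
include b

theorem WWn_norm : ∀ g, g * M₁.e nn = M₁.e nn * g → ∀ w ∈ WW V₁ V₂ (M₁.e nn),
    g * w * g⁻¹ ∈ WW V₁ V₂ (M₁.e nn) := fun _ hg _ hw => WW_norm hg hw

theorem mem_F_n {g y : G} : y ∈ Fam (M₁.e nn) (WW V₁ V₂ (M₁.e nn)) (g * M₁.e nn * g⁻¹) ↔
    g⁻¹ * y * g ∈ WW V₁ V₂ (M₁.e nn) := mem_Fam (WWn_norm b)

theorem mem_F_n' {y : G} : y ∈ Fam (M₁.e nn) (WW V₁ V₂ (M₁.e nn)) (M₁.e nn) ↔
    y ∈ WW V₁ V₂ (M₁.e nn) := by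
  have h1 := mem_F_n b (g := 1) (y := y)
  simpa using h1

/-- the swap of `n` and `a` in `S` -/
theorem exists_x : ∃ x ∈ (S : Subgroup G), M₁.Ind x tt ∧ x * M₁.e nn * x⁻¹ = M₁.e aa ∧
    x * M₁.e aa * x⁻¹ = M₁.e nn ∧ x * M₁.e ss = M₁.e ss * x ∧ x ∈ normalizer (V₁ : Set G) ∧
    x ∈ normalizer (V₂ : Set G) := by
  obtain ⟨x, hxS, hx⟩ := b.dih₁.exists_swap
  exact ⟨x, hxS, hx, Dih.tt_n hx, Dih.tt_a hx, b.dih₁.S_comm hxS, b.dih₁.S_norm hxS,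
    b.dih₂.S_norm hxS⟩

/-- `x⁻¹ W_a x = W_n` -/
theorem conj_WWa {x y : G} (h1 : x * M₁.e nn * x⁻¹ = M₁.e aa) (h3 : x ∈ normalizer (V₁ : Set G))
    (h4 : x ∈ normalizer (V₂ : Set G)) : x⁻¹ * y * x ∈ WW V₁ V₂ (M₁.e nn) ↔ y ∈ WW V₁ V₂ (M₁.e aa) := by
  constructor
  · intro hy
    have := WW_conj h3 h4 hy
    have e : x * (x⁻¹ * y * x) * x⁻¹ = y := by group
    rwa [e, h1] at this
  · intro hy
    have := WW_conj (inv_mem h3) (inv_mem h4) hy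
    rw [inv_inv, ← h1] at this
    have e : x⁻¹ * (x * M₁.e nn * x⁻¹) * x = M₁.e nn := by group
    rwa [e] at this

theorem mem_F_a' {y : G} : y ∈ Fam (M₁.e nn) (WW V₁ V₂ (M₁.e nn)) (M₁.e aa) ↔
    y ∈ WW V₁ V₂ (M₁.e aa) := by
  obtain ⟨x, -, -, h1, -, -, h3, h4⟩ := exists_x b
  rw [← conj_WWa b h1 h3 h4, ← mem_F_n b, h1]

theorem mem_F_a {g y : G} : y ∈ Fam (M₁.e nn) (WW V₁ V₂ (M₁.e nn)) (g * M₁.e aa * g⁻¹) ↔
    g⁻¹ * y * g ∈ WW V₁ V₂ (M₁.e aa) := by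
  rw [← Fam_conj_iff, mem_F_a' b]

theorem WWn_le_S {w : G} (hw : w ∈ WW V₁ V₂ (M₁.e nn)) : w ∈ (S : Subgroup G) :=
  (b.Q_le_T (b.WW_le_Q hw)).1

theorem WWn_comm_n {w : G} (hw : w ∈ WW V₁ V₂ (M₁.e nn)) : w * M₁.e nn = M₁.e nn * w :=
  mem_C.1 (b.Q_le_T (b.WW_le_Q hw)).2

theorem WWn_comm_s {w : G} (hw : w ∈ WW V₁ V₂ (M₁.e nn)) : w * M₁.e ss = M₁.e ss * w :=
  b.dih₁.S_comm (WWn_le_S b hw)

theorem WWa_comm_n {w : G} (hw : w ∈ WW V₁ V₂ (M₁.e aa)) : w * M₁.e nn = M₁.e nn * w :=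
  mem_C.1 (b.Qa_le_T (b.WWa_le_Qa hw)).2

theorem WWa_comm_a {w : G} (hw : w ∈ WW V₁ V₂ (M₁.e aa)) : w * M₁.e aa = M₁.e aa * w :=
  mem_C.1 (o2_le _ (b.WWa_le_Qa hw))

omit b in
theorem comm_conj' {g w u : G} (h0 : g⁻¹ * w * g * u = u * (g⁻¹ * w * g)) :
    w * (g * u * g⁻¹) = g * u * g⁻¹ * w := by
  calc w * (g * u * g⁻¹) = g * (g⁻¹ * w * g * u) * g⁻¹ := by group
    _ = g * u * g⁻¹ * w := by rw [h0]; group

omit b in
theorem act_conj {g w u c : G} (h0 : g⁻¹ * w * g * (g⁻¹ * u * g) * (g⁻¹ * w * g)⁻¹ * (g⁻¹ * u * g)⁻¹ = 1 ∨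
    g⁻¹ * w * g * (g⁻¹ * u * g) * (g⁻¹ * w * g)⁻¹ * (g⁻¹ * u * g)⁻¹ = c)
    (hc : g * c * g⁻¹ * u = u * (g * c * g⁻¹)) :
    w * u * w⁻¹ = u ∨ w * u * w⁻¹ = u * (g * c * g⁻¹) := by
  have e : w * u * w⁻¹ * u⁻¹ = g * (g⁻¹ * w * g * (g⁻¹ * u * g) * (g⁻¹ * w * g)⁻¹ * (g⁻¹ * u * g)⁻¹) * g⁻¹ := by
    group
  rcases h0 with h0 | h0
  · left
    rw [h0] at e
    have e2 : g * 1 * g⁻¹ = 1 := by group
    rw [e2] at e
    exact mul_inv_eq_one.1 e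
  · right
    rw [h0] at e
    rw [← hc]
    exact mul_inv_eq_iff_eq_mul.1 e

/-- the calculus on `E = ⟨V₁ ^ C(s)⟩` -/
theorem calcM (hV : V₁ ≤ Q (M₁.e ss)) (hE : WW V₁ V₁ (M₁.e ss) ≤ Q (M₁.e nn)) :
    Calc.Dat (centralizer ({M₁.e ss} : Set G)) (WW V₁ V₁ (M₁.e ss))
      (cls (centralizer ({M₁.e ss} : Set G)) (M₁.e nn)) (Fam (M₁.e nn) (WW V₁ V₂ (M₁.e nn))) where
  comm u hu v hv := E_comm b.dih₁ hV hu hv
  sq u hu := E_sq b.dih₁ hV hu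
  norm g hg u hu := WW_norm (mem_C.1 hg) hu
  OmA := by
    rintro _ ⟨g, hg, rfl⟩
    exact mem_WW₁ (mem_C.1 hg) (M₁.e_mem _)
  OmX := by
    rintro k hk _ ⟨g, hg, rfl⟩
    exact ⟨k * g, mul_mem hk hg, by group⟩
  trans := by
    rintro _ ⟨g, hg, rfl⟩ _ ⟨k, hk, rfl⟩
    exact ⟨k * g⁻¹, mul_mem hk (inv_mem hg), by group⟩
  WX := by
    rintro _ ⟨g, hg, rfl⟩ w hw
    rw [mem_F_n b] at hw
    have h1 := mem_C.2 (WWn_comm_s b hw)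
    have h2 := mul_mem (mul_mem hg h1) (inv_mem hg)
    have e : g * (g⁻¹ * w * g) * g⁻¹ = w := by group
    rwa [e] at h2
  eqv g hg c hc w hw := Fam_conj g hw
  cen := by
    rintro _ ⟨g, hg, rfl⟩ w hw
    rw [mem_F_n b] at hw
    exact comm_conj' (WWn_comm_n b hw)
  act := by
    rintro _ ⟨g, hg, rfl⟩ w hw u hu
    rw [mem_F_n b] at hw
    have hg' : g⁻¹ * M₁.e ss = M₁.e ss * g⁻¹ := mem_C.1 (inv_mem hg)
    have h1 : g⁻¹ * u * g ∈ WW V₁ V₁ (M₁.e ss) := by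
      have := WW_norm hg' hu
      rwa [inv_inv] at this
    exact act_conj (b.WW_comm hw (hE h1))
      (E_comm b.dih₁ hV (mem_WW₁ (mem_C.1 hg) (M₁.e_mem _)) hu)

/-- `C(s)` moves `n` to `{0 2}` -/
theorem mm_mem : M₁.e mm ∈ cls (centralizer ({M₁.e ss} : Set G)) (M₁.e nn) := by
  obtain ⟨g, -, hg⟩ := M₁.exists_lift (Equiv.swap 1 2)
  have hg : M₁.Ind g (Equiv.swap 1 2) := hg
  refine ⟨g, mem_C.2 ((hg.commute_iff _).2 (Or.inl (by decide))), ?_⟩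
  rw [hg nn]
  congr 1
  decide

/-- for `w ∈ W_n`: `w ∈ C(V₁)` iff `w` commutes with `{0 2}` -/
theorem n_cent_iff {w : G} (hw : w ∈ WW V₁ V₂ (M₁.e nn)) : w ∈ centralizer (V₁ : Set G) ↔
    w * M₁.e mm = M₁.e mm * w := by
  obtain ⟨p, hp, hi⟩ := b.Q_ind₁ (b.WW_le_Q hw)
  rw [hi.commute_iff, ← FiveMod.ind_one_iff (M := M₁)]
  rcases hp with rfl | rfl
  · exact ⟨fun _ => Or.inl rfl, fun _ => hi⟩
  · constructor
    · intro h1
      exact absurd (FiveMod.Ind.unique h1 hi) (by decide)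
    · intro h1
      exact absurd h1 (by decide)

theorem a_cent_iff_mm {w : G} (hw : w ∈ WW V₁ V₂ (M₁.e aa)) : w ∈ centralizer (V₁ : Set G) ↔
    w * M₁.e mm = M₁.e mm * w := by
  obtain ⟨p, hp, hi⟩ := b.Qa_ind₁ (b.WWa_le_Qa hw)
  rw [hi.commute_iff, ← FiveMod.ind_one_iff (M := M₁)]
  rcases hp with rfl | rfl
  · exact ⟨fun _ => Or.inl rfl, fun _ => hi⟩
  · constructor
    · intro h1
      exact absurd (FiveMod.Ind.unique h1 hi) (by decide)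
    · intro h1
      exact absurd h1 (by decide)

theorem a_cent_iff {w : G} (hw : w ∈ WW V₁ V₂ (M₁.e aa)) : w ∈ centralizer (V₁ : Set G) ↔
    w * M₁.e bb = M₁.e bb * w := by
  obtain ⟨p, hp, hi⟩ := b.Qa_ind₁ (b.WWa_le_Qa hw)
  rw [hi.commute_iff, ← FiveMod.ind_one_iff (M := M₁)]
  rcases hp with rfl | rfl
  · exact ⟨fun _ => Or.inl rfl, fun _ => hi⟩
  · constructor
    · intro h1
      exact absurd (FiveMod.Ind.unique h1 hi) (by decide)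
    · intro h1
      exact absurd h1 (by decide)

/-- **(1)** `C_{W_n}(V₁) = C_{W_n}(n ^ C(s))` -/
theorem one_n (hV : V₁ ≤ Q (M₁.e ss)) (hE : WW V₁ V₁ (M₁.e ss) ≤ Q (M₁.e nn)) {w : G}
    (hw : w ∈ WW V₁ V₂ (M₁.e nn)) (h1 : w ∈ centralizer (V₁ : Set G)) :
    ∀ d ∈ cls (centralizer ({M₁.e ss} : Set G)) (M₁.e nn), w * d = d * w := by
  have hcal := calcM b hV hE
  have hna : M₁.e nn ∈ cls (centralizer ({M₁.e ss} : Set G)) (M₁.e nn) := ⟨1, one_mem _, by group⟩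
  obtain ⟨x, -, -, hx1, -, hx3, -, -⟩ := exists_x b
  obtain ⟨k, hk, hki⟩ := b.exists_move₁
  refine hcal.all (s := M₁.e ss) hna (le_WW₁ V₁ V₁ _ (M₁.e_mem _)) ?_ ?_ ?_ (mm_mem b) ?_ w ((mem_F_n' b).2 hw)
    ((n_cent_iff b hw).1 h1)
  · rintro _ ⟨g, hg, rfl⟩
    refine ⟨g * x, mul_mem hg (mem_C.2 hx3), ?_⟩
    have e : g * x * M₁.e nn * (g * x)⁻¹ = g * (x * M₁.e nn * x⁻¹) * g⁻¹ := by group
    rw [e, hx1, ← ns M₁]
    have e2 : g * (M₁.e nn * M₁.e ss) * g⁻¹ = g * M₁.e nn * g⁻¹ * (g * M₁.e ss * g⁻¹) := by group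
    rw [e2, mem_C.1 hg, mul_inv_cancel_right]
  · intro c hc v hv
    exact mem_C.1 (hcal.WX c hc v hv)
  · refine ⟨k, (mem_F_n' b).2 hk, fun k' hk' => ⟨M₁.e oo, le_WW₁ V₁ V₁ _ (M₁.e_mem _), ?_⟩⟩
    rw [ns M₁, mem_F_a' b] at hk'
    obtain ⟨p, hp, hi⟩ := b.Qa_ind₁ (b.WWa_le_Qa hk')
    rw [hi.commute_iff, hki.commute_iff]
    rcases hp with rfl | rfl <;> decide
  · refine ⟨k, (mem_F_n' b).2 hk, ?_⟩
    rw [Ne, hki.commute_iff]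
    decide

/-- **(1)** for `a`: `C_{W_a}(V₁) = C_{W_a}(n ^ C(s))` -/
theorem one_a (hV : V₁ ≤ Q (M₁.e ss)) (hE : WW V₁ V₁ (M₁.e ss) ≤ Q (M₁.e nn)) {w : G}
    (hw : w ∈ WW V₁ V₂ (M₁.e aa)) : w ∈ centralizer (V₁ : Set G) ↔
    ∀ d ∈ cls (centralizer ({M₁.e ss} : Set G)) (M₁.e nn), w * d = d * w := by
  constructor
  · intro h1 d hd
    obtain ⟨x, -, -, hx1, -, hx3, hx4, hx5⟩ := exists_x b
    have h2 := (conj_WWa b hx1 hx4 hx5).2 hw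
    have h3 : x⁻¹ * w * x ∈ centralizer (V₁ : Set G) := by
      rw [mem_centralizer_iff] at h1 ⊢
      intro v hv
      have h4 := h1 _ ((mem_normalizer_iff.1 hx4 v).1 hv)
      calc v * (x⁻¹ * w * x) = x⁻¹ * (x * v * x⁻¹ * w) * x := by group
        _ = x⁻¹ * (w * (x * v * x⁻¹)) * x := by rw [h4]
        _ = x⁻¹ * w * x * v := by group
    obtain ⟨g, hg, rfl⟩ := hd
    have h4 := one_n b hV hE h2 h3 (x⁻¹ * g * M₁.e nn * (x⁻¹ * g)⁻¹)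
      ⟨x⁻¹ * g, mul_mem (inv_mem (mem_C.2 hx3)) hg, rfl⟩
    have h5 := comm_conj' h4
    have e : x * (x⁻¹ * g * M₁.e nn * (x⁻¹ * g)⁻¹) * x⁻¹ = g * M₁.e nn * g⁻¹ := by group
    rwa [e] at h5
  · intro h1
    exact (a_cent_iff_mm b hw).2 (h1 _ (mm_mem b))

/-! ### The calculus on `U_n` -/

omit b [Finite G] in
theorem mem_Q_conj {g y c : G} : g⁻¹ * y * g ∈ Q c ↔ y ∈ Q (g * c * g⁻¹) := by
  rw [Q, Q, ← o2_conj g c, mem_cj]

omit b [Finite G] in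
theorem cent_conj_iff {V : Subgroup G} {g y : G} (hg : g ∈ normalizer (V : Set G)) :
    g⁻¹ * y * g ∈ centralizer (V : Set G) ↔ y ∈ centralizer (V : Set G) := by
  have key : ∀ g ∈ normalizer (V : Set G), ∀ y ∈ centralizer (V : Set G),
      g⁻¹ * y * g ∈ centralizer (V : Set G) := by
    intro g hg y hy
    rw [mem_centralizer_iff] at hy ⊢
    intro v hv
    have h4 := hy _ ((mem_normalizer_iff.1 hg v).1 hv)
    calc v * (g⁻¹ * y * g) = g⁻¹ * (g * v * g⁻¹ * y) * g := by group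
      _ = g⁻¹ * (y * (g * v * g⁻¹)) * g := by rw [h4]
      _ = g⁻¹ * y * g * v := by group
  constructor
  · intro h1
    have h2 := key g⁻¹ (inv_mem hg) _ h1
    have e : g⁻¹⁻¹ * (g⁻¹ * y * g) * g⁻¹ = y := by group
    rwa [e] at h2
  · exact key g hg y

/-- the calculus on `U_n` -/
theorem calcN (hU : UU (M₁.e nn) (M₁.e aa) ≤ Q (M₁.e aa)) :
    Calc.Dat (centralizer ({M₁.e nn} : Set G)) (UU (M₁.e nn) (M₁.e aa))
      (cls (centralizer ({M₁.e nn} : Set G)) (M₁.e aa)) (Fam (M₁.e nn) (WW V₁ V₂ (M₁.e nn))) where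
  comm u hu v hv := b.UU_comm hu hv
  sq u hu := b.UU_sq hu
  norm g hg u hu := UU_norm (mem_C.1 hg) hu
  OmA := by
    rintro _ ⟨g, hg, rfl⟩
    exact mem_UU (mem_C.1 hg)
  OmX := by
    rintro k hk _ ⟨g, hg, rfl⟩
    exact ⟨k * g, mul_mem hk hg, by group⟩
  trans := by
    rintro _ ⟨g, hg, rfl⟩ _ ⟨k, hk, rfl⟩
    exact ⟨k * g⁻¹, mul_mem hk (inv_mem hg), by group⟩
  WX := by
    rintro _ ⟨g, hg, rfl⟩ w hw
    rw [mem_F_a b] at hw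
    have h1 := mem_C.2 (WWa_comm_n b hw)
    have h2 := mul_mem (mul_mem hg h1) (inv_mem hg)
    have e : g * (g⁻¹ * w * g) * g⁻¹ = w := by group
    rwa [e] at h2
  eqv g hg c hc w hw := Fam_conj g hw
  cen := by
    rintro _ ⟨g, hg, rfl⟩ w hw
    rw [mem_F_a b] at hw
    exact comm_conj' (WWa_comm_a b hw)
  act := by
    rintro _ ⟨g, hg, rfl⟩ w hw u hu
    rw [mem_F_a b] at hw
    have hg' : g⁻¹ * M₁.e nn = M₁.e nn * g⁻¹ := mem_C.1 (inv_mem hg)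
    have h1 : g⁻¹ * u * g ∈ UU (M₁.e nn) (M₁.e aa) := by
      have := UU_norm hg' hu
      rwa [inv_inv] at this
    exact act_conj (b.WWa_comm hw (hU h1)) (b.UU_comm (mem_UU (mem_C.1 hg)) hu)

theorem bb_mem : ∃ g, g ∈ centralizer ({M₁.e nn} : Set G) ∧ g ∈ normalizer (V₁ : Set G) ∧
    M₁.e bb = g * M₁.e aa * g⁻¹ := by
  obtain ⟨g, -, hg⟩ := M₁.exists_lift (Equiv.swap 3 4)
  have hg : M₁.Ind g (Equiv.swap 3 4) := hg
  refine ⟨g, mem_C.2 ((hg.commute_iff _).2 (Or.inl (by decide))), hg.mem_normalizer, ?_⟩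
  rw [hg aa]
  congr 1
  decide

theorem cc_mem : ∃ g, g ∈ centralizer ({M₁.e nn} : Set G) ∧ g ∈ normalizer (V₁ : Set G) ∧
    M₁.e cc = g * M₁.e aa * g⁻¹ := by
  obtain ⟨g, -, hg⟩ := M₁.exists_lift (Equiv.swap 2 4)
  have hg : M₁.Ind g (Equiv.swap 2 4) := hg
  refine ⟨g, mem_C.2 ((hg.commute_iff _).2 (Or.inl (by decide))), hg.mem_normalizer, ?_⟩
  rw [hg aa]
  congr 1
  decide

theorem ab : M₁.e aa * M₁.e bb = M₁.e cc := by
  rw [← M₁.e_add]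
  congr 1
  decide

theorem comm_s_of {y : G} (h1 : y * M₁.e nn = M₁.e nn * y) (h2 : y * M₁.e aa = M₁.e aa * y) :
    y * M₁.e ss = M₁.e ss * y := by
  rw [← na M₁, ← mul_assoc, h1, mul_assoc, h2, ← mul_assoc]

/-- (A8) from `Δ(a) = b ^ Y` and (1) -/
theorem eight (hV : V₁ ≤ Q (M₁.e ss)) (hE : WW V₁ V₁ (M₁.e ss) ≤ Q (M₁.e nn))
    (hi : ∀ d ∈ cls (centralizer ({M₁.e nn} : Set G)) (M₁.e aa),
      (∃ w ∈ Fam (M₁.e nn) (WW V₁ V₂ (M₁.e nn)) (M₁.e aa), w * d ≠ d * w) →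
      ∃ y ∈ centralizer ({M₁.e nn} : Set G), y * M₁.e aa = M₁.e aa * y ∧ d = y * M₁.e bb * y⁻¹) :
    ∀ d ∈ cls (centralizer ({M₁.e nn} : Set G)) (M₁.e aa),
      (∃ w ∈ Fam (M₁.e nn) (WW V₁ V₂ (M₁.e nn)) (M₁.e aa), w * d ≠ d * w) →
      ∀ w ∈ Fam (M₁.e nn) (WW V₁ V₂ (M₁.e nn)) (M₁.e aa),
        (w * d = d * w ↔ w * M₁.e bb = M₁.e bb * w) := by
  intro d hd hj w hw
  obtain ⟨y, hy, hya, rfl⟩ := hi d hd hj
  have hys := comm_s_of b (mem_C.1 hy) hya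
  rw [mem_F_a' b] at hw
  have hya' : y⁻¹ * M₁.e aa = M₁.e aa * y⁻¹ := by
    rw [inv_mul_eq_iff_eq_mul, ← mul_assoc, hya, mul_inv_cancel_right]
  have hw' : y⁻¹ * w * y ∈ WW V₁ V₂ (M₁.e aa) := by
    have := WW_norm hya' hw
    rwa [inv_inv] at this
  have h1 : w * (y * M₁.e bb * y⁻¹) = y * M₁.e bb * y⁻¹ * w ↔
      y⁻¹ * w * y * M₁.e bb = M₁.e bb * (y⁻¹ * w * y) := by
    have := comm_conj_iff (g := y⁻¹) (w := w) (u := M₁.e bb)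
    rw [inv_inv] at this
    exact this.symm
  rw [h1, ← a_cent_iff b hw', ← a_cent_iff b hw, one_a b hV hE hw', one_a b hV hE hw]
  constructor
  · rintro h2 _ ⟨g, hg, rfl⟩
    have h3 := comm_conj' (h2 (y⁻¹ * g * M₁.e nn * (y⁻¹ * g)⁻¹)
      ⟨y⁻¹ * g, mul_mem (inv_mem (mem_C.2 hys)) hg, rfl⟩)
    have e : y * (y⁻¹ * g * M₁.e nn * (y⁻¹ * g)⁻¹) * y⁻¹ = g * M₁.e nn * g⁻¹ := by group
    rwa [e] at h3
  · rintro h2 _ ⟨g, hg, rfl⟩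
    have h3 := h2 (y * g * M₁.e nn * (y * g)⁻¹) ⟨y * g, mul_mem (mem_C.2 hys) hg, rfl⟩
    have h4 := (comm_conj_iff (g := y⁻¹) (w := w) (u := g * M₁.e nn * g⁻¹)).2 (by
      rw [inv_inv]
      have e : y * (g * M₁.e nn * g⁻¹) * y⁻¹ = y * g * M₁.e nn * (y * g)⁻¹ := by group
      rw [e]
      exact h3)
    rwa [inv_inv] at h4

/-- `W_a ∩ Q_n = C_{W_a}(V₁)` -/
theorem a_mem_Q_iff (hV : V₁ ≤ Q (M₁.e ss)) (hE : WW V₁ V₁ (M₁.e ss) ≤ Q (M₁.e nn))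
    (hi : ∀ d ∈ cls (centralizer ({M₁.e nn} : Set G)) (M₁.e aa),
      (∃ w ∈ Fam (M₁.e nn) (WW V₁ V₂ (M₁.e nn)) (M₁.e aa), w * d ≠ d * w) →
      ∃ y ∈ centralizer ({M₁.e nn} : Set G), y * M₁.e aa = M₁.e aa * y ∧ d = y * M₁.e bb * y⁻¹)
    {w : G} (hw : w ∈ WW V₁ V₂ (M₁.e aa)) : w ∈ Q (M₁.e nn) ↔ w ∈ centralizer (V₁ : Set G) := by
  rw [a_cent_iff b hw]
  constructor
  · intro h1
    exact ((b.mem_Q_iff hw).1 h1 _ (b.perp_mem₁ (x := bb) (by decide))).symm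
  · intro h1
    rw [b.mem_Q_iff hw]
    have h2 : UU (M₁.e nn) (M₁.e aa) ≤ centralizer ({w} : Set G) := by
      refine UU_le (mem_C.2 (WWa_comm_n b hw).symm) fun g hg => mem_C.2 ?_
      have hF := (mem_F_a' b).2 hw
      by_cases h3 : w * (g * M₁.e aa * g⁻¹) = g * M₁.e aa * g⁻¹ * w
      · exact h3.symm
      · exact absurd ((eight b hV hE hi _ ⟨g, mem_C.2 hg, rfl⟩ ⟨w, hF, h3⟩ w hF).2 h1) h3
    exact fun u hu => mem_C.1 (h2 hu)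

/-- `W_n ∩ Q_a = C_{W_n}(V₁)` -/
theorem n_mem_Q_iff (hV : V₁ ≤ Q (M₁.e ss)) (hE : WW V₁ V₁ (M₁.e ss) ≤ Q (M₁.e nn))
    (hi : ∀ d ∈ cls (centralizer ({M₁.e nn} : Set G)) (M₁.e aa),
      (∃ w ∈ Fam (M₁.e nn) (WW V₁ V₂ (M₁.e nn)) (M₁.e aa), w * d ≠ d * w) →
      ∃ y ∈ centralizer ({M₁.e nn} : Set G), y * M₁.e aa = M₁.e aa * y ∧ d = y * M₁.e bb * y⁻¹)
    {w : G} (hw : w ∈ WW V₁ V₂ (M₁.e nn)) : w ∈ Q (M₁.e aa) ↔ w ∈ centralizer (V₁ : Set G) := by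
  obtain ⟨x, -, -, h1, h2, -, h3, h4⟩ := exists_x b
  have e : x⁻¹ * (x * w * x⁻¹) * x = w := by group
  have h5 : x * w * x⁻¹ ∈ WW V₁ V₂ (M₁.e aa) := by
    rw [← conj_WWa b h1 h3 h4, e]
    exact hw
  have h6 := a_mem_Q_iff b hV hE hi h5
  rw [← cent_conj_iff h3, e, ← h2, ← mem_Q_conj, e] at h6
  exact h6

theorem n_ind {w : G} (hw : w ∈ WW V₁ V₂ (M₁.e nn)) (h1 : w ∉ centralizer (V₁ : Set G)) :
    M₁.Ind w (Equiv.swap 0 1) := by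
  obtain ⟨p, hp, hi⟩ := b.Q_ind₁ (b.WW_le_Q hw)
  rcases hp with rfl | rfl
  · exact absurd (FiveMod.ind_one_iff.1 hi) h1
  · exact hi

/-- the data of `ChiConst` -/
theorem chi (hV : V₁ ≤ Q (M₁.e ss)) (hE : WW V₁ V₁ (M₁.e ss) ≤ Q (M₁.e nn))
    (hU : UU (M₁.e nn) (M₁.e aa) ≤ Q (M₁.e aa))
    (hi : ∀ d ∈ cls (centralizer ({M₁.e nn} : Set G)) (M₁.e aa),
      (∃ w ∈ Fam (M₁.e nn) (WW V₁ V₂ (M₁.e nn)) (M₁.e aa), w * d ≠ d * w) →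
      ∃ y ∈ centralizer ({M₁.e nn} : Set G), y * M₁.e aa = M₁.e aa * y ∧ d = y * M₁.e bb * y⁻¹) :
    Cfsg.Agent.Omega.S5.ChiConst.Dat (M₁.e nn) (M₁.e aa) (M₁.e bb) (centralizer ({M₁.e nn} : Set G))
      (UU (M₁.e nn) (M₁.e aa)) (WW V₁ V₂ (M₁.e nn)) (Fam (M₁.e nn) (WW V₁ V₂ (M₁.e nn))) Q where
  nN g hg := mem_C.1 hg
  UN g hg u hu := UU_norm (mem_C.1 hg) hu
  Ucomm u hu v hv := b.UU_comm hu hv
  Usq u hu := b.UU_sq hu
  nU := self_mem_UU _ _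
  aU := mem_UU_self _ _
  WN g hg y hy := WW_norm (mem_C.1 hg) hy
  WfN w hw := mem_C.2 (WWa_comm_n b ((mem_F_a' b).1 hw))
  Wf_eqv g hg c hc w hw := Fam_conj g hw
  O_eqv g hg c hc y hy := by
    rw [← mem_Q_conj]
    have e : g⁻¹ * (g * y * g⁻¹) * g = y := by group
    rwa [e]
  act w hw u hu := (calcN b hU).act _ ⟨1, one_mem _, by group⟩ w hw u hu
  sym := (calcN b hU).sym
  idx y hy y' hy' h1 h2 := by
    rw [n_mem_Q_iff b hV hE hi hy] at h1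
    rw [n_mem_Q_iff b hV hE hi hy'] at h2
    rw [n_mem_Q_iff b hV hE hi (mul_mem hy hy')]
    have h3 := (n_ind b hy h1).mul (n_ind b hy' h2)
    rw [Equiv.swap_mul_self] at h3
    exact FiveMod.ind_one_iff.1 h3
  out := by
    obtain ⟨k, hk, hki⟩ := b.exists_move₁
    refine ⟨k, hk, ?_⟩
    rw [n_mem_Q_iff b hV hE hi hk]
    intro h0
    exact absurd (FiveMod.Ind.unique (FiveMod.ind_one_iff.2 h0) hki) (by decide)
  hyp y hy hyO w hw := by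
    rw [mem_F_a' b] at hw
    have h1 := b.WWa_comm hw hyO
    have h2 : y * M₁.e aa = M₁.e aa * y := mem_C.1 (o2_le _ hyO)
    rcases h1 with h1 | h1
    · exact Or.inl (mul_inv_eq_one.1 h1)
    · right
      rw [h2]
      exact mul_inv_eq_iff_eq_mul.1 h1
  aW := le_WW₁ V₁ V₂ _ (M₁.e_mem _)
  aO := by
    rintro _ ⟨g, hg, rfl⟩
    rw [← mem_Q_conj]
    refine hU ?_
    have hg' : g⁻¹ * M₁.e nn = M₁.e nn * g⁻¹ := mem_C.1 (inv_mem hg)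
    have := UU_norm hg' (mem_UU_self (M₁.e nn) (M₁.e aa))
    rwa [inv_inv] at this
  bA := by
    obtain ⟨g, hg, -, h1⟩ := bb_mem b
    exact ⟨g, hg, h1⟩
  bO y hy := by
    obtain ⟨g, hg, hgV, h1⟩ := bb_mem b
    have hg' : g⁻¹ * M₁.e nn = M₁.e nn * g⁻¹ := mem_C.1 (inv_mem hg)
    have h2 : g⁻¹ * y * g ∈ WW V₁ V₂ (M₁.e nn) := by
      have := WW_norm hg' hy
      rwa [inv_inv] at this
    rw [h1, ← mem_Q_conj, n_mem_Q_iff b hV hE hi h2, cent_conj_iff hgV, n_mem_Q_iff b hV hE hi hy]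
  abO y hy := by
    obtain ⟨g, hg, hgV, h1⟩ := cc_mem b
    have hg' : g⁻¹ * M₁.e nn = M₁.e nn * g⁻¹ := mem_C.1 (inv_mem hg)
    have h2 : g⁻¹ * y * g ∈ WW V₁ V₂ (M₁.e nn) := by
      have := WW_norm hg' hy
      rwa [inv_inv] at this
    rw [ab b, h1, ← mem_Q_conj, n_mem_Q_iff b hV hE hi h2, cent_conj_iff hgV, n_mem_Q_iff b hV hE hi hy]
  mov := by
    obtain ⟨k, hk, hki⟩ := b.exists_move_a₁
    refine ⟨k, (mem_F_a' b).2 hk, ?_⟩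
    rw [Ne, hki.commute_iff]
    decide
  eight := eight b hV hE hi

/-- (B0)(iv): `E ≤ Q_n` if `E` centralises `a ^ C(n)` -/
theorem E_le_Qn (hV : V₁ ≤ Q (M₁.e ss)) (hK : ∀ k ∈ WW V₁ V₁ (M₁.e ss),
    ∀ c ∈ cls (centralizer ({M₁.e nn} : Set G)) (M₁.e aa), k * c = c * k) :
    WW V₁ V₁ (M₁.e ss) ≤ Q (M₁.e nn) := by
  have h1 : WW V₁ V₁ (M₁.e ss) ≤ centralizer (UU (M₁.e nn) (M₁.e aa) : Set G) := by
    intro k hk
    rw [mem_centralizer_iff]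
    have h2 : UU (M₁.e nn) (M₁.e aa) ≤ centralizer ({k} : Set G) :=
      UU_le (mem_C.2 (E_comm b.dih₁ hV (le_WW₁ V₁ V₁ _ (M₁.e_mem _)) hk))
        fun g hg => mem_C.2 (hK k hk _ ⟨g, mem_C.2 hg, rfl⟩).symm
    exact fun u hu => mem_C.1 (h2 hu)
  have h2 : WW V₁ V₁ (M₁.e ss) ≤ o2 (centralizer (UU (M₁.e nn) (M₁.e aa) : Set G)) := by
    refine le_o2 h1 (E_isPGroup b.dih₁ hV) ?_
    intro x hx
    have hx' := mem_inf.1 (b.centralizer_UU_le hx)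
    have hxs := comm_s_of b (mem_C.1 hx'.1) (mem_C.1 hx'.2)
    refine mem_normalizer_of_cj_le ?_
    rintro _ ⟨w, hw, rfl⟩
    exact WW_norm hxs hw
  refine h2.trans (le_o2 ((o2_le _).trans (b.centralizer_UU_le.trans inf_le_left)) (o2_isPGroup _) ?_)
  exact b.normalizer_centralizer_UU.trans (normalizer_le_normalizer_o2' _)

/-! ### Connectivity -/

theorem bb_conj {x : G} (hx : M₁.Ind x tt) : x * M₁.e bb * x⁻¹ = M₁.e ![1, 0, 0, 0, 1] := by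
  rw [hx bb]
  congr 1
  decide

/-- the data of `Z.Conn` -/
theorem con {V0 : Subgroup G} (hV0S : ∀ v ∈ V0, ∀ g ∈ (S : Subgroup G), g * v = v * g)
    (hV0L : ∀ v ∈ V0, ∀ g ∈ L₁, g * v = v * g)
    (hfix : ∀ u ∈ UU (M₁.e nn) (M₁.e aa), (∀ t ∈ (S : Subgroup G) ⊓ centralizer ({M₁.e nn} : Set G),
      t * u = u * t) → ∃ v ∈ V0, u = v ∨ u = v * M₁.e nn ∨ u = v * M₁.e aa ∨ u = v * M₁.e ss)
    (heq : ∀ c ∈ cls (centralizer ({M₁.e nn} : Set G)) (M₁.e aa),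
      (∀ t ∈ (S : Subgroup G) ⊓ centralizer ({M₁.e nn} : Set G), t * c = c * t) → c = M₁.e aa)
    (hU : UU (M₁.e nn) (M₁.e aa) ≤ Q (M₁.e aa)) {x : G} (hxS : x ∈ (S : Subgroup G)) (hx : M₁.Ind x tt) :
    Conn.Con (M₁.e nn) (M₁.e aa) (M₁.e bb) x (UU (M₁.e nn) (M₁.e aa))
      ((S : Subgroup G) ⊓ centralizer ({M₁.e nn} : Set G)) V0 (Fam (M₁.e nn) (WW V₁ V₂ (M₁.e nn))) where
  cal := calcN b hU
  eqv g c w hw := Fam_conj g hw
  xn := Dih.tt_n hx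
  xa := Dih.tt_a hx
  nU := self_mem_UU _ _
  hT := S.isPGroup'.to_le inf_le_left
  hTN t ht := mem_C.1 ht.2
  hTa t ht := b.dih₁.T_comm_a ht
  heq := heq
  fix u hu hT := by
    obtain ⟨v, hv, h1⟩ := hfix u hu hT
    refine ⟨v, hv, ?_⟩
    rwa [na]
  V0x v hv := hV0S v hv x hxS
  V0b v hv w hw := by
    obtain ⟨g, hgL, hg⟩ := M₁.exists_lift (Equiv.swap 3 4)
    have hg : M₁.Ind g (Equiv.swap 3 4) := hg
    have h1 : M₁.e bb = g * M₁.e aa * g⁻¹ := by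
      rw [hg aa]
      congr 1
      decide
    rw [h1, mem_F_a b] at hw
    have h2 := hV0S v hv _ (b.Qa_le_T (b.WWa_le_Qa hw)).1
    have h3 := hV0L v hv g hgL
    have e : g⁻¹ * v * g = v := by
      calc g⁻¹ * v * g = g⁻¹ * (v * g) := by group
        _ = g⁻¹ * (g * v) := by rw [h3]
        _ = v := by group
    calc w * v = g * (g⁻¹ * w * g * (g⁻¹ * v * g)) * g⁻¹ := by group
      _ = g * (v * (g⁻¹ * w * g)) * g⁻¹ := by rw [e, h2]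
      _ = (g * v) * (g⁻¹ * w) := by group
      _ = (v * g) * (g⁻¹ * w) := by rw [h3]
      _ = v * w := by group
  bA := by
    obtain ⟨g, hg, -, h1⟩ := bb_mem b
    exact ⟨g, hg, h1⟩
  ab := by
    obtain ⟨k, hk, hki⟩ := b.exists_move_a₁
    refine ⟨k, (mem_F_a' b).2 hk, ?_⟩
    rw [Ne, hki.commute_iff]
    decide
  bb := by
    obtain ⟨g, -, hg⟩ := M₁.exists_lift (Equiv.swap 1 4)
    have hg : M₁.Ind g (Equiv.swap 1 4) := hg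
    obtain ⟨k, hk, hki⟩ := b.exists_move₁
    have h1 : x * M₁.e bb * x⁻¹ = g * M₁.e nn * g⁻¹ := by
      rw [bb_conj b hx, hg nn]
      congr 1
      decide
    refine ⟨g * k * g⁻¹, ?_, ?_⟩
    · rw [h1, mem_F_n b]
      have e : g⁻¹ * (g * k * g⁻¹) * g = k := by group
      rwa [e]
    · have h2 := (hg.mul hki).mul hg.inv
      rw [Ne, h2.commute_iff]
      decide
  kk := by
    obtain ⟨g, -, hg⟩ := M₁.exists_lift (Equiv.swap 3 4)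
    have hg : M₁.Ind g (Equiv.swap 3 4) := hg
    have h1 : M₁.e bb = g * M₁.e aa * g⁻¹ := by
      rw [hg aa]
      congr 1
      decide
    obtain ⟨k, hk, hki⟩ := b.exists_move_a₁
    have h2 : g * k * g⁻¹ ∈ Fam (M₁.e nn) (WW V₁ V₂ (M₁.e nn)) (M₁.e bb) := by
      rw [h1, mem_F_a b]
      have e : g⁻¹ * (g * k * g⁻¹) * g = k := by group
      rwa [e]
    refine ⟨k * (g * k * g⁻¹), mul_mem (mem_sup_left ((mem_F_a' b).2 hk)) (mem_sup_right h2), ?_⟩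
    have h3 := hki.mul ((hg.mul hki).mul hg.inv)
    rw [h3 aa]
    congr 1
    decide

omit b [Finite G] in
theorem conn_of {n a b x : G} {U T V0 : Subgroup G} {Wf : G → Subgroup G} [Finite G]
    (h : Conn.Con n a b x U T V0 Wf) : BZero.Conn (centralizer ({n} : Set G)) a Wf := by
  intro R hR hadj c hc
  have h1 := h.conn hc
  refine hR.symm _ BZero.a_cls _ hc ?_
  clear hc
  induction h1 with
  | refl => exact hR.refl _ BZero.a_cls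
  | @tail d e h1 h2 ih =>
    obtain ⟨hd, he, hw⟩ := h2
    rw [Conn.AA_n] at hd he
    exact hR.trans _ BZero.a_cls _ hd _ he ih (hadj _ hd _ he hw)

/-- **THEOREM B1 for arbitrary `V₀`** from connectivity -/
theorem false_of_conn (hV : V₁ ≤ Q (M₁.e ss)) (hU : UU (M₁.e nn) (M₁.e aa) ≤ Q (M₁.e aa))
    (hC : BZero.Conn (centralizer ({M₁.e nn} : Set G)) (M₁.e aa) (Fam (M₁.e nn) (WW V₁ V₂ (M₁.e nn)))) :
    False := by
  have hcal := calcN b hU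
  have hbA : M₁.e bb ∈ cls (centralizer ({M₁.e nn} : Set G)) (M₁.e aa) := by
    obtain ⟨g, hg, -, h1⟩ := bb_mem b
    exact ⟨g, hg, h1⟩
  have hmov : BZero.Adj (Fam (M₁.e nn) (WW V₁ V₂ (M₁.e nn))) (M₁.e aa) (M₁.e bb) := by
    obtain ⟨k, hk, hki⟩ := b.exists_move_a₁
    refine ⟨k, (mem_F_a' b).2 hk, ?_⟩
    rw [Ne, hki.commute_iff]
    decide
  have hi : ∀ d ∈ cls (centralizer ({M₁.e nn} : Set G)) (M₁.e aa),
      (∃ w ∈ Fam (M₁.e nn) (WW V₁ V₂ (M₁.e nn)) (M₁.e aa), w * d ≠ d * w) →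
      ∃ y ∈ centralizer ({M₁.e nn} : Set G), y * M₁.e aa = M₁.e aa * y ∧ d = y * M₁.e bb * y⁻¹ :=
    fun d hd had => BZero.conj_b hcal hbA hmov hd had
  have hVE := le_WW₁ V₁ V₁ (M₁.e ss)
  have hE : WW V₁ V₁ (M₁.e ss) ≤ Q (M₁.e nn) := by
    refine E_le_Qn b hV (BZero.comm_all hcal hC hbA hmov ?_ ?_ ?_)
    · intro y hy hya k hk
      exact WW_norm (comm_s_of b (mem_C.1 hy) hya) hk
    · exact fun k hk => E_comm b.dih₁ hV hk (hVE (M₁.e_mem _))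
    · exact fun k hk => E_comm b.dih₁ hV hk (hVE (M₁.e_mem _))
  have hchi := chi b hV hE hU hi
  have hc : ∀ c ∈ cls (centralizer ({M₁.e nn} : Set G)) (M₁.e aa),
      Cfsg.Agent.Omega.S5.ChiConst.Dat.Same (WW V₁ V₂ (M₁.e nn)) Q c (M₁.e aa) := by
    refine hC _ ⟨fun _ _ _ _ => Iff.rfl, fun _ _ _ _ h1 y hy => (h1 y hy).symm,
      fun _ _ _ _ _ _ h1 h2 y hy => (h1 y hy).trans (h2 y hy),
      fun g hg c hc d hd h1 => hchi.same_conj hc hd hg h1⟩ ?_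
    intro c hc d hd hw
    obtain ⟨w, hw, hwd⟩ := hw
    exact fun y hy => (hchi.same_of_move' hc hd hw hwd y hy).symm
  obtain ⟨v, hv, hvi⟩ := b.ex
  have hhn : h ∈ centralizer ({M₁.e nn} : Set G) := mem_C.2 b.hn
  have hvW : v ∈ WW V₁ V₂ (M₁.e nn) := by
    rw [mem_cj] at hv
    have h1 := mem_WW₂ (V₁ := V₁) (V₂ := V₂) b.hn hv
    have h2 : h * (h⁻¹ * v * h) * h⁻¹ = v := by group
    rwa [h2] at h1
  have h1 := hc (h * M₁.e aa * h⁻¹) ⟨h, hhn, rfl⟩ v hvW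
  rw [← mem_Q_conj, n_mem_Q_iff b hV hE hi hvW] at h1
  rw [mem_cj] at hv
  have h2 := h1.1 (b.WWa_le_Qa (le_WW₂ V₁ V₂ _ hv))
  exact absurd (FiveMod.Ind.unique (FiveMod.ind_one_iff.2 h2) hvi) (by decide)

/-- **THEOREM B1 for arbitrary `V₀`** (#15257 (5)) -/
theorem false_of {V0 : Subgroup G} (hV0S : ∀ v ∈ V0, ∀ g ∈ (S : Subgroup G), g * v = v * g)
    (hV0L : ∀ v ∈ V0, ∀ g ∈ L₁, g * v = v * g)
    (hfix : ∀ u ∈ UU (M₁.e nn) (M₁.e aa), (∀ t ∈ (S : Subgroup G) ⊓ centralizer ({M₁.e nn} : Set G),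
      t * u = u * t) → ∃ v ∈ V0, u = v ∨ u = v * M₁.e nn ∨ u = v * M₁.e aa ∨ u = v * M₁.e ss)
    (heq : ∀ c ∈ cls (centralizer ({M₁.e nn} : Set G)) (M₁.e aa),
      (∀ t ∈ (S : Subgroup G) ⊓ centralizer ({M₁.e nn} : Set G), t * c = c * t) → c = M₁.e aa)
    (hV : V₁ ≤ Q (M₁.e ss)) (hU : UU (M₁.e nn) (M₁.e aa) ≤ Q (M₁.e aa)) : False := by
  obtain ⟨x, hxS, hx, -⟩ := exists_x b
  exact false_of_conn b hV hU (conn_of (con b hV0S hV0L hfix heq hU hxS hx))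

end main

end Cfsg.Agent.Omega.TTn.Z.BOne
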