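import Cfsg.Agent.Omega.TTn.Base

/-!
# T-T, `n` not 2-central, without `Ω₁(Z(S)) ≤ V`

`Omega/TTn/{Dih,Base}.lean` of helper421 without the hypothesis `zc S ≤ V` (for `V_P = V₀ × A`, #15257): the same
structures `Dih`, `Base` and theorems in the namespace `TTn.Z` (all except `mem_E4`, `eq_a`).
-/

set_option autoImplicit false
set_option linter.unusedSectionVars false

namespace Cfsg.Agent.Omega.TTn.Z

open Subgroup Cfsg Cfsg.Agent.ZN Cfsg.Agent.ZN.ChoiceBase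
open Cfsg.Agent.Omega.S5.Mod Cfsg.Agent.Omega.S5.TT
open Cfsg.Agent.Omega.S5.TT.Pos (na ns as sn n_ne s_ne a_ne n_ne_a n_ne_s a_ne_s e_sq' mem_C)
open Cfsg.Agent.MinSimple.VModule (o2_isPGroup le_o2 o2_le le_normalizer_o2 o2_le_of_sylow
  normalizer_le_normalizer_zc)

universe u

variable {G : Type u} [Group G]

/-- `S ≤ L` induces `C((0 1)(2 3))` on the `O₄⁻(2)`-module `V`. -/
structure Dih (S : Sylow 2 G) {V L : Subgroup G} (M : FiveMod V L) : Prop where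
  S_le : (S : Subgroup G) ≤ L
  d8 : ∀ g ∈ (S : Subgroup G), ∀ p, M.Ind g p → p * dd = dd * p
  d8' : ∀ p, p * dd = dd * p → ∃ g ∈ (S : Subgroup G), M.Ind g p

namespace Dih

variable {S : Sylow 2 G} {V L : Subgroup G} {M : FiveMod V L} (t : Dih S M)
include t

theorem S_norm : (S : Subgroup G) ≤ normalizer (V : Set G) := t.S_le.trans M.le_normalizer

theorem S_comm {g : G} (hg : g ∈ (S : Subgroup G)) : g * M.e ss = M.e ss * g := by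
  obtain ⟨p, hp⟩ := M.exists_ind (t.S_le hg)
  exact (hp.commute_iff _).2 (Or.inl (fix_ss p (t.d8 g hg p hp)))

theorem T_ind {g : G} (hg : g ∈ (S : Subgroup G) ⊓ centralizer ({M.e nn} : Set G)) :
    ∃ p, TTp p ∧ M.Ind g p := by
  obtain ⟨p, hp⟩ := M.exists_ind (t.S_le hg.1)
  exact ⟨p, ttp_of p (t.d8 g hg.1 p hp) ((hp.commute_iff _).1 (mem_C.1 hg.2)), hp⟩

/-- an element of `S` swapping `n` and `a` -/
theorem exists_swap : ∃ g ∈ (S : Subgroup G), M.Ind g tt := t.d8' tt (by decide)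

omit t in
theorem tt_n {g : G} (hg : M.Ind g tt) : g * M.e nn * g⁻¹ = M.e aa := by
  rw [hg, M.e_eq_iff]; decide

omit t in
theorem tt_a {g : G} (hg : M.Ind g tt) : g * M.e aa * g⁻¹ = M.e nn := by
  rw [hg, M.e_eq_iff]; decide

omit t in
theorem tt_s {g : G} (hg : M.Ind g tt) : g * M.e ss * g⁻¹ = M.e ss := by
  rw [hg, M.e_eq_iff]; decide

theorem T_comm_a {g : G} (hg : g ∈ (S : Subgroup G) ⊓ centralizer ({M.e nn} : Set G)) :
    g * M.e aa = M.e aa * g := by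
  obtain ⟨p, hp, hi⟩ := t.T_ind hg
  exact (hi.commute_iff _).2 (Or.inl (ttp_aa p hp))

/-- `g ∈ S` swapping `n`, `a` normalises `T`. -/
theorem conj_T {g : G} (hgS : g ∈ (S : Subgroup G)) (hg : M.Ind g tt) {x : G}
    (hx : x ∈ (S : Subgroup G) ⊓ centralizer ({M.e nn} : Set G)) :
    g * x * g⁻¹ ∈ (S : Subgroup G) ⊓ centralizer ({M.e nn} : Set G) := by
  refine mem_inf.2 ⟨mul_mem (mul_mem hgS hx.1) (inv_mem hgS), mem_C.2 ?_⟩
  rw [← tt_a hg]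
  calc g * x * g⁻¹ * (g * M.e aa * g⁻¹) = g * (x * M.e aa) * g⁻¹ := by group
    _ = g * (M.e aa * x) * g⁻¹ := by rw [t.T_comm_a hx]
    _ = g * M.e aa * g⁻¹ * (g * x * g⁻¹) := by group

omit t in
theorem mem_T_of_ind {g : G} (hg : g ∈ (S : Subgroup G)) {p : Equiv.Perm (Fin 5)} (hp : TTp p)
    (hi : M.Ind g p) : g ∈ (S : Subgroup G) ⊓ centralizer ({M.e nn} : Set G) :=
  ⟨hg, mem_C.2 ((hi.commute_iff _).2 (Or.inl (ttp_nn p hp)))⟩

/-- `S = T ∪ T g`. -/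
theorem mem_or {g : G} (hgS : g ∈ (S : Subgroup G)) (hg : M.Ind g tt) {x : G}
    (hx : x ∈ (S : Subgroup G)) : x ∈ (S : Subgroup G) ⊓ centralizer ({M.e nn} : Set G) ∨
      x * g ∈ (S : Subgroup G) ⊓ centralizer ({M.e nn} : Set G) := by
  obtain ⟨p, hp⟩ := M.exists_ind (t.S_le hx)
  rcases ttp_or p (t.d8 x hx p hp) with h1 | h1
  · exact Or.inl (mem_T_of_ind hx h1 hp)
  · exact Or.inr (mem_T_of_ind (mul_mem hx hgS) h1 (hp.mul hg))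

theorem V_le_S : V ≤ (S : Subgroup G) := by
  have h1 : IsPGroup 2 ((S : Subgroup G) ⊔ V : Subgroup G) :=
    IsPGroup.to_sup_of_normal_right' S.isPGroup' M.isPGroup t.S_norm
  have h2 := S.is_maximal' h1 le_sup_left
  rw [← h2]
  exact le_sup_right

theorem S_le_normalizer_T [Finite G] : (S : Subgroup G) ≤
    normalizer (((S : Subgroup G) ⊓ centralizer ({M.e nn} : Set G) : Subgroup G) : Set G) := by
  obtain ⟨g, hgS, hg⟩ := t.exists_swap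
  have h1 : g ∈ normalizer
      (((S : Subgroup G) ⊓ centralizer ({M.e nn} : Set G) : Subgroup G) : Set G) := by
    refine mem_normalizer_of_cj_le ?_
    rintro _ ⟨x, hx, rfl⟩
    exact t.conj_T hgS hg hx
  intro x hx
  rcases t.mem_or hgS hg hx with h2 | h2
  · exact Subgroup.le_normalizer h2
  · have h3 := mul_mem (Subgroup.le_normalizer h2) (inv_mem h1)
    have e : x * g * g⁻¹ = x := by group
    rwa [e] at h3

theorem n_mem_zT : M.e nn ∈ zc ((S : Subgroup G) ⊓ centralizer ({M.e nn} : Set G)) :=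
  MinSimple.VModule.mem_zc.2 ⟨⟨t.V_le_S (M.e_mem nn), mem_C.2 rfl⟩, fun _ hb => mem_C.1 hb.2,
    e_sq' M nn⟩

theorem s_mem_zT : M.e ss ∈ zc ((S : Subgroup G) ⊓ centralizer ({M.e nn} : Set G)) :=
  MinSimple.VModule.mem_zc.2 ⟨⟨t.V_le_S (M.e_mem ss), mem_C.2 (M.e_comm _ _)⟩,
    fun _ hb => t.S_comm hb.1, e_sq' M ss⟩

end Dih


theorem Dih.of {S : Sylow 2 G} {V L : Subgroup G} {M : FiveMod V L} (t : Cfsg.Agent.Omega.TTn.Dih S M) : Dih S M :=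
  ⟨t.S_le, t.d8, t.d8'⟩

/-! ### The configuration -/

/-- The configuration T-T with `n` not 2-central, for two modules over the same `S`. -/
structure Base (S : Sylow 2 G) {V₁ V₂ L₁ L₂ : Subgroup G} (M₁ : FiveMod V₁ L₁)
    (M₂ : FiveMod V₂ L₂) (h : G) : Prop where
  two : IsCharacteristicTwoType G
  dih₁ : Dih S M₁
  dih₂ : Dih S M₂
  en : M₁.e nn = M₂.e nn
  ea : M₁.e aa = M₂.e aa
  hn : h * M₁.e nn = M₁.e nn * h
  act₁ : ∀ v ∈ cj h V₂, ∃ p, Tp p ∧ M₁.Ind v p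
  act₂ : ∀ v ∈ V₁, ∃ p, Tp p ∧ (M₂.cj h).Ind v p
  ex : ∃ v ∈ cj h V₂, M₁.Ind v (Equiv.swap 0 1)
  nc : ∀ P : Sylow 2 G, ¬ (P : Subgroup G) ≤ centralizer ({M₁.e nn} : Set G)

namespace Base

variable {S : Sylow 2 G} {V₁ V₂ L₁ L₂ : Subgroup G} {M₁ : FiveMod V₁ L₁} {M₂ : FiveMod V₂ L₂} {h : G}
  (b : Base S M₁ M₂ h)
include b

theorem es : M₁.e ss = M₂.e ss := by
  rw [← na M₁, ← na M₂, b.en, b.ea]

/-! ### The Sylow 2-subgroup `T` of `C_G(n)` -/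

theorem card_S [Finite G] : Nat.card (S : Subgroup G) =
    2 * Nat.card ((S : Subgroup G) ⊓ centralizer ({M₁.e nn} : Set G) : Subgroup G) := by
  obtain ⟨g, hgS, hg⟩ := b.dih₁.exists_swap
  set T := (S : Subgroup G) ⊓ centralizer ({M₁.e nn} : Set G) with hT
  have h1 : (T.subgroupOf S).index = 2 := by
    rw [index_eq_two_iff]
    refine ⟨⟨g, hgS⟩, fun x => ?_⟩
    have hgT : g ∉ T := by
      intro h0
      have h2 := Dih.tt_n hg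
      rw [mem_C.1 h0.2, mul_inv_cancel_right] at h2
      exact n_ne_a M₁ h2
    by_cases hx : (x : G) ∈ T
    · right
      refine ⟨mem_subgroupOf.2 hx, fun h0 => hgT ?_⟩
      have h2 := mem_subgroupOf.1 h0
      have h3 := mul_mem (inv_mem hx) h2
      have h4 : (x : G)⁻¹ * ((x * ⟨g, hgS⟩ : (S : Subgroup G)) : G) = g := by
        rw [coe_mul]; group
      rwa [h4] at h3
    · left
      refine ⟨mem_subgroupOf.2 ?_, fun h0 => hx (mem_subgroupOf.1 h0)⟩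
      rcases b.dih₁.mem_or hgS hg x.2 with h2 | h2
      · exact absurd h2 hx
      · exact h2
  have h2 := (T.subgroupOf (S : Subgroup G)).card_mul_index
  rw [h1] at h2
  have h3 : Nat.card (T.subgroupOf (S : Subgroup G)) = Nat.card T :=
    Nat.card_congr (subgroupOfEquivOfLe inf_le_left).toEquiv
  rw [← h2, h3, mul_comm]

/-- `T = C_S(n)` is a Sylow 2-subgroup of `C_G(n)`. -/
theorem not_dvd [Finite G] : ¬ 2 ∣ ((S : Subgroup G) ⊓ centralizer ({M₁.e nn} : Set G)).relIndex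
    (centralizer ({M₁.e nn} : Set G)) := by
  have hf : Fact (Nat.Prime 2) := ⟨Nat.prime_two⟩
  set N := centralizer ({M₁.e nn} : Set G) with hN
  set T := (S : Subgroup G) ⊓ N with hT
  have hTp : IsPGroup 2 (T.subgroupOf N) :=
    (S.isPGroup'.to_le inf_le_left).comap_of_injective _ N.subtype_injective
  obtain ⟨P, hP⟩ := hTp.exists_le_sylow
  have hPG : IsPGroup 2 ((P : Subgroup N).map N.subtype) := P.isPGroup'.map _
  obtain ⟨R, hR⟩ := hPG.exists_le_sylow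
  have hlt : (P : Subgroup N).map N.subtype < (R : Subgroup G) := by
    refine lt_of_le_of_ne hR fun h0 => b.nc R ?_
    rw [← h0]
    exact map_subtype_le _
  have hcR : Nat.card (R : Subgroup G) = Nat.card (S : Subgroup G) :=
    Nat.card_congr (Sylow.equiv R S).toEquiv
  have h2 : 2 * Nat.card ((P : Subgroup N).map N.subtype) ≤ Nat.card (R : Subgroup G) := by
    obtain ⟨k, hk⟩ := card_dvd_of_le hR
    rw [hk, mul_comm]
    refine Nat.mul_le_mul_left _ ?_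
    rcases k with _ | _ | k
    · rw [mul_zero] at hk
      exact absurd hk Nat.card_pos.ne'
    · rw [zero_add, mul_one] at hk
      exact absurd (eq_of_le_of_card_ge hR hk.le) hlt.ne
    · omega
  have h3 : Nat.card ((P : Subgroup N).map N.subtype) = Nat.card (P : Subgroup N) :=
    Nat.card_congr (equivMapOfInjective _ _ N.subtype_injective).symm.toEquiv
  have h4 : Nat.card (T.subgroupOf N) = Nat.card T :=
    Nat.card_congr (subgroupOfEquivOfLe inf_le_right).toEquiv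
  have h5 : (P : Subgroup N) = T.subgroupOf N := by
    refine (eq_of_le_of_card_ge hP ?_).symm
    rw [h4, ← h3]
    have h6 := b.card_S
    rw [← hN, ← hT] at h6
    omega
  have h6 := P.not_dvd_index
  rw [h5] at h6
  exact h6

theorem Q_le_T [Finite G] : Q (M₁.e nn) ≤ (S : Subgroup G) ⊓ centralizer ({M₁.e nn} : Set G) :=
  o2_le_of_sylow (S.isPGroup'.to_le inf_le_left) b.not_dvd

/-! ### `U_n ≤ Z(Q_n)` -/

theorem sq_n : (M₁.e nn) ^ 2 = 1 := e_sq' M₁ nn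

theorem n_mem_Q [Finite G] : M₁.e nn ∈ Q (M₁.e nn) := by
  refine MinSimple.Basic.char2_centralizer b.two (e_sq' M₁ nn) (n_ne M₁)
    (mem_inf.2 ⟨mem_C.2 rfl, mem_centralizer_iff.2 fun q hq => ?_⟩)
  exact mem_C.1 (o2_le _ hq)

theorem a_comm_Q [Finite G] {q : G} (hq : q ∈ Q (M₁.e nn)) : q * M₁.e aa = M₁.e aa * q :=
  b.dih₁.T_comm_a (b.Q_le_T hq)

theorem a_comm_n : M₁.e aa * M₁.e nn = M₁.e nn * M₁.e aa := M₁.e_comm _ _

theorem a_mem_Q [Finite G] : M₁.e aa ∈ Q (M₁.e nn) :=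
  MinSimple.Basic.char2_centralizer b.two (e_sq' M₁ nn) (n_ne M₁)
    (mem_inf.2 ⟨mem_C.2 b.a_comm_n, mem_centralizer_iff.2 fun _ hq => b.a_comm_Q hq⟩)

theorem Q_conj [Finite G] {g q : G} (hg : g * M₁.e nn = M₁.e nn * g) (hq : q ∈ Q (M₁.e nn)) :
    g * q * g⁻¹ ∈ Q (M₁.e nn) :=
  (mem_normalizer_iff.1 (le_normalizer_o2 _ (mem_C.2 hg)) _).1 hq

theorem Q_conj' [Finite G] {g q : G} (hg : g * M₁.e nn = M₁.e nn * g) (hq : q ∈ Q (M₁.e nn)) :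
    g⁻¹ * q * g ∈ Q (M₁.e nn) := by
  have h1 : g⁻¹ * M₁.e nn = M₁.e nn * g⁻¹ := by
    rw [inv_mul_eq_iff_eq_mul, ← mul_assoc, hg, mul_inv_cancel_right]
  have h2 := b.Q_conj h1 hq
  rwa [inv_inv] at h2

/-- `U_n ≤ O₂(C_G(n))` -/
theorem UU_le_Q [Finite G] : UU (M₁.e nn) (M₁.e aa) ≤ Q (M₁.e nn) :=
  UU_le b.n_mem_Q fun _ hg => b.Q_conj hg b.a_mem_Q

/-- `U_n` centralises `O₂(C_G(n))`. -/
theorem UU_comm_Q [Finite G] {u q : G} (hu : u ∈ UU (M₁.e nn) (M₁.e aa)) (hq : q ∈ Q (M₁.e nn)) :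
    u * q = q * u := by
  have key : UU (M₁.e nn) (M₁.e aa) ≤ centralizer (Q (M₁.e nn) : Set G) := by
    refine UU_le ?_ ?_
    · rw [mem_centralizer_iff]
      intro q hq
      exact mem_C.1 (o2_le _ hq)
    · intro g hg
      rw [mem_centralizer_iff]
      intro q hq
      have h1 := b.a_comm_Q (b.Q_conj' hg hq)
      calc q * (g * M₁.e aa * g⁻¹) = g * (g⁻¹ * q * g * M₁.e aa) * g⁻¹ := by group
        _ = g * (M₁.e aa * (g⁻¹ * q * g)) * g⁻¹ := by rw [h1]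
        _ = g * M₁.e aa * g⁻¹ * q := by group
  exact (mem_centralizer_iff.1 (key hu) q hq).symm

theorem UU_comm [Finite G] {u v : G} (hu : u ∈ UU (M₁.e nn) (M₁.e aa))
    (hv : v ∈ UU (M₁.e nn) (M₁.e aa)) : u * v = v * u :=
  b.UU_comm_Q hu (b.UU_le_Q hv)

theorem UU_sq [Finite G] {u : G} (hu : u ∈ UU (M₁.e nn) (M₁.e aa)) : u * u = 1 := by
  induction hu using closure_induction with
  | mem x hx =>
    rcases hx with rfl | ⟨g, -, rfl⟩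
    · exact M₁.e_sq _
    · have h1 : g * M₁.e aa * g⁻¹ * (g * M₁.e aa * g⁻¹) = g * (M₁.e aa * M₁.e aa) * g⁻¹ := by group
      rw [h1, M₁.e_sq]; group
  | one => exact one_mul 1
  | mul x y hx hy h1 h2 =>
    have h3 : x * y = y * x := b.UU_comm hx hy
    calc x * y * (x * y) = x * (y * x) * y := by group
      _ = (x * x) * (y * y) := by rw [← h3]; group
      _ = 1 := by rw [h1, h2, one_mul]
  | inv x _ h1 => rw [← mul_inv_rev, h1, inv_one]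

/-! ### `V₀ ≤ U_n` -/

/-- `n^⊥ ≤ U_n` (first module) -/
theorem perp_mem₁ {x : Vec} (hx : x 0 = x 1) : M₁.e x ∈ UU (M₁.e nn) (M₁.e aa) := by
  have h1 : ∀ {y : Vec}, M₁.e y ∈ UU (M₁.e nn) (M₁.e aa) → M₁.e (y + 1) ∈ UU (M₁.e nn) (M₁.e aa) := by
    intro y hy
    rwa [M₁.e_add, M₁.e_one, mul_one]
  have hn : M₁.e nn ∈ UU (M₁.e nn) (M₁.e aa) := self_mem_UU _ _
  have ha : M₁.e aa ∈ UU (M₁.e nn) (M₁.e aa) := mem_UU_self _ _
  have hp : ∀ (p : Equiv.Perm (Fin 5)), nn ∘ p.symm = nn →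
      M₁.e (aa ∘ p.symm) ∈ UU (M₁.e nn) (M₁.e aa) := by
    intro p hp
    obtain ⟨g, -, hg⟩ := M₁.exists_lift p
    rw [← hg]
    exact mem_UU ((hg.commute_iff _).2 (Or.inl hp))
  have hb : M₁.e bb ∈ UU (M₁.e nn) (M₁.e aa) := by
    have := hp (Equiv.swap 3 4) (by decide)
    rwa [show aa ∘ (Equiv.swap 3 4 : Equiv.Perm (Fin 5)).symm = bb by decide] at this
  have hc : M₁.e cc ∈ UU (M₁.e nn) (M₁.e aa) := by
    have := hp (Equiv.swap 2 4) (by decide)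
    rwa [show aa ∘ (Equiv.swap 2 4 : Equiv.Perm (Fin 5)).symm = cc by decide] at this
  have hs : ∀ {y : Vec}, M₁.e y ∈ UU (M₁.e nn) (M₁.e aa) →
      M₁.e (nn + y) ∈ UU (M₁.e nn) (M₁.e aa) := by
    intro y hy
    rw [M₁.e_add]
    exact mul_mem hn hy
  rcases perp_cases x hx with rfl | rfl | rfl | rfl | rfl | rfl | rfl | rfl | rfl | rfl | rfl |
    rfl | rfl | rfl | rfl | rfl
  · rw [M₁.e_zero]; exact one_mem _
  · rw [M₁.e_one]; exact one_mem _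
  · exact hn
  · exact h1 hn
  · exact ha
  · exact h1 ha
  · exact hb
  · exact h1 hb
  · exact hc
  · exact h1 hc
  · exact hs ha
  · exact h1 (hs ha)
  · exact hs hb
  · exact h1 (hs hb)
  · exact hs hc
  · exact h1 (hs hc)

/-! ### The other module -/

end Base

theorem Dih.relabel {S : Sylow 2 G} {V L : Subgroup G} {M : FiveMod V L} (t : Dih S M) :
    Dih S (M.relabel tt) where
  S_le := t.S_le
  d8 g hg p hp := tt_conj_dd p (t.d8 g hg _ (ind_of_relabel tt hp))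
  d8' p hp := by
    obtain ⟨g, hg, hi⟩ := t.d8' (tt * p * tt⁻¹) (tt_conj_dd' p hp)
    refine ⟨g, hg, ?_⟩
    have h1 := relabel_ind tt hi
    have h2 : tt⁻¹ * (tt * p * tt⁻¹) * tt = p := by group
    rwa [h2] at h1

namespace Base

variable {S : Sylow 2 G} {V₁ V₂ L₁ L₂ : Subgroup G} {M₁ : FiveMod V₁ L₁} {M₂ : FiveMod V₂ L₂} {h : G}
  (b : Base S M₁ M₂ h)
include b

theorem symm : Base S M₂ M₁ h⁻¹ where
  two := b.two
  dih₁ := b.dih₂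
  dih₂ := b.dih₁
  en := b.en.symm
  ea := b.ea.symm
  hn := by
    rw [← b.en, inv_mul_eq_iff_eq_mul, ← mul_assoc, b.hn, mul_inv_cancel_right]
  act₁ := by
    intro v hv
    rw [mem_cj, inv_inv] at hv
    obtain ⟨p, hp, hi⟩ := b.act₂ _ hv
    refine ⟨p, hp, ?_⟩
    have h1 := ind_of_cj hi
    have h2 : h⁻¹ * (h * v * h⁻¹) * h = v := by group
    rwa [h2] at h1
  act₂ := by
    intro v hv
    obtain ⟨p, hp, hi⟩ := b.act₁ (h * v * h⁻¹) ⟨v, hv, rfl⟩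
    refine ⟨p, hp, ?_⟩
    have h1 := M₁.cj_ind (g := h⁻¹) hi
    have h2 : h⁻¹ * (h * v * h⁻¹) * h⁻¹⁻¹ = v := by group
    rwa [h2] at h1
  ex := by
    obtain ⟨w, hw, hi⟩ := b.ex
    obtain ⟨p, hp, hj⟩ := b.act₂ _ (M₁.e_mem mm)
    refine ⟨h⁻¹ * M₁.e mm * h, ?_, ?_⟩
    · rw [mem_cj, inv_inv]
      have h1 : h * (h⁻¹ * M₁.e mm * h) * h⁻¹ = M₁.e mm := by group
      rw [h1]; exact M₁.e_mem _
    · rcases hp with rfl | rfl
      · exfalso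
        have h1 := mem_centralizer_iff.1 (FiveMod.ind_one_iff.1 hj) w hw
        rw [hi.commute_iff] at h1
        revert h1; decide
      · exact ind_of_cj hj
  nc := by rw [← b.en]; exact b.nc

/-- `n^⊥ ≤ U_n` (second module) -/
theorem perp_mem₂ {x : Vec} (hx : x 0 = x 1) : M₂.e x ∈ UU (M₁.e nn) (M₁.e aa) := by
  have := b.symm.perp_mem₁ hx
  rwa [← b.en, ← b.ea] at this

theorem WW_symm (x : G) : WW V₂ V₁ x = WW V₁ V₂ x := by
  unfold WW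
  congr 1
  ext y
  constructor
  · rintro ⟨g, hg, v, hv, rfl⟩
    exact ⟨g, hg, v, hv.symm, rfl⟩
  · rintro ⟨g, hg, v, hv, rfl⟩
    exact ⟨g, hg, v, hv.symm, rfl⟩

/-! ### The other point `a` -/

/-- The configuration with `n` and `a` exchanged. -/
theorem flip {g : G} (hgS : g ∈ (S : Subgroup G)) (hg : M₁.Ind g tt) :
    Base S (M₁.relabel tt) (M₂.relabel tt) (g * h * g⁻¹) := by
  have hgn : g * M₁.e nn * g⁻¹ = M₁.e aa := Dih.tt_n hg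
  -- the action of `g` on `V₂`
  obtain ⟨p₂, hp₂⟩ := M₂.exists_ind (b.dih₂.S_le hgS)
  have hr : TTp (tt⁻¹ * p₂) := by
    have h1 := b.dih₂.d8 g hgS p₂ hp₂
    have h2 : M₂.e (nn ∘ p₂.symm) = M₂.e aa := by
      rw [← hp₂, ← b.en, ← b.ea, hgn]
    exact ttp_of_aa p₂ h1 (M₂.e_eq_iff.1 h2)
  have hgV₂ : g ∈ normalizer (V₂ : Set G) := b.dih₂.S_norm hgS
  have hgV₁ : g ∈ normalizer (V₁ : Set G) := b.dih₁.S_norm hgS
  refine ⟨b.two, b.dih₁.relabel, b.dih₂.relabel, ?_, ?_, ?_, ?_, ?_, ?_, ?_⟩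
  · change M₁.e (nn ∘ tt.symm) = M₂.e (nn ∘ tt.symm)
    rw [nn_tt]; exact b.ea
  · change M₁.e (aa ∘ tt.symm) = M₂.e (aa ∘ tt.symm)
    rw [aa_tt]; exact b.en
  · change g * h * g⁻¹ * M₁.e (nn ∘ tt.symm) = M₁.e (nn ∘ tt.symm) * (g * h * g⁻¹)
    rw [nn_tt, ← hgn]
    calc g * h * g⁻¹ * (g * M₁.e nn * g⁻¹) = g * (h * M₁.e nn) * g⁻¹ := by group
      _ = g * (M₁.e nn * h) * g⁻¹ := by rw [b.hn]
      _ = g * M₁.e nn * g⁻¹ * (g * h * g⁻¹) := by group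
  · intro v hv
    rw [mem_cj] at hv
    have h1 : g⁻¹ * v * g ∈ cj h V₂ := by
      rw [mem_cj]
      have h2 := (mem_normalizer_iff.1 (inv_mem hgV₂) _).1 hv
      have h3 : g⁻¹ * ((g * h * g⁻¹)⁻¹ * v * (g * h * g⁻¹)) * g⁻¹⁻¹ = h⁻¹ * (g⁻¹ * v * g) * h := by group
      rwa [h3] at h2
    obtain ⟨p, hp, hi⟩ := b.act₁ _ h1
    refine ⟨p, hp, ?_⟩
    have h4 := relabel_ind tt ((hg.mul hi).mul hg.inv)
    have h5 : g * (g⁻¹ * v * g) * g⁻¹ = v := by group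
    have h6 : tt⁻¹ * (tt * p * tt⁻¹) * tt = p := by group
    rwa [h5, h6] at h4
  · intro v hv
    have h1 : g⁻¹ * v * g ∈ V₁ := by
      have := (mem_normalizer_iff.1 (inv_mem hgV₁) _).1 hv
      rwa [inv_inv] at this
    obtain ⟨p, hp, hi⟩ := b.act₂ _ h1
    obtain ⟨q, hq0⟩ : ∃ q, q = (tt⁻¹ * p₂) * p * (tt⁻¹ * p₂)⁻¹ := ⟨_, rfl⟩
    have hq : Tp q := by
      have := hp.conj _ (TTp_inv hr)
      rwa [inv_inv, ← hq0] at this
    refine ⟨q, hq, ?_⟩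
    intro x
    have h2 := hp₂.inv (x ∘ tt.symm)
    have h3 := hp₂.inv ((x ∘ q.symm) ∘ tt.symm)
    rw [inv_inv] at h2 h3
    have h4 := hi ((x ∘ tt.symm) ∘ (p₂⁻¹).symm)
    rw [M₂.cj_e, M₂.cj_e, ← h2] at h4
    change v * (g * h * g⁻¹ * M₂.e (x ∘ tt.symm) * (g * h * g⁻¹)⁻¹) * v⁻¹ =
      g * h * g⁻¹ * M₂.e ((x ∘ q.symm) ∘ tt.symm) * (g * h * g⁻¹)⁻¹
    calc v * (g * h * g⁻¹ * M₂.e (x ∘ tt.symm) * (g * h * g⁻¹)⁻¹) * v⁻¹ =
          g * (g⁻¹ * v * g * (h * (g⁻¹ * M₂.e (x ∘ tt.symm) * g) * h⁻¹) * (g⁻¹ * v * g)⁻¹) * g⁻¹ := by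
            group
      _ = g * h * (g⁻¹ * M₂.e ((x ∘ q.symm) ∘ tt.symm) * g) * h⁻¹ * g⁻¹ := by
            rw [h4, h3]
            have h5 : ((x ∘ tt.symm) ∘ (p₂⁻¹).symm) ∘ p.symm =
                ((x ∘ q.symm) ∘ tt.symm) ∘ (p₂⁻¹).symm := by
              funext i
              change x (tt⁻¹ (p₂ (p⁻¹ i))) = x (q⁻¹ (tt⁻¹ (p₂ i)))
              congr 1
              rw [← Equiv.Perm.mul_apply, ← Equiv.Perm.mul_apply, ← Equiv.Perm.mul_apply,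
                ← Equiv.Perm.mul_apply, hq0]
              congr 1
              group
            rw [h5]
            group
      _ = _ := by group
  · obtain ⟨w, hw, hi⟩ := b.ex
    refine ⟨g * w * g⁻¹, ?_, ?_⟩
    · rw [mem_cj] at hw ⊢
      have h2 := (mem_normalizer_iff.1 hgV₂ _).1 hw
      have h3 : (g * h * g⁻¹)⁻¹ * (g * w * g⁻¹) * (g * h * g⁻¹) = g * (h⁻¹ * w * h) * g⁻¹ := by group
      rw [h3]
      exact h2
    · have h4 := relabel_ind tt ((hg.mul hi).mul hg.inv)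
      have h6 : tt⁻¹ * (tt * Equiv.swap 0 1 * tt⁻¹) * tt = Equiv.swap 0 1 := by group
      rwa [h6] at h4
  · intro P hP
    change (P : Subgroup G) ≤ centralizer ({M₁.e (nn ∘ tt.symm)} : Set G) at hP
    rw [nn_tt, ← hgn] at hP
    refine b.nc (g⁻¹ • P) ?_
    rintro _ ⟨x, hx, rfl⟩
    have h1 := mem_C.1 (hP hx)
    refine mem_C.2 ?_
    change g⁻¹ * x * g⁻¹⁻¹ * M₁.e nn = M₁.e nn * (g⁻¹ * x * g⁻¹⁻¹)
    rw [inv_inv]
    calc g⁻¹ * x * g * M₁.e nn = g⁻¹ * (x * (g * M₁.e nn * g⁻¹)) * g := by group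
      _ = g⁻¹ * (g * M₁.e nn * g⁻¹ * x) * g := by rw [h1]
      _ = M₁.e nn * (g⁻¹ * x * g) := by group

/-! ### `V_i ≤ Q_n`, `W_n ≤ Q_n`, `[W_n, Q_n] ≤ ⟨n⟩` -/

variable [Finite G]

/-- `Q_n` acts on `V₁` inside `⟨(0 1)⟩`. -/
theorem Q_ind₁ {q : G} (hq : q ∈ Q (M₁.e nn)) : ∃ p, Tp p ∧ M₁.Ind q p := by
  obtain ⟨p, hp, hi⟩ := b.dih₁.T_ind (b.Q_le_T hq)
  refine ⟨p, ttp_bb p hp ((hi.commute_iff _).1 ?_), hi⟩
  exact (b.UU_comm_Q (b.perp_mem₁ (x := bb) (by decide)) hq).symm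

theorem Q_ind₂ {q : G} (hq : q ∈ Q (M₁.e nn)) : ∃ p, Tp p ∧ M₂.Ind q p :=
  b.symm.Q_ind₁ (by rwa [← b.en])

omit b [Finite G] in
theorem comm_of_ind {V L : Subgroup G} {M : FiveMod V L} {q : G} {p : Equiv.Perm (Fin 5)} (hp : Tp p)
    (hi : M.Ind q p) {v : G} (hv : v ∈ V) :
    v * q * v⁻¹ * q⁻¹ = 1 ∨ v * q * v⁻¹ * q⁻¹ = M.e nn := by
  obtain ⟨x, rfl⟩ := (M.mem_iff v).1 hv
  have h1 : M.e x * q * (M.e x)⁻¹ * q⁻¹ = (q * M.e x * q⁻¹ * (M.e x)⁻¹)⁻¹ := by group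
  rw [h1, hi.comm_eq, M.e_inv]
  rcases hp.comm x with h2 | h2
  · exact Or.inl ((M.ker _).2 h2)
  · exact Or.inr (M.e_eq_iff.2 h2)

theorem V₁_le_Q : V₁ ≤ Q (M₁.e nn) := fun v hv => by
  refine le_o2_of_comm b.two (e_sq' M₁ nn) (n_ne M₁) (M₁.comm hv (M₁.e_mem _)) fun q hq => ?_
  obtain ⟨p, hp, hi⟩ := b.Q_ind₁ hq
  exact comm_of_ind hp hi hv

theorem V₂_le_Q : V₂ ≤ Q (M₁.e nn) := by
  have := b.symm.V₁_le_Q
  rwa [← b.en] at this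

theorem comm_V {v q : G} (hv : v ∈ V₁ ∨ v ∈ V₂) (hq : q ∈ Q (M₁.e nn)) :
    v * q * v⁻¹ * q⁻¹ = 1 ∨ v * q * v⁻¹ * q⁻¹ = M₁.e nn := by
  rcases hv with hv | hv
  · obtain ⟨p, hp, hi⟩ := b.Q_ind₁ hq
    exact comm_of_ind hp hi hv
  · obtain ⟨p, hp, hi⟩ := b.Q_ind₂ hq
    rw [b.en]
    exact comm_of_ind hp hi hv

/-- `W_n ≤ Q_n` -/
theorem WW_le_Q : WW V₁ V₂ (M₁.e nn) ≤ Q (M₁.e nn) :=
  WW_le (fun _ hg _ hv => b.Q_conj hg (b.V₁_le_Q hv)) fun _ hg _ hv => b.Q_conj hg (b.V₂_le_Q hv)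

/-- `[W_n, Q_n] ≤ ⟨n⟩` -/
theorem WW_comm {w q : G} (hw : w ∈ WW V₁ V₂ (M₁.e nn)) (hq : q ∈ Q (M₁.e nn)) :
    w * q * w⁻¹ * q⁻¹ = 1 ∨ w * q * w⁻¹ * q⁻¹ = M₁.e nn := by
  have hn : ∀ {y : G}, y ∈ Q (M₁.e nn) → y * M₁.e nn = M₁.e nn * y := fun hy => mem_C.1 (o2_le _ hy)
  revert q
  induction hw using closure_induction with
  | mem y hy =>
    obtain ⟨g, hg, v, hv, rfl⟩ := hy
    intro q hq
    have h1 : g * v * g⁻¹ * q * (g * v * g⁻¹)⁻¹ * q⁻¹ =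
        g * (v * (g⁻¹ * q * g) * v⁻¹ * (g⁻¹ * q * g)⁻¹) * g⁻¹ := by group
    rw [h1]
    rcases b.comm_V hv (b.Q_conj' hg hq) with h2 | h2
    · left; rw [h2]; group
    · right; rw [h2, hg, mul_inv_cancel_right]
  | one => intro q _; left; group
  | mul x y hx hy h1 h2 =>
    intro q hq
    have hxQ : x ∈ Q (M₁.e nn) := b.WW_le_Q hx
    have e : x * y * q * (x * y)⁻¹ * q⁻¹ = x * (y * q * y⁻¹ * q⁻¹) * x⁻¹ * (x * q * x⁻¹ * q⁻¹) := by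
      group
    rw [e]
    rcases h1 hq with h3 | h3 <;> rcases h2 hq with h4 | h4 <;> rw [h3, h4]
    · left; group
    · right; rw [hn hxQ]; group
    · right; group
    · left
      rw [hn hxQ, mul_inv_cancel_right, M₁.e_sq]
  | inv x hx h1 =>
    intro q hq
    have hxQ : x ∈ Q (M₁.e nn) := b.WW_le_Q hx
    have e : x⁻¹ * q * x⁻¹⁻¹ * q⁻¹ = x⁻¹ * (x * q * x⁻¹ * q⁻¹)⁻¹ * x := by group
    rw [e]
    rcases h1 hq with h3 | h3 <;> rw [h3]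
    · left; group
    · right
      rw [M₁.e_inv, mul_assoc, ← hn hxQ, ← mul_assoc, inv_mul_cancel, one_mul]

/-- `U_n ≤ W_n` -/
theorem UU_le_WW : UU (M₁.e nn) (M₁.e aa) ≤ WW V₁ V₂ (M₁.e nn) :=
  UU_le (le_WW₁ V₁ V₂ _ (M₁.e_mem _)) fun _ hg => mem_WW₁ hg (M₁.e_mem _)

/-- `U_n` centralises `W_n`. -/
theorem UU_comm_WW {u w : G} (hu : u ∈ UU (M₁.e nn) (M₁.e aa)) (hw : w ∈ WW V₁ V₂ (M₁.e nn)) :
    u * w = w * u :=
  b.UU_comm_Q hu (b.WW_le_Q hw)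

theorem T_le : (S : Subgroup G) ⊓ centralizer ({M₁.e nn} : Set G) ≤
    centralizer ({M₁.e nn} : Set G) ⊓ centralizer ({M₁.e aa} : Set G) := fun _ hg =>
  mem_inf.2 ⟨hg.2, mem_C.2 (b.dih₁.T_comm_a hg)⟩

/-! ### The action of `W_n` on `V_i` -/

theorem exists_move₁ : ∃ w ∈ WW V₁ V₂ (M₁.e nn), M₁.Ind w (Equiv.swap 0 1) := by
  obtain ⟨w, hw, hi⟩ := b.ex
  refine ⟨w, ?_, hi⟩
  rw [mem_cj] at hw
  have h1 := mem_WW₂ (V₁ := V₁) (V₂ := V₂) b.hn hw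
  have h2 : h * (h⁻¹ * w * h) * h⁻¹ = w := by group
  rwa [h2] at h1

theorem exists_move₂ : ∃ w ∈ WW V₁ V₂ (M₁.e nn), M₂.Ind w (Equiv.swap 0 1) := by
  obtain ⟨w, hw, hi⟩ := b.symm.exists_move₁
  refine ⟨w, ?_, hi⟩
  rwa [b.WW_symm, ← b.en] at hw

/-- `V₁ ∩ U_n = n^⊥` -/
theorem perp_of_mem₁ {x : Vec} (hx : M₁.e x ∈ UU (M₁.e nn) (M₁.e aa)) : x 0 = x 1 := by
  obtain ⟨w, hw, hi⟩ := b.exists_move₁
  have h1 := b.UU_comm_WW hx hw
  exact (swap_fix_iff x).1 ((hi.commute_iff x).1 h1.symm)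

theorem perp_of_mem₂ {x : Vec} (hx : M₂.e x ∈ UU (M₁.e nn) (M₁.e aa)) : x 0 = x 1 := by
  obtain ⟨w, hw, hi⟩ := b.exists_move₂
  have h1 := b.UU_comm_WW hx hw
  exact (swap_fix_iff x).1 ((hi.commute_iff x).1 h1.symm)

/-! ### The other point `a` -/

omit b [Finite G] in
theorem rel_nn {V L : Subgroup G} (M : FiveMod V L) : (M.relabel tt).e nn = M.e aa := by
  change M.e (nn ∘ tt.symm) = M.e aa
  rw [nn_tt]

omit b [Finite G] in
theorem rel_aa {V L : Subgroup G} (M : FiveMod V L) : (M.relabel tt).e aa = M.e nn := by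
  change M.e (aa ∘ tt.symm) = M.e nn
  rw [aa_tt]

omit b [Finite G] in
theorem rel_ss {V L : Subgroup G} (M : FiveMod V L) : (M.relabel tt).e ss = M.e ss := by
  change M.e (ss ∘ tt.symm) = M.e ss
  rw [ss_tt]

theorem exists_flip : ∃ h', Base S (M₁.relabel tt) (M₂.relabel tt) h' := by
  obtain ⟨g, hgS, hg⟩ := b.dih₁.exists_swap
  exact ⟨_, b.flip hgS hg⟩

/-- `T = C_S(a)` -/
theorem T_eq : (S : Subgroup G) ⊓ centralizer ({M₁.e nn} : Set G) =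
    (S : Subgroup G) ⊓ centralizer ({M₁.e aa} : Set G) := by
  obtain ⟨h', b'⟩ := b.exists_flip
  refine le_antisymm (fun g hg => ⟨hg.1, mem_C.2 (b.dih₁.T_comm_a hg)⟩) fun g hg => ⟨hg.1, ?_⟩
  have h1 : g ∈ (S : Subgroup G) ⊓ centralizer ({(M₁.relabel tt).e nn} : Set G) := by
    rwa [rel_nn]
  have h2 := b'.dih₁.T_comm_a h1
  rw [rel_aa] at h2
  exact mem_C.2 h2

theorem not_dvd_a : ¬ 2 ∣ ((S : Subgroup G) ⊓ centralizer ({M₁.e nn} : Set G)).relIndex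
    (centralizer ({M₁.e aa} : Set G)) := by
  obtain ⟨h', b'⟩ := b.exists_flip
  have h1 := b'.not_dvd
  rwa [rel_nn, ← b.T_eq] at h1

theorem Qa_le_T : Q (M₁.e aa) ≤ (S : Subgroup G) ⊓ centralizer ({M₁.e nn} : Set G) := by
  obtain ⟨h', b'⟩ := b.exists_flip
  have h1 := b'.Q_le_T
  rwa [rel_nn, ← b.T_eq] at h1

theorem WWa_le_Qa : WW V₁ V₂ (M₁.e aa) ≤ Q (M₁.e aa) := by
  obtain ⟨h', b'⟩ := b.exists_flip
  have h1 := b'.WW_le_Q
  rwa [rel_nn] at h1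

theorem WWa_comm {w q : G} (hw : w ∈ WW V₁ V₂ (M₁.e aa)) (hq : q ∈ Q (M₁.e aa)) :
    w * q * w⁻¹ * q⁻¹ = 1 ∨ w * q * w⁻¹ * q⁻¹ = M₁.e aa := by
  obtain ⟨h', b'⟩ := b.exists_flip
  have h1 := b'.WW_comm (w := w) (q := q) (by rwa [rel_nn]) (by rwa [rel_nn])
  rwa [rel_nn] at h1

theorem UUa_le_WWa : UU (M₁.e aa) (M₁.e nn) ≤ WW V₁ V₂ (M₁.e aa) := by
  obtain ⟨h', b'⟩ := b.exists_flip
  have h1 := b'.UU_le_WW
  rwa [rel_nn, rel_aa] at h1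

theorem UUa_comm_Qa {u q : G} (hu : u ∈ UU (M₁.e aa) (M₁.e nn)) (hq : q ∈ Q (M₁.e aa)) :
    u * q = q * u := by
  obtain ⟨h', b'⟩ := b.exists_flip
  exact b'.UU_comm_Q (by rwa [rel_nn, rel_aa]) (by rwa [rel_nn])

theorem UUa_sq {u : G} (hu : u ∈ UU (M₁.e aa) (M₁.e nn)) : u * u = 1 := by
  obtain ⟨h', b'⟩ := b.exists_flip
  exact b'.UU_sq (by rwa [rel_nn, rel_aa])

/-- `Q_a` acts on `V₁` inside `⟨(2 3)⟩`. -/
theorem Qa_ind₁ {q : G} (hq : q ∈ Q (M₁.e aa)) : ∃ p, (p = 1 ∨ p = Equiv.swap 2 3) ∧ M₁.Ind q p := by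
  obtain ⟨h', b'⟩ := b.exists_flip
  obtain ⟨p, hp, hi⟩ := b'.Q_ind₁ (q := q) (by rwa [rel_nn])
  refine ⟨_, ?_, ind_of_relabel tt hi⟩
  rcases hp with rfl | rfl
  · left; decide
  · right; decide

theorem Qa_ind₂ {q : G} (hq : q ∈ Q (M₁.e aa)) : ∃ p, (p = 1 ∨ p = Equiv.swap 2 3) ∧ M₂.Ind q p :=
  b.symm.Qa_ind₁ (by rwa [← b.ea])

theorem exists_move_a₁ : ∃ w ∈ WW V₁ V₂ (M₁.e aa), M₁.Ind w (Equiv.swap 2 3) := by
  obtain ⟨h', b'⟩ := b.exists_flip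
  obtain ⟨w, hw, hi⟩ := b'.exists_move₁
  refine ⟨w, by rwa [rel_nn] at hw, ?_⟩
  have h1 := ind_of_relabel tt hi
  rwa [show tt * Equiv.swap 0 1 * tt⁻¹ = Equiv.swap 2 3 by decide] at h1

theorem exists_move_a₂ : ∃ w ∈ WW V₁ V₂ (M₁.e aa), M₂.Ind w (Equiv.swap 2 3) := by
  obtain ⟨h', b'⟩ := b.exists_flip
  obtain ⟨w, hw, hi⟩ := b'.exists_move₂
  refine ⟨w, by rwa [rel_nn] at hw, ?_⟩
  have h1 := ind_of_relabel tt hi
  rwa [show tt * Equiv.swap 0 1 * tt⁻¹ = Equiv.swap 2 3 by decide] at h1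

/-! ### Normal subgroups of `C_G(n)` inside `Y = C_G(n) ⊓ C_G(a)` -/

/-- #11330 (3) -/
theorem inf_le_Q {X : Subgroup G} (hX : X ≤ centralizer ({M₁.e nn} : Set G))
    (hn : centralizer ({M₁.e nn} : Set G) ≤ normalizer (X : Set G))
    (ha : X ≤ centralizer ({M₁.e aa} : Set G)) : WW V₁ V₂ (M₁.e aa) ⊓ X ≤ Q (M₁.e nn) := by
  have h1 : WW V₁ V₂ (M₁.e aa) ⊓ X ≤ o2 X := by
    refine le_o2 inf_le_right ((o2_isPGroup _).to_le (inf_le_left.trans b.WWa_le_Qa)) ?_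
    intro x hx
    refine mem_normalizer_of_cj_le ?_
    rintro _ ⟨w, hw, rfl⟩
    exact mem_inf.2 ⟨WW_norm (mem_C.1 (ha hx)) hw.1, X.mul_mem (X.mul_mem hx hw.2) (X.inv_mem hx)⟩
  refine h1.trans (le_o2 ((o2_le X).trans hX) (o2_isPGroup X) ?_)
  exact hn.trans (normalizer_le_normalizer_o2' X)

theorem centralizer_UU_le : centralizer (UU (M₁.e nn) (M₁.e aa) : Set G) ≤
    centralizer ({M₁.e nn} : Set G) ⊓ centralizer ({M₁.e aa} : Set G) := by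
  intro g hg
  rw [mem_centralizer_iff] at hg
  exact mem_inf.2 ⟨mem_C.2 (hg _ (self_mem_UU _ _)).symm, mem_C.2 (hg _ (mem_UU_self _ _)).symm⟩

theorem normalizer_centralizer_UU : centralizer ({M₁.e nn} : Set G) ≤
    normalizer (centralizer (UU (M₁.e nn) (M₁.e aa) : Set G) : Set G) := by
  intro g hg
  refine mem_normalizer_of_cj_le ?_
  rintro _ ⟨x, hx, rfl⟩
  refine mem_centralizer_iff.2 fun u hu => ?_
  have hg' : g⁻¹ * M₁.e nn = M₁.e nn * g⁻¹ := by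
    rw [inv_mul_eq_iff_eq_mul, ← mul_assoc, mem_C.1 hg, mul_inv_cancel_right]
  have h1 := UU_norm (y := M₁.e aa) hg' hu
  rw [inv_inv] at h1
  have h2 := mem_centralizer_iff.1 hx _ h1
  change u * (g * x * g⁻¹) = g * x * g⁻¹ * u
  calc u * (g * x * g⁻¹) = g * (g⁻¹ * u * g * x) * g⁻¹ := by group
    _ = g * (x * (g⁻¹ * u * g)) * g⁻¹ := by rw [h2]
    _ = g * x * g⁻¹ * u := by group

/-- `C_{W_a}(U_n) ≤ Q_n` -/
theorem WWa_inf_centralizer_le : WW V₁ V₂ (M₁.e aa) ⊓ centralizer (UU (M₁.e nn) (M₁.e aa) : Set G) ≤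
    Q (M₁.e nn) :=
  b.inf_le_Q (b.centralizer_UU_le.trans inf_le_left) b.normalizer_centralizer_UU
    (b.centralizer_UU_le.trans inf_le_right)

/-- `C_{W_a}(U_n) = W_a ∩ Q_n` -/
theorem mem_Q_iff {w : G} (hw : w ∈ WW V₁ V₂ (M₁.e aa)) :
    w ∈ Q (M₁.e nn) ↔ ∀ u ∈ UU (M₁.e nn) (M₁.e aa), u * w = w * u :=
  ⟨fun h1 _ hu => b.UU_comm_Q hu h1, fun h1 => b.WWa_inf_centralizer_le
    ⟨hw, mem_centralizer_iff.2 h1⟩⟩

/-- #11330 (4): `[W_a ∩ Q_n, W_n ∩ Q_a] = 1` -/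
theorem comm_of_mem {w w' : G} (hw : w ∈ WW V₁ V₂ (M₁.e aa)) (hwQ : w ∈ Q (M₁.e nn))
    (hw' : w' ∈ WW V₁ V₂ (M₁.e nn)) (hwQ' : w' ∈ Q (M₁.e aa)) : w * w' = w' * w := by
  have h1 := b.WWa_comm hw hwQ'
  have h2 := b.WW_comm hw' hwQ
  have h3 : w' * w * w'⁻¹ * w⁻¹ = (w * w' * w⁻¹ * w'⁻¹)⁻¹ := by group
  rcases h1 with h1 | h1
  · rw [mul_inv_eq_one, mul_inv_eq_iff_eq_mul] at h1
    exact h1
  · exfalso
    rw [h3, h1, M₁.e_inv] at h2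
    rcases h2 with h2 | h2
    · exact a_ne M₁ h2
    · exact n_ne_a M₁ h2.symm

/-! ### The class of `a` -/

omit [Finite G] in
/-- `s` is not conjugate to `a`. -/
theorem conj_a_ne_s (g : G) : g * M₁.e aa * g⁻¹ ≠ M₁.e ss := by
  intro h0
  obtain ⟨k, hkS, hk⟩ := b.dih₁.exists_swap
  have h1 : k * M₁.e nn * k⁻¹ = M₁.e aa := Dih.tt_n hk
  refine b.nc ((g * k)⁻¹ • S) ?_
  rintro _ ⟨x, hx, rfl⟩
  refine mem_C.2 ?_
  have h2 := b.dih₁.S_comm hx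
  have h3 : (g * k) * M₁.e nn * (g * k)⁻¹ = M₁.e ss := by
    rw [← h0, ← h1]; group
  rw [← h3] at h2
  change (g * k)⁻¹ * x * (g * k)⁻¹⁻¹ * M₁.e nn = M₁.e nn * ((g * k)⁻¹ * x * (g * k)⁻¹⁻¹)
  rw [inv_inv]
  calc (g * k)⁻¹ * x * (g * k) * M₁.e nn = (g * k)⁻¹ * (x * (g * k * M₁.e nn * (g * k)⁻¹)) * (g * k) := by
        group
    _ = (g * k)⁻¹ * (g * k * M₁.e nn * (g * k)⁻¹ * x) * (g * k) := by rw [h2]
    _ = M₁.e nn * ((g * k)⁻¹ * x * (g * k)) := by group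

omit b [Finite G] in
theorem conj_a_ne_n {g : G} (hg : g * M₁.e nn = M₁.e nn * g) : g * M₁.e aa * g⁻¹ ≠ M₁.e nn := by
  intro h0
  have h1 : g * M₁.e nn * g⁻¹ = M₁.e nn := by rw [hg, mul_inv_cancel_right]
  have h2 : M₁.e aa = M₁.e nn := by
    have h3 : g * M₁.e aa * g⁻¹ = g * M₁.e nn * g⁻¹ := h0.trans h1.symm
    exact mul_left_cancel (mul_right_cancel h3)
  exact n_ne_a M₁ h2.symm

end Base

theorem Base.of {S : Sylow 2 G} {V₁ V₂ L₁ L₂ : Subgroup G} {M₁ : FiveMod V₁ L₁} {M₂ : FiveMod V₂ L₂} {h : G}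
    (b : Cfsg.Agent.Omega.TTn.Base S M₁ M₂ h) : Base S M₁ M₂ h :=
  ⟨b.two, Dih.of b.dih₁, Dih.of b.dih₂, b.en, b.ea, b.hn, b.act₁, b.act₂, b.ex, b.nc⟩

end Cfsg.Agent.Omega.TTn.Z
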