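import Cfsg.Agent.Omega.TTn.Z.Base
import Cfsg.Agent.Omega.TTn.ToOne
import Cfsg.Agent.Omega.TTn.DiLast

/-!
# #14261 (helper439) and LEMMA TWO (helper107) over `Z.Base` (#15257 (6))

The files `Omega/TTn/{DiCore,DiCw,DiInst,DiCoreStd,DiStd,DiLast,ToOne}.lean` of helper439, 375, 107 without the hypothesis
`zc S ≤ V`; instead: the intersection of the ten groups `U_π` is trivial.
-/

set_option autoImplicit false
set_option linter.unusedSectionVars false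

namespace Cfsg.Agent.Omega.TTn.Z

open Subgroup Cfsg Cfsg.Agent.ZN Cfsg.Agent.ZN.ChoiceBase
open Cfsg.Agent.Omega.S5.Mod Cfsg.Agent.Omega.S5.TT
open Cfsg.Agent.Omega.S5.TT.Pos (na ns as sn n_ne s_ne a_ne n_ne_a n_ne_s a_ne_s e_sq' mem_C)
open Cfsg.Agent.MinSimple.VModule (o2_isPGroup le_o2 o2_le le_normalizer_o2)

universe u

variable {G : Type u} [Group G]

namespace Base

variable {S : Sylow 2 G} {V₁ V₂ L₁ L₂ : Subgroup G} {M₁ : FiveMod V₁ L₁} {M₂ : FiveMod V₂ L₂} {h : G}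

/-- `O₂(C_G(V₂)) ≤ C_S(n)`. -/
theorem R_le (b : Base S M₁ M₂ h) {r : G} (hr : r ∈ o2 (centralizer (V₂ : Set G))) :
    r ∈ (S : Subgroup G) ⊓ centralizer ({M₁.e nn} : Set G) := by
  refine mem_inf.2 ⟨?_, ?_⟩
  · have hn : (S : Subgroup G) ≤ normalizer (o2 (centralizer (V₂ : Set G)) : Set G) := by
      intro g hg
      rw [mem_normalizer_iff]
      intro y
      constructor
      · exact fun hy => TwoTypes.conj_R (b.dih₂.S_norm hg) hy
      · intro hy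
        have h1 := TwoTypes.conj_R (inv_mem (b.dih₂.S_norm hg)) hy
        have h2 : g⁻¹ * (g * y * g⁻¹) * g⁻¹⁻¹ = y := by group
        rwa [h2] at h1
    have h1 : IsPGroup 2 ((S : Subgroup G) ⊔ o2 (centralizer (V₂ : Set G)) : Subgroup G) :=
      IsPGroup.to_sup_of_normal_right' S.isPGroup' (o2_isPGroup _) hn
    have h2 := S.is_maximal' h1 le_sup_left
    rw [← h2]
    exact (le_sup_right : o2 (centralizer (V₂ : Set G)) ≤ _) hr
  · rw [mem_C, b.en]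
    exact (mem_centralizer_iff.1 (o2_le _ hr) _ (M₂.e_mem _)).symm

theorem duo [Finite G] (b : Base S M₁ M₂ h) : ∃ x, TwoTypes.Duo M₁ M₂ x h := by
  obtain ⟨x, hxS, hx⟩ := b.dih₁.exists_swap
  refine ⟨x, b.en.symm, b.ea.symm, ?_, ?_, b.V₁_le_Q, b.V₂_le_Q, ?_, Dih.tt_n hx, b.dih₁.S_norm hxS,
    b.dih₂.S_norm hxS, b.hn, ?_, ?_⟩
  · intro q hq
    obtain ⟨p, hp | hp, hi⟩ := b.Q_ind₁ hq
    · left; rwa [hp] at hi
    · right; rwa [hp] at hi
  · intro q hq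
    obtain ⟨p, hp | hp, hi⟩ := b.Q_ind₂ hq
    · left; rwa [hp] at hi
    · right; rwa [hp] at hi
  · intro r hr
    exact b.dih₁.T_ind (b.R_le hr)
  · obtain ⟨w, ⟨v, hv, rfl⟩, hi⟩ := b.ex
    exact ⟨v, hv, hi⟩
  · obtain ⟨w, ⟨v, hv, rfl⟩, hi⟩ := b.symm.ex
    refine ⟨v, hv, ?_⟩
    change M₂.Ind (h⁻¹ * v * h⁻¹⁻¹) _ at hi
    rwa [inv_inv] at hi

/-- LEMMA TWO: the configuration `Base` for the second module alone. -/
theorem to_one₂ [Finite G] (b : Base S M₁ M₂ h) : ∃ k, Base S M₂ M₂ k := by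
  obtain ⟨x, t⟩ := b.duo
  obtain ⟨k, hk, h1, h2, h3, -⟩ := t.exists_one
  refine ⟨k, b.two, b.dih₂, b.dih₂, rfl, rfl, hk, ?_, ?_, h2, ?_⟩
  · intro v hv
    rcases h1 v hv with h4 | h4
    · exact ⟨_, Or.inl rfl, h4⟩
    · exact ⟨_, Or.inr rfl, h4⟩
  · intro v hv
    rcases h3 v hv with h4 | h4
    · exact ⟨_, Or.inl rfl, h4⟩
    · exact ⟨_, Or.inr rfl, h4⟩
  · rw [← b.en]; exact b.nc

/-- LEMMA TWO: the configuration `Base` for the first module alone. -/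
theorem to_one₁ [Finite G] (b : Base S M₁ M₂ h) : ∃ k, Base S M₁ M₁ k := b.symm.to_one₂

end Base

namespace Base

variable {S : Sylow 2 G} {V₁ V₂ L₁ L₂ : Subgroup G} {M₁ : FiveMod V₁ L₁} {M₂ : FiveMod V₂ L₂} {h : G}
  (b : Base S M₁ M₂ h)
include b

/-- `C_G(U_n U_a)` -/
abbrev OO (M₁ : FiveMod V₁ L₁) : Subgroup G :=
  centralizer (UU (M₁.e nn) (M₁.e aa) : Set G) ⊓ centralizer (UU (M₁.e aa) (M₁.e nn) : Set G)

omit b in
theorem OO_norm [Finite G] {g : G} (hn : g * M₁.e nn = M₁.e nn * g) (ha : g * M₁.e aa = M₁.e aa * g) :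
    g ∈ normalizer (OO M₁ : Set G) :=
  DiCoreAbs.mem_norm_of fun _ hx => mem_inf.2 ⟨cent_UU_norm hn hx.1, cent_UU_norm ha hx.2⟩

omit b in
theorem OO_tt [Finite G] {g : G} (hg : M₁.Ind g tt) : g ∈ normalizer (OO M₁ : Set G) := by
  have h1 : g⁻¹ * M₁.e aa * g = M₁.e nn := by rw [← Dih.tt_n hg]; group
  have h2 : g⁻¹ * M₁.e nn * g = M₁.e aa := by rw [← Dih.tt_a hg]; group
  exact DiCoreAbs.mem_norm_of fun _ hx => mem_inf.2 ⟨cent_UU_conj h2 h1 hx.2, cent_UU_conj h1 h2 hx.1⟩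

/-- `W_a ^ C_G(n)` and `Q_n` -/
def FF (V₁ V₂ : Subgroup G) (M₁ : FiveMod V₁ L₁) : Set G :=
  {x | ∃ g, g * M₁.e nn = M₁.e nn * g ∧ ∃ w ∈ WW V₁ V₂ (M₁.e aa), x = g * w * g⁻¹} ∪
    {x | x ∈ Q (M₁.e nn)}

variable [Finite G]

theorem gen_le : L₁ ≤ closure (FF V₁ V₂ M₁ ∪ (normalizer (OO M₁ : Set G) : Set G)) := by
  set K₀ := closure (FF V₁ V₂ M₁ ∪ (normalizer (OO M₁ : Set G) : Set G)) with hK₀
  let H : Subgroup (Equiv.Perm (Fin 5)) :=
    { carrier := {p | ∃ g ∈ K₀, M₁.Ind g p}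
      one_mem' := ⟨1, one_mem _, M₁.ind_one⟩
      mul_mem' := by
        rintro p q ⟨g, hg, hi⟩ ⟨g', hg', hi'⟩
        exact ⟨g * g', mul_mem hg hg', hi.mul hi'⟩
      inv_mem' := by
        rintro p ⟨g, hg, hi⟩
        exact ⟨g⁻¹, inv_mem hg, hi.inv⟩ }
  obtain ⟨w, hw, hwi⟩ := b.exists_move_a₁
  have e1 : Equiv.swap 3 2 ∈ H := by
    refine ⟨w, subset_closure (Or.inl (Or.inl ⟨1, by rw [one_mul, mul_one], w, hw, by group⟩)), ?_⟩
    rw [Equiv.swap_comm]; exact hwi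
  have e2 : Equiv.swap 4 3 ∈ H := by
    obtain ⟨g, -, hg⟩ := M₁.exists_lift (Equiv.swap 2 4)
    refine ⟨g * w * g⁻¹, subset_closure (Or.inl (Or.inl ⟨g, (hg.commute_iff _).2 (Or.inl (by decide)), w, hw,
      rfl⟩)), ?_⟩
    have h1 := (hg.mul hwi).mul hg.inv
    rwa [show Equiv.swap (2 : Fin 5) 4 * Equiv.swap 2 3 * (Equiv.swap 2 4)⁻¹ = Equiv.swap 4 3 by decide] at h1
  obtain ⟨k, hkS, hk⟩ := b.dih₁.exists_swap
  have e0 : tt ∈ H := ⟨k, subset_closure (Or.inr (OO_tt hk)), hk⟩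
  have e3 : Equiv.swap 1 4 ∈ H := by
    have h1 := H.mul_mem (H.mul_mem e0 e2) (H.inv_mem e0)
    rwa [show tt * Equiv.swap 4 3 * tt⁻¹ = Equiv.swap 1 4 by decide] at h1
  have e4 : Equiv.swap 0 1 ∈ H := by
    have h1 := H.mul_mem (H.mul_mem e0 e1) (H.inv_mem e0)
    rwa [show tt * Equiv.swap 3 2 * tt⁻¹ = Equiv.swap 0 1 by decide] at h1
  have hH := perm_top e4 e3 e2 e1
  intro l hl
  obtain ⟨p, hp⟩ := M₁.exists_ind hl
  obtain ⟨g, hg, hi⟩ : p ∈ H := by rw [hH]; exact mem_top _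
  have h1 := hp.mul hi.inv
  rw [mul_inv_cancel] at h1
  have h2 := FiveMod.ind_one_iff.1 h1
  have h3 : l * g⁻¹ ∈ K₀ := by
    refine subset_closure (Or.inr (OO_norm ?_ ?_))
    · exact (mem_centralizer_iff.1 h2 _ (M₁.e_mem _)).symm
    · exact (mem_centralizer_iff.1 h2 _ (M₁.e_mem _)).symm
  have h4 := mul_mem h3 hg
  rwa [inv_mul_cancel_right] at h4

/-- **(2.4)** -/
theorem core_std {l f : G} (hl : l ∈ L₁) (hf : f ∈ WW V₁ V₂ (M₁.e nn))
    (h1 : ∀ y ∈ UU (M₁.e nn) (M₁.e aa), l * f * l⁻¹ * y = y * (l * f * l⁻¹))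
    (h2 : ∀ y ∈ UU (M₁.e aa) (M₁.e nn), l * f * l⁻¹ * y = y * (l * f * l⁻¹)) :
    l * f * l⁻¹ ∈ Q (M₁.e nn) := by
  have hWT : ∀ {w : G}, w ∈ WW V₁ V₂ (M₁.e aa) → w * M₁.e nn = M₁.e nn * w := fun hw =>
    mem_C.1 (b.Qa_le_T (b.WWa_le_Qa hw)).2
  have hCN : centralizer (UU (M₁.e nn) (M₁.e aa) : Set G) ≤ centralizer ({M₁.e nn} : Set G) :=
    b.centralizer_UU_le.trans inf_le_left
  have hCa : ∀ {x : G}, x ∈ centralizer (UU (M₁.e nn) (M₁.e aa) : Set G) → x * M₁.e aa = M₁.e aa * x :=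
    fun hx => mem_C.1 (b.centralizer_UU_le hx).2
  have hQf : f ∈ Q (M₁.e nn) := b.WW_le_Q hf
  obtain ⟨k, hk⟩ := o2_isPGroup _ ⟨f, hQf⟩
  have hk' : f ^ 2 ^ k = 1 := congrArg Subtype.val hk
  refine DiCoreAbs.core_abs (N := centralizer ({M₁.e nn} : Set G))
    (C := centralizer (UU (M₁.e nn) (M₁.e aa) : Set G)) (O := OO M₁) (L := L₁) (F := FF V₁ V₂ M₁) hCN
    b.normalizer_centralizer_UU inf_le_left ?_ ?_ ?_ ?_ (b.gen_le) hl (Or.inr hQf) rfl ?_ (k := k) ?_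
  · intro g hg
    exact OO_norm (mem_C.1 (hCN hg)) (hCa hg)
  · intro g hg
    exact OO_norm (mem_C.1 (b.Q_le_T hg).2) (b.a_comm_Q hg)
  · rintro _ (⟨g, hg, w, hw, rfl⟩ | hx)
    · exact mul_mem (mul_mem (mem_C.2 hg) (mem_C.2 (hWT hw))) (inv_mem (mem_C.2 hg))
    · exact o2_le _ hx
  · rintro _ (⟨g, hg, w, hw, rfl⟩ | hx) c hc
    · have hc' : g⁻¹ * c * g ∈ centralizer (UU (M₁.e nn) (M₁.e aa) : Set G) := by
        have hg' : g⁻¹ * M₁.e nn = M₁.e nn * g⁻¹ := by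
          rw [inv_mul_eq_iff_eq_mul, ← mul_assoc, hg, mul_inv_cancel_right]
        have := cent_UU_norm hg' hc.1
        rwa [inv_inv] at this
      set c' := g⁻¹ * c * g with hc'd
      have h3 : w * c' * w⁻¹ * c'⁻¹ ∈ Q (M₁.e nn) := by
        refine b.WWa_inf_centralizer_le (mem_inf.2 ⟨?_, ?_⟩)
        · have h4 := WW_norm (hCa hc') (inv_mem hw)
          have h5 : w * c' * w⁻¹ * c'⁻¹ = w * (c' * w⁻¹ * c'⁻¹) := by group
          rw [h5]
          exact mul_mem hw h4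
        · exact mul_mem (cent_UU_norm (hWT hw) hc') (inv_mem hc')
      have h4 := b.Q_conj hg h3
      have h5 : g * (w * c' * w⁻¹ * c'⁻¹) * g⁻¹ = g * w * g⁻¹ * c * (g * w * g⁻¹)⁻¹ * c⁻¹ := by
        rw [hc'd]; group
      rwa [h5] at h4
    · rename_i x
      have h3 := b.Q_conj (mem_C.1 (hCN hc.1)) (inv_mem hx)
      have h4 : x * c * x⁻¹ * c⁻¹ = x * (c * x⁻¹ * c⁻¹) := by group
      rw [h4]
      exact mul_mem hx h3
  · exact mem_inf.2 ⟨mem_centralizer_iff.2 fun y hy => (h1 y hy).symm,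
      mem_centralizer_iff.2 fun y hy => (h2 y hy).symm⟩
  · have h3 : (l * f * l⁻¹) ^ 2 ^ k = l * f ^ 2 ^ k * l⁻¹ := conj_pow
    rw [h3, hk', mul_one, mul_inv_cancel]

end Base

namespace Base

variable [Finite G] {S : Sylow 2 G} {V₁ V₂ L₁ L₂ : Subgroup G} {M₁ : FiveMod V₁ L₁}
  {M₂ : FiveMod V₂ L₂} {h : G} (b : Base S M₁ M₂ h)
include b

/-- **(1.5)** `[C_G(U_n), W_a] ≤ Q_n` -/
theorem cw {c x : G} (hc : ∀ u ∈ UU (M₁.e nn) (M₁.e aa), c * u = u * c)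
    (hx : x ∈ WW V₁ V₂ (M₁.e aa)) : c * x * c⁻¹ * x⁻¹ ∈ Q (M₁.e nn) := by
  have hcC : c ∈ centralizer (UU (M₁.e nn) (M₁.e aa) : Set G) :=
    mem_centralizer_iff.2 fun u hu => (hc u hu).symm
  refine b.WWa_inf_centralizer_le (mem_inf.2 ⟨?_, ?_⟩)
  · exact mul_mem (WW_norm (hc _ (mem_UU_self _ _)) hx) (inv_mem hx)
  · have h1 : x ∈ normalizer (centralizer (UU (M₁.e nn) (M₁.e aa) : Set G) : Set G) :=
      b.normalizer_centralizer_UU (b.Qa_le_T (b.WWa_le_Qa hx)).2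
    have h2 := (mem_normalizer_iff.1 h1 _).1 (inv_mem hcC)
    have e : c * x * c⁻¹ * x⁻¹ = c * (x * c⁻¹ * x⁻¹) := by group
    rw [e]
    exact mul_mem hcC h2

/-- **(3.4)** `g ∈ C_G(n)`, `[g, U_n] ≤ ⟨n⟩` ⟹ `[g, U_n] = 1`. -/
theorem faith {g : G} (hgn : g * M₁.e nn = M₁.e nn * g)
    (hg : ∀ u ∈ UU (M₁.e nn) (M₁.e aa), g * u * g⁻¹ * u⁻¹ = 1 ∨ g * u * g⁻¹ * u⁻¹ = M₁.e nn)
    {u : G} (hu : u ∈ UU (M₁.e nn) (M₁.e aa)) : g * u = u * g :=
  dn_centralizes (n := M₁.e nn) (M₁.e_sq nn) (S.isPGroup'.to_le inf_le_left) inf_le_right b.not_dvd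
    (fun _ ht => b.dih₁.T_comm_a ht) ⟨hgn, hg⟩ hu

end Base

end Cfsg.Agent.Omega.TTn.Z

namespace Cfsg.Agent.Omega.TTn.Z.Di

open Subgroup Cfsg Cfsg.Agent.ZN
open Cfsg.Agent.Omega.S5.Mod Cfsg.Agent.Omega.S5.TT
open Cfsg.Agent.Omega.S5.TT.Pos (n_ne a_ne n_ne_a e_sq' mem_C sn ns)
open Cfsg.Agent.MinSimple.VModule (o2_isPGroup le_o2 o2_le le_normalizer_o2 o2_le_of_sylow)
open Cfsg.Agent.Omega.TTn.Di

universe u

variable {G : Type u} [Group G]

variable {S : Sylow 2 G} {V L : Subgroup G} {M : FiveMod V L} {h : G}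

section base

variable (b : Base S M M h)
include b

variable [Finite G]

theorem UP_zero_one : UP M 0 1 = UU (M.e nn) (M.e aa) := by
  refine le_antisymm (UP_le fun g hg x hx => ?_) (UU_le ?_ fun g hg => ?_)
  · rw [sv01] at hg
    exact UU_norm hg (b.perp_mem₁ hx)
  · exact e_mem_UP (by decide)
  · rw [← sv01] at hg
    exact mem_UP hg (by decide)

/-- reduction to the labels `0`, `1` -/
theorem UP_zero {p : Equiv.Perm (Fin 5)} {l u : G} (hl : M.Ind l p) (hu : u ∈ UP M (p 0) (p 1)) :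
    l⁻¹ * u * l ∈ UU (M.e nn) (M.e aa) := by
  rw [← UP_zero_one b, ← UP_conj_iff hl]
  have : l * (l⁻¹ * u * l) * l⁻¹ = u := by group
  rwa [this]

theorem U_comm_Q {i j : Fin 5} (hij : i ≠ j) {q u : G} (hq : q ∈ QP M i j) (hu : u ∈ UP M i j) :
    q * u = u * q := by
  obtain ⟨p, rfl, rfl⟩ := exists_perm2 hij
  obtain ⟨l, -, hl⟩ := M.exists_lift p
  have hl : M.Ind l p := hl
  have eq' : q = l * (l⁻¹ * q * l) * l⁻¹ := by group
  have eu : u = l * (l⁻¹ * u * l) * l⁻¹ := by group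
  rw [eq', eu, comm_conj_iff]
  refine (b.UU_comm_Q ?_ ?_).symm
  · rw [← UP_zero_one b, ← UP_conj_iff hl, ← eu]; exact hu
  · rw [← QP01, ← QP_conj_iff hl, ← eq']; exact hq

theorem U_le_Q {i j : Fin 5} (hij : i ≠ j) : UP M i j ≤ QP M i j := by
  obtain ⟨p, rfl, rfl⟩ := exists_perm2 hij
  obtain ⟨l, -, hl⟩ := M.exists_lift p
  have hl : M.Ind l p := hl
  intro u hu
  have eu : u = l * (l⁻¹ * u * l) * l⁻¹ := by group
  rw [eu, QP_conj_iff hl, QP01]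
  refine b.UU_le_Q ?_
  rw [← UP_zero_one b, ← UP_conj_iff hl, ← eu]; exact hu

theorem W_le_Q {i j : Fin 5} (hij : i ≠ j) : WP M i j ≤ QP M i j := by
  obtain ⟨p, rfl, rfl⟩ := exists_perm2 hij
  obtain ⟨l, -, hl⟩ := M.exists_lift p
  have hl : M.Ind l p := hl
  intro u hu
  have eu : u = l * (l⁻¹ * u * l) * l⁻¹ := by group
  rw [eu, QP_conj_iff hl, QP01]
  refine b.WW_le_Q ?_
  rw [← WP01, ← WP_conj_iff hl, ← eu]; exact hu

theorem V_le_QP {i j : Fin 5} (hij : i ≠ j) : V ≤ QP M i j :=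
  (le_WW₁ V V _).trans (W_le_Q b hij)

theorem U_le_C {i j : Fin 5} (hij : i ≠ j) : UP M i j ≤ centralizer (V : Set G) := by
  intro u hu
  rw [mem_centralizer_iff]
  intro v hv
  exact U_comm_Q b hij (V_le_QP b hij hv) hu

theorem U_sq {i j : Fin 5} (hij : i ≠ j) {u : G} (hu : u ∈ UP M i j) : u * u = 1 := by
  obtain ⟨p, rfl, rfl⟩ := exists_perm2 hij
  obtain ⟨l, -, hl⟩ := M.exists_lift p
  have hl : M.Ind l p := hl
  have h1 := b.UU_sq (u := l⁻¹ * u * l) (by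
    rw [← UP_zero_one b, ← UP_conj_iff hl]
    have : l * (l⁻¹ * u * l) * l⁻¹ = u := by group
    rwa [this])
  have h2 : l⁻¹ * u * l * (l⁻¹ * u * l) = l⁻¹ * (u * u) * l := by group
  rw [h2] at h1
  have h3 := congrArg (fun t => l * t * l⁻¹) h1
  simpa [mul_assoc] using h3

theorem QW_comm {i j : Fin 5} (hij : i ≠ j) {q x : G} (hq : q ∈ QP M i j) (hx : x ∈ WP M i j) :
    cm q x = 1 ∨ cm q x = sv M i * sv M j := by
  obtain ⟨p, rfl, rfl⟩ := exists_perm2 hij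
  obtain ⟨l, -, hl⟩ := M.exists_lift p
  have hl : M.Ind l p := hl
  have eq' : q = l * (l⁻¹ * q * l) * l⁻¹ := by group
  have ex : x = l * (l⁻¹ * x * l) * l⁻¹ := by group
  have h1 : l⁻¹ * x * l ∈ WW V V (M.e nn) := by
    rw [← WP01, ← WP_conj_iff hl, ← ex]; exact hx
  have h2 : l⁻¹ * q * l ∈ Q (M.e nn) := by
    rw [← QP01, ← QP_conj_iff hl, ← eq']; exact hq
  have h3 := b.WW_comm h1 h2
  rw [eq', ex, ← cm_conj, ← svsv_conj hl, sv01]
  have h4 : cm (l⁻¹ * q * l) (l⁻¹ * x * l) =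
      (l⁻¹ * x * l * (l⁻¹ * q * l) * (l⁻¹ * x * l)⁻¹ * (l⁻¹ * q * l)⁻¹)⁻¹ := by
    unfold cm; group
  rcases h3 with h3 | h3
  · left; rw [h4, h3]; group
  · right; rw [h4, h3, M.e_inv]

/-- squares in `W n` -/
theorem WW_sq {x : G} (hx : x ∈ WW V V (M.e nn)) : x * x = 1 ∨ x * x = M.e nn := by
  have hn : ∀ {y : G}, y ∈ Q (M.e nn) → y * M.e nn = M.e nn * y := fun hy => mem_C.1 (o2_le _ hy)
  induction hx using closure_induction with
  | mem y hy =>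
    obtain ⟨g, hg, v, hv, rfl⟩ := hy
    left
    have hv' : v ∈ V := hv.elim id id
    have h1 : g * v * g⁻¹ * (g * v * g⁻¹) = g * (v * v) * g⁻¹ := by group
    rw [h1, M.sq hv']; group
  | one => left; group
  | mul x y hx hy h1 h2 =>
    have hxQ : x ∈ Q (M.e nn) := b.WW_le_Q hx
    have hyQ : y ∈ Q (M.e nn) := b.WW_le_Q hy
    have h3 := b.WW_comm hy hxQ
    have e : x * y * (x * y) = x * (y * x * y⁻¹ * x⁻¹) * x⁻¹ * (x * x) * (y * y) := by group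
    have h4 : x * (y * x * y⁻¹ * x⁻¹) * x⁻¹ = y * x * y⁻¹ * x⁻¹ := by
      rcases h3 with h3 | h3
      · rw [h3]; group
      · rw [h3, hn hxQ, mul_inv_cancel_right]
    rw [e, h4]
    rcases h1 with h1 | h1 <;> rcases h2 with h2 | h2 <;> rcases h3 with h3 | h3 <;> rw [h1, h2, h3] <;>
      simp [M.e_sq]
  | inv x hx h1 =>
    have e : x⁻¹ * x⁻¹ = (x * x)⁻¹ := by group
    rw [e]
    rcases h1 with h1 | h1
    · left; rw [h1]; group
    · right; rw [h1, M.e_inv]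

theorem W_sq {i j : Fin 5} (hij : i ≠ j) {x : G} (hx : x ∈ WP M i j) : x * x = 1 ∨ x * x = sv M i * sv M j := by
  obtain ⟨p, rfl, rfl⟩ := exists_perm2 hij
  obtain ⟨l, -, hl⟩ := M.exists_lift p
  have hl : M.Ind l p := hl
  have ex : x = l * (l⁻¹ * x * l) * l⁻¹ := by group
  have h1 : l⁻¹ * x * l ∈ WW V V (M.e nn) := by
    rw [← WP01, ← WP_conj_iff hl, ← ex]; exact hx
  have h2 := WW_sq b h1
  have e : x * x = l * (l⁻¹ * x * l * (l⁻¹ * x * l)) * l⁻¹ := by group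
  rw [e, ← svsv_conj hl, sv01]
  rcases h2 with h2 | h2
  · left; rw [h2]; group
  · right; rw [h2]

theorem sv_notMem {i j : Fin 5} (hij : i ≠ j) : sv M i ∉ UP M i j := by
  obtain ⟨p, rfl, rfl⟩ := exists_perm2 hij
  obtain ⟨l, -, hl⟩ := M.exists_lift p
  have hl : M.Ind l p := hl
  rw [← sv_conj hl, UP_conj_iff hl, UP_zero_one b]
  intro h1
  have h2 := b.perp_of_mem₁ h1
  revert h2
  decide

theorem exists_w {i j : Fin 5} (hij : i ≠ j) : ∃ w ∈ WP M i j, M.Ind w (Equiv.swap i j) := by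
  obtain ⟨p, rfl, rfl⟩ := exists_perm2 hij
  obtain ⟨l, -, hl⟩ := M.exists_lift p
  have hl : M.Ind l p := hl
  obtain ⟨w, hw, hi⟩ := b.exists_move₁
  refine ⟨l * w * l⁻¹, WP_conj hl (by rwa [WP01]), ?_⟩
  have h1 := (hl.mul hi).mul hl.inv
  have h2 : p * Equiv.swap 0 1 * p⁻¹ = Equiv.swap (p 0) (p 1) := (Equiv.swap_apply_apply p 0 1).symm
  rwa [h2] at h1

/-- The frame of #14261 from `Base` (one module) and the three facts (1.5), (2.4), (3.4), with the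
action of `w i j` on `V`. -/
theorem fr_of_ind (hI : ∀ x, (∀ i j, i ≠ j → x ∈ UP M i j) → x = 1) (hcw : CwStd M) (hcore : CoreStd M)
    (hfaith : FaithStd M) :
    ∃ w : Fin 5 → Fin 5 → G, (∀ i j, i ≠ j → M.Ind (w i j) (Equiv.swap i j)) ∧
      Fr (sv M) (UP M) (WP M) (QP M) w (centralizer (V : Set G)) := by
  have hex : ∀ i j : Fin 5, ∃ w, i ≠ j → w ∈ WP M i j ∧ M.Ind w (Equiv.swap i j) := by
    intro i j
    by_cases hij : i = j
    · exact ⟨1, fun h0 => absurd hij h0⟩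
    · obtain ⟨w, hw, hi⟩ := exists_w b hij
      exact ⟨w, fun _ => ⟨hw, hi⟩⟩
  choose w hw using hex
  refine ⟨w, fun i j hij => (hw i j hij).2, ?_⟩
  refine
    { s_sq := fun i => M.e_sq _
      s_comm := fun i j => M.e_comm _ _
      s_rel := ?_
      sK := ?_
      Ks := ?_
      Usym := UP_symm M
      Wsym := WP_symm M
      Qsym := QP_symm M
      UK := fun hij => U_le_C b hij
      KU := ?_
      KW := ?_
      Uab := ?_
      Usq := fun hij u hu => U_sq b hij hu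
      UQ := fun hij => U_le_Q b hij
      UQc := fun hij q hq u hu => U_comm_Q b hij hq hu
      WQ := fun hij => W_le_Q b hij
      QW := fun hij q hq x hx => QW_comm b hij hq hx
      Wsq := fun hij x hx => W_sq b hij hx
      sU := ?_
      sU' := fun hij => sv_notMem b hij
      wW := fun hij => (hw _ _ hij).1
      w1 := ?_
      w2 := ?_
      w3 := ?_
      cw := fun h5 => hcw.gen h5
      core := fun h5 => hcore.gen h5
      inter := fun x hx => hI x hx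
      faith := fun hij => hfaith.gen hij }
  · intro i j k l m h5
    obtain ⟨p, rfl, rfl, rfl, rfl, rfl⟩ := exists_perm5 h5
    unfold sv
    rw [← M.e_add, ← M.e_add, ← M.e_add, ← M.e_add]
    have h1 : ((Pi.single (p 0) 1 + Pi.single (p 1) 1 + Pi.single (p 2) 1 + Pi.single (p 3) 1 +
        Pi.single (p 4) 1 : Vec)) = 1 := by
      funext x
      obtain ⟨y, rfl⟩ := p.surjective x
      simp only [Pi.add_apply, Pi.single_apply, p.injective.eq_iff, Pi.one_apply]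
      fin_cases y <;> simp
    rw [h1, M.e_one]
  · intro i
    rw [mem_centralizer_iff]
    exact fun v hv => M.comm hv (M.e_mem _)
  · intro i g hg
    exact (mem_centralizer_iff.1 hg _ (M.e_mem _)).symm
  · intro i j hij g hg u hu
    refine UP_norm ?_ hu
    have h1 := (mem_centralizer_iff.1 hg _ (M.e_mem (Pi.single i 1))).symm
    have h2 := (mem_centralizer_iff.1 hg _ (M.e_mem (Pi.single j 1))).symm
    unfold sv
    rw [← mul_assoc, h1, mul_assoc, h2, ← mul_assoc]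
  · intro i j hij g hg u hu
    refine WW_norm ?_ hu
    have h1 := (mem_centralizer_iff.1 hg _ (M.e_mem (Pi.single i 1))).symm
    have h2 := (mem_centralizer_iff.1 hg _ (M.e_mem (Pi.single j 1))).symm
    unfold sv
    rw [← mul_assoc, h1, mul_assoc, h2, ← mul_assoc]
  · intro i j hij u hu v hv
    exact U_comm_Q b hij (U_le_Q b hij hu) hv
  · intro i j k hij hki hkj
    refine e_mem_UP ?_
    rw [Pi.single_eq_of_ne hki.symm, Pi.single_eq_of_ne hkj.symm]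
  · intro i j k hij hki hkj u hu
    have h1 := UP_conj (hw _ _ hij).2 hu
    rw [Equiv.swap_apply_left, Equiv.swap_apply_of_ne_of_ne hki hkj] at h1
    exact h1
  · intro i j k hij hki hkj u hu
    have h1 := UP_conj (hw _ _ hij).2 hu
    rw [Equiv.swap_apply_right, Equiv.swap_apply_of_ne_of_ne hki hkj] at h1
    exact h1
  · intro i j k l hij hki hkj hli hlj hkl u hu
    have h1 := UP_conj (hw _ _ hij).2 hu
    rw [Equiv.swap_apply_of_ne_of_ne hki hkj, Equiv.swap_apply_of_ne_of_ne hli hlj] at h1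
    exact h1

end base

theorem UP_two_three_le [Finite G] (b : Base S M M h) : UU (M.e aa) (M.e nn) ≤ UP M 2 3 := by
  intro y hy
  obtain ⟨k, -, hk⟩ := b.dih₁.exists_swap
  have h1 : k⁻¹ * M.e aa * k⁻¹⁻¹ = M.e nn := by rw [← Dih.tt_n hk]; group
  have h2 : k⁻¹ * M.e nn * k⁻¹⁻¹ = M.e aa := by rw [← Dih.tt_a hk]; group
  have h3 := UU_conj k⁻¹ hy
  rw [h1, h2, ← UP_zero_one b] at h3
  have h4 := UP_conj hk h3
  have h5 : k * (k⁻¹ * y * k⁻¹⁻¹) * k⁻¹ = y := by group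
  rw [h5] at h4
  exact h4

/-- (2.4) -/
theorem coreStd [Finite G] (b : Base S M M h) : CoreStd M := by
  intro c hc h1 h2
  obtain ⟨p, p0, p1⟩ := exists_perm2 (i := (1 : Fin 5)) (j := 2) (by decide)
  obtain ⟨l, hlL, hl⟩ := M.exists_lift p
  have ec : c = l * (l⁻¹ * c * l) * l⁻¹ := by group
  have hf : l⁻¹ * c * l ∈ WW V V (M.e nn) := by
    rw [← WP01, ← WP_conj_iff hl, ← ec, p0, p1]
    exact hc
  rw [QP01, ec]
  refine b.core_std hlL hf (fun y hy => ?_) fun y hy => ?_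
  · rw [← ec]
    exact h1 y (by rw [UP_zero_one b]; exact hy)
  · rw [← ec]
    exact h2 y (UP_two_three_le b hy)

theorem cwStd [Finite G] (b : Base S M M h) : CwStd M := by
  intro c hc x hx
  rw [QP01]
  rw [WP23] at hx
  exact b.cw (fun u hu => hc u (by rwa [UP_zero_one b])) hx

theorem faithStd [Finite G] (b : Base S M M h) : FaithStd M := by
  intro g hg h1 u hu
  rw [UP_zero_one b] at hu
  refine b.faith ?_ (fun v hv => ?_) hu
  · exact (mem_centralizer_iff.1 hg _ (M.e_mem _)).symm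
  · have h2 := h1 v (by rwa [UP_zero_one b])
    rw [sv01] at h2
    exact h2

/-- `U i j` is generated by `s i s j` and the `C_G(s i s j)`-conjugates of `s m`. -/
theorem UP_gen [Finite G] (b : Base S M M h) {i j k l m : Fin 5} (h5 : D5 i j k l m) :
    UP M i j ≤ closure {x | x = sv M i * sv M j ∨
      ∃ g, g * (sv M i * sv M j) = sv M i * sv M j * g ∧ x = cj g (sv M m)} := by
  obtain ⟨p, rfl, rfl, rfl, rfl, rfl⟩ := exists_perm5 h5
  obtain ⟨l, -, hl⟩ := M.exists_lift p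
  have hl : M.Ind l p := hl
  set H := closure {x | x = sv M (p 0) * sv M (p 1) ∨
    ∃ g, g * (sv M (p 0) * sv M (p 1)) = sv M (p 0) * sv M (p 1) * g ∧ x = cj g (sv M (p 4))} with hH
  have key : UU (M.e nn) (M.e aa) ≤ ZN.ChoiceBase.cj l⁻¹ H := by
    have hnH : sv M (p 0) * sv M (p 1) ∈ H := subset_closure (Or.inl rfl)
    refine UU_le ?_ fun g hg => ?_
    · rw [ZN.ChoiceBase.mem_cj, inv_inv, ← sv01, svsv_conj hl]
      exact hnH
    · rw [ZN.ChoiceBase.mem_cj, inv_inv]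
      have hg' : g * (sv M 0 * sv M 1) = sv M 0 * sv M 1 * g := by rw [sv01]; exact hg
      have h1 : l * (g * M.e aa * g⁻¹) * l⁻¹ =
          sv M (p 0) * sv M (p 1) * cj (l * g * l⁻¹) (sv M (p 4)) := by
        rw [← ns M, ← sv4, ← svsv_conj hl, ← sv_conj hl, ← sv01]
        unfold cj
        calc l * (g * (sv M 0 * sv M 1 * sv M 4) * g⁻¹) * l⁻¹ =
            l * ((g * (sv M 0 * sv M 1)) * sv M 4 * g⁻¹) * l⁻¹ := by group
          _ = l * ((sv M 0 * sv M 1 * g) * sv M 4 * g⁻¹) * l⁻¹ := by rw [hg']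
          _ = _ := by group
      rw [h1]
      refine H.mul_mem hnH (subset_closure (Or.inr ⟨_, ?_, rfl⟩))
      rw [← svsv_conj hl]
      calc l * g * l⁻¹ * (l * (sv M 0 * sv M 1) * l⁻¹) = l * (g * (sv M 0 * sv M 1)) * l⁻¹ := by group
        _ = l * (sv M 0 * sv M 1 * g) * l⁻¹ := by rw [hg']
        _ = _ := by group
  intro u hu
  have h1 := key (UP_zero b hl hu)
  rw [ZN.ChoiceBase.mem_cj, inv_inv] at h1
  have h2 : l * (l⁻¹ * u * l) * l⁻¹ = u := by group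
  rwa [h2] at h1

theorem cj_ne (b : Base S M M h) {i j k l m : Fin 5} (h5 : D5 i j k l m) (g : G) :
    cj g (sv M m) ≠ sv M k * sv M l := by
  obtain ⟨p, rfl, rfl, rfl, rfl, rfl⟩ := exists_perm5 h5
  obtain ⟨l, -, hl⟩ := M.exists_lift p
  have hl : M.Ind l p := hl
  rw [← svsv_conj hl, ← sv_conj hl, sv4, sv23]
  intro h0
  refine b.conj_a_ne_s (l⁻¹ * g⁻¹ * l) ?_
  unfold cj at h0
  calc l⁻¹ * g⁻¹ * l * M.e aa * (l⁻¹ * g⁻¹ * l)⁻¹ = l⁻¹ * g⁻¹ * (l * M.e aa * l⁻¹) * g * l := by group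
    _ = l⁻¹ * g⁻¹ * (g * (l * M.e ss * l⁻¹) * g⁻¹) * g * l := by rw [h0]
    _ = M.e ss := by group

/-- The frame `FrN` from `Base`. -/
theorem frN_of [Finite G] (b : Base S M M h) (hI : ∀ x, (∀ i j, i ≠ j → x ∈ UP M i j) → x = 1) :
    ∃ w, FrN (sv M) (UP M) (WP M) (QP M) w (centralizer (V : Set G)) := by
  obtain ⟨w, hw, F⟩ := fr_of_ind b hI (cwStd b) (coreStd b) (faithStd b)
  refine ⟨w, { F with
    NU := fun _ g hg u hu => UP_norm hg hu
    gen := fun h5 => UP_gen b h5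
    nc := fun h5 g => cj_ne b h5 g
    wcj := ?_
    wcj' := ?_ }⟩
  · intro i j hij
    have h1 := sv_conj (hw i j hij) i
    rwa [Equiv.swap_apply_left] at h1
  · intro i j k hij hki hkj
    have h1 := sv_conj (hw i j hij) k
    rwa [Equiv.swap_apply_of_ne_of_ne hki hkj] at h1

/-- `[U_n, U_a] = 1` -/
theorem UU_comm_UUa [Finite G] (b : Base S M M h) (hI : ∀ x, (∀ i j, i ≠ j → x ∈ UP M i j) → x = 1)
    {y z : G} (hy : y ∈ UU (M.e nn) (M.e aa))
    (hz : z ∈ UU (M.e aa) (M.e nn)) : y * z = z * y := by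
  obtain ⟨w, F⟩ := frN_of b hI
  have h5 : D5 (0 : Fin 5) 1 2 3 4 := by constructor <;> decide
  refine F.comm_of (fun H => H.kill) h5 y ?_ z ?_
  · rw [UP_zero_one b]; exact hy
  · exact UP_two_three_le b hz

/-- **#14261 (helper439)** over `Z.Base`: `U_n ≤ O₂(C_G(a))` if `⋂ U_π = 1`. -/
theorem di [Finite G] (b : Base S M M h) (hI : ∀ x, (∀ i j, i ≠ j → x ∈ UP M i j) → x = 1) :
    UU (M.e nn) (M.e aa) ≤ Q (M.e aa) := by
  obtain ⟨h', b'⟩ := b.exists_flip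
  have h1 := b'.WWa_inf_centralizer_le
  rw [Base.rel_nn, Base.rel_aa] at h1
  refine le_trans ?_ h1
  refine le_inf b.UU_le_WW fun y hy => mem_centralizer_iff.2 fun z hz => ?_
  exact (UU_comm_UUa b hI hy hz).symm

end Cfsg.Agent.Omega.TTn.Z.Di
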