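import Cfsg.Agent.Omega.TTn.Z.Base
import Cfsg.Agent.Omega.TTn.Norm

/-!
# #15257 (4): `a` is the only element of `a ^ C_G(n)` centralised by `T`
-/

set_option autoImplicit false
set_option linter.unusedSectionVars false

namespace Cfsg.Agent.Omega.TTn.Z.Fus

open Subgroup Cfsg Cfsg.Agent.ZN Cfsg.Agent.ZN.ChoiceBase
open Cfsg.Agent.Omega.S5.Mod Cfsg.Agent.Omega.S5.TT
open Cfsg.Agent.Omega.S5.TT.Pos (na ns as sn n_ne s_ne a_ne n_ne_a n_ne_s a_ne_s e_sq' mem_C)

/-! ### Groups of order not divisible by 4 -/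

/-- two commuting involutions in a group of order not divisible by 4 are equal -/
theorem eq_of_comm {Q : Type*} [Group Q] {R : Subgroup Q} [Finite R] (h4 : ¬ 4 ∣ Nat.card R) {u w : Q}
    (huR : u ∈ R) (hwR : w ∈ R) (hu : u * u = 1) (hw : w * w = 1) (hu1 : u ≠ 1) (hw1 : w ≠ 1)
    (h : u * w = w * u) : u = w := by
  classical
  by_contra hne
  have hui : u⁻¹ = u := inv_eq_of_mul_eq_one_left hu
  have hwi : w⁻¹ = w := inv_eq_of_mul_eq_one_left hw
  let K : Subgroup Q :=
    { carrier := ({1, u, w, u * w} : Finset Q)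
      one_mem' := by simp
      mul_mem' := by
        intro a b ha hb
        have e1 : ∀ y, u * (u * y) = y := fun y => by rw [← mul_assoc, hu, one_mul]
        have e2 : ∀ y, w * (w * y) = y := fun y => by rw [← mul_assoc, hw, one_mul]
        have e3 : w * (u * w) = u := by rw [h, e2]
        simp only [Finset.coe_insert, Finset.coe_singleton, Set.mem_insert_iff, Set.mem_singleton_iff] at ha hb ⊢
        rcases ha with rfl | rfl | rfl | rfl <;> rcases hb with rfl | rfl | rfl | rfl <;>
          simp [mul_assoc, hu, hw, e1, e3, ← h]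
      inv_mem' := by
        intro a ha
        simp only [Finset.coe_insert, Finset.coe_singleton, Set.mem_insert_iff, Set.mem_singleton_iff] at ha ⊢
        rcases ha with rfl | rfl | rfl | rfl <;> simp [hui, hwi, ← h] }
  have hK : K ≤ R := by
    intro a ha
    change a ∈ (({1, u, w, u * w} : Finset Q) : Set Q) at ha
    simp only [Finset.coe_insert, Finset.coe_singleton, Set.mem_insert_iff, Set.mem_singleton_iff] at ha
    rcases ha with rfl | rfl | rfl | rfl
    · exact one_mem _
    · exact huR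
    · exact hwR
    · exact mul_mem huR hwR
  have hc : Nat.card K = 4 := by
    change Nat.card ((({1, u, w, u * w} : Finset Q) : Set Q)) = 4
    rw [Nat.card_coe_set_eq, Set.ncard_coe_finset]
    have h1 : (1 : Q) ≠ u * w := fun h1 => hne (by
      have := congrArg (u * ·) h1
      simp only [mul_one, ← mul_assoc, hu, one_mul] at this
      exact this)
    have h2 : u ≠ u * w := fun h1 => hw1 (by simpa using h1.symm)
    have h3 : w ≠ u * w := fun h1 => hu1 (by simpa using h1.symm)
    rw [Finset.card_insert_of_notMem, Finset.card_insert_of_notMem, Finset.card_insert_of_notMem,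
      Finset.card_singleton]
    · simpa using h3
    · simp only [Finset.mem_insert, Finset.mem_singleton, not_or]
      exact ⟨hne, h2⟩
    · simp only [Finset.mem_insert, Finset.mem_singleton, not_or]
      exact ⟨Ne.symm hu1, Ne.symm hw1, h1⟩
  exact h4 (hc ▸ Subgroup.card_dvd_of_le hK)

/-- the same, if `(u w) ^ 4 = 1` -/
theorem eq_of_pow {Q : Type*} [Group Q] {R : Subgroup Q} [Finite R] (h4 : ¬ 4 ∣ Nat.card R) {u w : Q}
    (huR : u ∈ R) (hwR : w ∈ R) (hu : u * u = 1) (hw : w * w = 1) (hu1 : u ≠ 1) (hw1 : w ≠ 1)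
    (h : (u * w) ^ 4 = 1) : u = w := by
  refine eq_of_comm h4 huR hwR hu hw hu1 hw1 ?_
  have hui : u⁻¹ = u := inv_eq_of_mul_eq_one_left hu
  have hwi : w⁻¹ = w := inv_eq_of_mul_eq_one_left hw
  have h1 : orderOf (u * w) ∣ 2 ^ 2 := orderOf_dvd_of_pow_eq_one h
  have h2 : orderOf (u * w) ∣ Nat.card R := by
    have h3 := orderOf_dvd_natCard (⟨u * w, mul_mem huR hwR⟩ : R)
    rwa [Subgroup.orderOf_mk] at h3
  have h3 : orderOf (u * w) ∣ 2 := by
    obtain ⟨k, hk, he⟩ := (Nat.dvd_prime_pow Nat.prime_two).1 h1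
    rw [he] at h2 ⊢
    interval_cases k
    · exact ⟨2, rfl⟩
    · exact ⟨1, rfl⟩
    · exact absurd h2 h4
  have h5 : (u * w) ^ 2 = 1 := orderOf_dvd_iff_pow_eq_one.1 h3
  have h6 : u * w = (u * w)⁻¹ := eq_inv_of_mul_eq_one_left (by rw [← pow_two]; exact h5)
  rw [h6, mul_inv_rev, hui, hwi]

/-! ### Transvections -/

section tv

variable {X V : Type*} [Group X] [AddCommGroup V]

/-- an action by additive maps -/
structure Act (act : X → V → V) : Prop where
  one : ∀ d, act 1 d = d
  mul : ∀ g h d, act (g * h) d = act g (act h d)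
  add : ∀ g d e, act g (d + e) = act g d + act g e

variable {act : X → V → V} (A : Act act)
include A

theorem Act.inv_l (g : X) (d : V) : act g⁻¹ (act g d) = d := by
  rw [← A.mul, inv_mul_cancel, A.one]

theorem Act.inv_r (g : X) (d : V) : act g (act g⁻¹ d) = d := by
  rw [← A.mul, mul_inv_cancel, A.one]

theorem Act.inj {g : X} {d e : V} (h : act g d = act g e) : d = e := by
  rw [← A.inv_l g d, h, A.inv_l]

theorem Act.zero (g : X) : act g 0 = 0 := by
  have h := A.add g 0 0
  rw [add_zero] at h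
  exact left_eq_add.1 h

/-- `u`, `w` transvections with centres `c`, `c'`, and `u` fixes `c'`; then `(u w) ^ 4 = 1` -/
theorem Act.tv4 (h2 : ∀ v : V, v + v = 0) {u w : X} {c c' : V} (hu : ∀ d, act u d = d ∨ act u d = d + c)
    (hw : ∀ d, act w d = d ∨ act w d = d + c') (huc : act u c = c) (hwc' : act w c' = c')
    (huc' : act u c' = c') (d : V) : act ((u * w) ^ 4) d = d := by
  have hf : ∀ d, act (u * w) d = act u (act w d) := fun d => A.mul _ _ _
  have fc' : act (u * w) c' = c' := by rw [hf, hwc', huc']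
  have fc : act (u * w) c = c ∨ act (u * w) c = c + c' := by
    rcases hw c with h | h
    · left; rw [hf, h, huc]
    · right; rw [hf, h, A.add, huc, huc']
  have hcc : c' + c' = 0 := h2 c'
  have hc0 : c + c = 0 := h2 c
  have key : ∀ d, act (u * w) (act (u * w) d) = d ∨ act (u * w) (act (u * w) d) = d + c' := by
    intro d
    have hd : act (u * w) d = d ∨ act (u * w) d = d + c ∨ act (u * w) d = d + c' ∨
        act (u * w) d = d + (c + c') := by
      rcases hw d with h | h <;> rcases hu d with h' | h'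
      · left; rw [hf, h, h']
      · right; left; rw [hf, h, h']
      · right; right; left; rw [hf, h, A.add, h', huc']
      · right; right; right; rw [hf, h, A.add, h', huc']; abel
    rcases hd with h | h | h | h
    · left; rw [h, h]
    · rcases fc with h' | h'
      · left; rw [h, A.add, h, h', add_assoc, hc0, add_zero]
      · right
        rw [h, A.add, h, h', add_assoc, ← add_assoc c c c', hc0, zero_add]
    · left; rw [h, A.add, h, fc', add_assoc, hcc, add_zero]
    · rcases fc with h' | h'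
      · left
        rw [h, A.add, h, A.add, h', fc', add_assoc, h2, add_zero]
      · right
        rw [h, A.add, h, A.add, h', fc', add_assoc, add_assoc c c' c', hcc, add_zero,
          add_comm c c', add_assoc c' c c, hc0, add_zero]
  have e : (u * w) ^ 4 = (u * w) * ((u * w) * ((u * w) * (u * w))) := by
    simp only [pow_succ, pow_zero, one_mul, mul_assoc]
  rw [e, A.mul (u * w), A.mul (u * w), A.mul (u * w) (u * w)]
  rcases key d with h | h
  · rw [h]
    rcases key d with h' | h'
    · exact h'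
    · rw [h]
  · rw [h, A.add, A.add, fc', fc', h, add_assoc, hcc, add_zero]

/-- **The core of (4)** -/
theorem Act.core (h2 : ∀ v : V, v + v = 0) {x k : X} {n s : V} (hx : ∀ d, act x d = d ∨ act x d = d + s)
    (hxs : act x s = s) (hxn : act x n = n + s) (hs : s ≠ 0) (hkn : act k n = n)
    (hk2 : act k (act k s) = s → act k s = s)
    (hstar : ∀ g h : X, (∀ d, act (((g * x * g⁻¹) * (h * x * h⁻¹)) ^ 4) d = d) →
      ∀ d, act (g * x * g⁻¹) d = act (h * x * h⁻¹) d) : act k s = s := by
  by_contra hne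
  -- the conjugates of `x` are transvections
  have hg : ∀ g d, act (g * x * g⁻¹) d = d ∨ act (g * x * g⁻¹) d = d + act g s := by
    intro g d
    rw [A.mul, A.mul]
    rcases hx (act g⁻¹ d) with h | h
    · left; rw [h, A.inv_r]
    · right; rw [h, A.add, A.inv_r]
  have hgs : ∀ g, act (g * x * g⁻¹) (act g s) = act g s := by
    intro g
    rw [A.mul, A.mul, A.inv_l, hxs]
  have hgn : ∀ g, act (g * x * g⁻¹) (act g n) = act g n + act g s := by
    intro g
    rw [A.mul, A.mul, A.inv_l, hxn, A.add]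
  have hgs0 : ∀ g, act g s ≠ 0 := fun g h => hs (A.inj (h.trans (A.zero g).symm))
  -- if `g x g⁻¹` fixes the centre of `h x h⁻¹` the two transvections are equal
  have L0 : ∀ g h, act (g * x * g⁻¹) (act h s) = act h s →
      ∀ d, act (g * x * g⁻¹) d = act (h * x * h⁻¹) d := fun g h hfix =>
    hstar g h (A.tv4 h2 (hg g) (hg h) (hgs g) (hgs h) hfix)
  have L1 : ∀ g h, act g s ≠ act h s → act (g * x * g⁻¹) (act h s) = act h s + act g s := by
    intro g h hgh
    rcases hg g (act h s) with h1 | h1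
    · exfalso
      have h3 := L0 g h h1 (act g n)
      rw [hgn] at h3
      rcases hg h (act g n) with h4 | h4
      · rw [h4] at h3
        exact hgs0 g (left_eq_add.1 h3.symm)
      · rw [h4] at h3
        exact hgh (add_left_cancel h3)
    · exact h1
  have hone : act 1 s = s := A.one s
  have hkk : act (k * k) s = act k (act k s) := A.mul _ _ _
  have n0 : act (1 : X) s ≠ act k s := by rw [hone]; exact fun h => hne h.symm
  have n1 : act (1 : X) s ≠ act (k * k) s := by
    rw [hone, hkk]; exact fun h => hne (hk2 h.symm)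
  have n2 : act k s ≠ act (k * k) s := by
    rw [hkk]; exact fun h => hne (A.inj h).symm
  have e1 : (1 : X) * x * 1⁻¹ = x := by group
  have x1 : act x (act k s) = act k s + s := by
    have := L1 1 k n0
    rwa [e1, hone] at this
  have x2 : act x (act (k * k) s) = act (k * k) s + s := by
    have := L1 1 (k * k) n1
    rwa [e1, hone] at this
  have y1 : act (k * x * k⁻¹) s = s + act k s := by
    have := L1 k 1 n0.symm
    rwa [hone] at this
  have y2 : act (k * x * k⁻¹) (act (k * k) s) = act (k * k) s + act k s := L1 k (k * k) n2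
  have z1 : act (k * k * x * (k * k)⁻¹) s = s + act (k * k) s := by
    have := L1 (k * k) 1 n1.symm
    rwa [hone] at this
  -- `x' x x'⁻¹ = x''`
  have hyy : ∀ d, act (k * x * k⁻¹)⁻¹ d = act (k * x * k⁻¹) d := by
    intro d
    have h1 : act (k * x * k⁻¹) (act (k * x * k⁻¹) d) = d := by
      rcases hg k d with h | h
      · rw [h, h]
      · rw [h, A.add, h, hgs, add_assoc, h2, add_zero]
    have h3 := A.inv_l (k * x * k⁻¹) (act (k * x * k⁻¹) d)
    rwa [h1] at h3
  have hu : ∀ d, act ((k * x * k⁻¹) * x * (k * x * k⁻¹)⁻¹) d = act (k * k * x * (k * k)⁻¹) d := by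
    refine L0 (k * x * k⁻¹) (k * k) ?_
    rw [A.mul, A.mul, hyy, y2, A.add, x2, x1]
    have e3 : act (k * k) s + s + (act k s + s) = act (k * k) s + act k s := by
      calc act (k * k) s + s + (act k s + s) = act (k * k) s + act k s + (s + s) := by abel
        _ = _ := by rw [h2, add_zero]
    rw [e3, A.add, y2, hgs, add_assoc, h2, add_zero]
  -- `a = n + s` is fixed by `x'` and `x''`
  have ya : act (k * x * k⁻¹) (n + s) = n + s := by
    have h3 := hgn k
    rw [hkn] at h3
    rw [A.add, h3, y1]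
    calc n + act k s + (s + act k s) = n + s + (act k s + act k s) := by abel
      _ = n + s := by rw [h2, add_zero]
  have hkkn : act (k * k) n = n := by rw [A.mul, hkn, hkn]
  have za : act (k * k * x * (k * k)⁻¹) (n + s) = n + s := by
    have h3 := hgn (k * k)
    rw [hkkn] at h3
    rw [A.add, h3, z1]
    calc n + act (k * k) s + (s + act (k * k) s) = n + s + (act (k * k) s + act (k * k) s) := by abel
      _ = n + s := by rw [h2, add_zero]
  have xa : act x (n + s) = n + s := by
    have h3 := hu (n + s)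
    rw [za, A.mul, A.mul, hyy, ya] at h3
    have h4 := congrArg (act (k * x * k⁻¹)⁻¹) h3
    rw [A.inv_l, hyy, ya] at h4
    exact h4
  rw [A.add, hxn, hxs, add_assoc, h2, add_zero] at xa
  exact hs (left_eq_add.1 xa)

end tv

/-! ### The 2-part of the induced group -/

/-- the property `hstar`, if a subgroup of index not divisible by 4 acts trivially -/
theorem Act.star {X V : Type*} [Group X] [Finite X] [AddCommGroup V] {act : X → V → V} (A : Act act)
    (h2 : ∀ v : V, v + v = 0) {T' : Subgroup X} (hT' : ¬ 4 ∣ T'.index) (hT : ∀ t ∈ T', ∀ d, act t d = d)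
    {x : X} {n s : V} (hx : ∀ d, act x d = d ∨ act x d = d + s) (hxs : act x s = s)
    (hxn : act x n = n + s) (hs : s ≠ 0) :
    ∀ g h : X, (∀ d, act (((g * x * g⁻¹) * (h * x * h⁻¹)) ^ 4) d = d) →
      ∀ d, act (g * x * g⁻¹) d = act (h * x * h⁻¹) d := by
  intro g h hgh
  let ρ : X →* Equiv.Perm V :=
    { toFun := fun g => ⟨act g, act g⁻¹, A.inv_l g, A.inv_r g⟩
      map_one' := Equiv.ext fun d => A.one d
      map_mul' := fun g h => Equiv.ext fun d => A.mul g h d }
  have hρ : ∀ g d, ρ g d = act g d := fun _ _ => rfl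
  have h4 : ¬ 4 ∣ Nat.card ρ.range := by
    intro h4
    rw [← Subgroup.index_ker] at h4
    refine hT' (h4.trans (index_dvd_of_le fun t ht => ?_))
    exact MonoidHom.mem_ker.2 (Equiv.ext fun d => hT t ht d)
  have hfin : Finite ρ.range := Set.finite_range ρ
  have hxx : ρ x * ρ x = 1 := by
    refine Equiv.ext fun d => ?_
    change act x (act x d) = d
    rcases hx d with h | h
    · rw [h, h]
    · rw [h, A.add, h, hxs, add_assoc, h2, add_zero]
  have hx1 : ρ x ≠ 1 := by
    intro h1
    have h3 : act x n = n := by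
      have := congrArg (fun f : Equiv.Perm V => f n) h1
      exact this
    rw [hxn] at h3
    exact hs (left_eq_add.1 h3.symm)
  have hc : ∀ g, ρ (g * x * g⁻¹) * ρ (g * x * g⁻¹) = 1 := by
    intro g
    rw [← map_mul]
    have e : g * x * g⁻¹ * (g * x * g⁻¹) = g * (x * x) * g⁻¹ := by group
    rw [e, map_mul, map_mul, map_mul, hxx, mul_one, ← map_mul, mul_inv_cancel, map_one]
  have hc1 : ∀ g, ρ (g * x * g⁻¹) ≠ 1 := by
    intro g h1
    apply hx1
    rw [map_mul, map_mul, mul_eq_one_iff_eq_inv, ← map_inv, inv_inv] at h1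
    exact mul_eq_left.1 h1
  have h5 := eq_of_pow h4 ⟨g * x * g⁻¹, rfl⟩ ⟨h * x * h⁻¹, rfl⟩
    (hc g) (hc h) (hc1 g) (hc1 h) (by
      rw [← map_mul, ← map_pow]
      exact Equiv.ext fun d => hgh d)
  intro d
  exact congrArg (fun f : Equiv.Perm V => f d) h5

/-! ### The configuration -/

universe u

variable {G : Type u} [Group G] [Finite G]

/-- a 2-element of `N` normalising the Sylow 2-subgroup `T` of `N` is in `T` -/
theorem mem_of_two {T N : Subgroup G} (hT : IsPGroup 2 T) (hTN : T ≤ N) (hd : ¬ 2 ∣ T.relIndex N) {y : G}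
    (hyN : y ∈ N) (hyT : y ∈ normalizer (T : Set G)) (hy : ∃ j : ℕ, y ^ 2 ^ j = 1) : y ∈ T := by
  have hf : Fact (Nat.Prime 2) := ⟨Nat.prime_two⟩
  obtain ⟨j, hj⟩ := hy
  have h1 : IsPGroup 2 (zpowers y) := by
    refine IsPGroup.of_card (n := (Nat.factorization (orderOf y)) 2) ?_
    rw [Nat.card_zpowers]
    obtain ⟨i, -, hi⟩ := (Nat.dvd_prime_pow Nat.prime_two).1 (orderOf_dvd_of_pow_eq_one hj)
    rw [hi, Nat.prime_two.factorization_pow]
    simp
  have h2 : IsPGroup 2 (zpowers y ⊔ T : Subgroup G) :=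
    IsPGroup.to_sup_of_normal_right' h1 hT (by rwa [zpowers_le])
  have h3 : zpowers y ⊔ T ≤ N := sup_le (by rwa [zpowers_le]) hTN
  have h4 : T.relIndex (zpowers y ⊔ T) ∣ T.relIndex N := by
    rw [← relIndex_mul_relIndex T (zpowers y ⊔ T) N le_sup_right h3]
    exact Dvd.intro _ rfl
  have h5 : T.relIndex (zpowers y ⊔ T) = 1 := by
    obtain ⟨i, hi⟩ := IsPGroup.iff_card.1 h2
    have h6 : T.relIndex (zpowers y ⊔ T) ∣ 2 ^ i := by
      rw [← hi]; exact relIndex_dvd_card _ _
    obtain ⟨k, -, hk⟩ := (Nat.dvd_prime_pow Nat.prime_two).1 h6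
    rcases Nat.eq_zero_or_pos k with rfl | hk0
    · simpa using hk
    · exfalso
      apply hd
      refine dvd_trans ?_ h4
      rw [hk]
      exact dvd_pow_self 2 hk0.ne'
  exact (relIndex_eq_one.1 h5) (mem_sup_left (mem_zpowers y))

section

variable {S : Sylow 2 G} {V₁ V₂ L₁ L₂ : Subgroup G} {M₁ : FiveMod V₁ L₁} {M₂ : FiveMod V₂ L₂} {h : G}
  (b : Z.Base S M₁ M₂ h) {V₀ : Subgroup G}
include b

/-- `N_G(T) ∩ C_G(n)` centralises `s`. -/
theorem norm_s (hV0S : ∀ v ∈ V₀, ∀ g ∈ (S : Subgroup G), g * v = v * g)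
    (hz : ∀ d ∈ zc ((S : Subgroup G) ⊓ centralizer ({M₁.e nn} : Set G)),
      ∃ v ∈ V₀, d = v ∨ d = v * M₁.e nn ∨ d = v * M₁.e aa ∨ d = v * M₁.e ss)
    {k : G} (hk : k ∈ normalizer (((S : Subgroup G) ⊓ centralizer ({M₁.e nn} : Set G) : Subgroup G) : Set G))
    (hkn : k * M₁.e nn = M₁.e nn * k) : k * M₁.e ss = M₁.e ss * k := by
  classical
  obtain ⟨x, hxS, hx⟩ := b.dih₁.exists_swap
  set T := (S : Subgroup G) ⊓ centralizer ({M₁.e nn} : Set G) with hTdef
  set X := normalizer (T : Set G) with hX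
  have hSX : (S : Subgroup G) ≤ X := b.dih₁.S_le_normalizer_T
  have hxX : x ∈ X := hSX hxS
  have hXD : ∀ g ∈ X, ∀ d ∈ zc T, g * d * g⁻¹ ∈ zc T := fun g hg d hd =>
    (mem_normalizer_iff.1 (MinSimple.VModule.normalizer_le_normalizer_zc T hg) d).1 hd
  let _ : CommGroup (zc T) := { (inferInstance : Group (zc T)) with
    mul_comm := fun x y => Subtype.ext (MinSimple.VModule.zc_comm T x x.2 y y.2) }
  let act : X → Additive (zc T) → Additive (zc T) := fun g d =>
    Additive.ofMul (⟨g * (Additive.toMul d : zc T) * (g : G)⁻¹, hXD g g.2 _ (Additive.toMul d).2⟩ : zc T)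
  have hact : ∀ (g : X) (d : zc T), act g (Additive.ofMul d) =
      Additive.ofMul (⟨g * d * (g : G)⁻¹, hXD g g.2 _ d.2⟩ : zc T) := fun _ _ => rfl
  have A : Act act :=
    { one := fun d => by
        refine congrArg Additive.ofMul (Subtype.ext ?_)
        change (1 : G) * ((Additive.toMul d : zc T) : G) * (1 : G)⁻¹ = ((Additive.toMul d : zc T) : G)
        rw [one_mul, inv_one, mul_one]
      mul := fun g g' d => by
        refine congrArg Additive.ofMul (Subtype.ext ?_)
        change ((g : G) * g') * ((Additive.toMul d : zc T) : G) * ((g : G) * g')⁻¹ =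
          g * (g' * ((Additive.toMul d : zc T) : G) * (g' : G)⁻¹) * (g : G)⁻¹
        group
      add := fun g d e => by
        refine congrArg Additive.ofMul (Subtype.ext ?_)
        change (g : G) * (((Additive.toMul d : zc T) : G) * ((Additive.toMul e : zc T) : G)) * (g : G)⁻¹ =
          (g * ((Additive.toMul d : zc T) : G) * (g : G)⁻¹) * (g * ((Additive.toMul e : zc T) : G) * (g : G)⁻¹)
        group }
  have h2 : ∀ v : Additive (zc T), v + v = 0 := by
    intro v
    refine congrArg Additive.ofMul (Subtype.ext ?_ : (Additive.toMul v : zc T) * Additive.toMul v = 1)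
    change ((Additive.toMul v : zc T) : G) * ((Additive.toMul v : zc T) : G) = 1
    rw [← pow_two]
    exact MinSimple.VModule.zc_sq T _ (Additive.toMul v).2
  have hnz : M₁.e nn ∈ zc T := b.dih₁.n_mem_zT
  have hsz : M₁.e ss ∈ zc T := b.dih₁.s_mem_zT
  let n' : Additive (zc T) := Additive.ofMul (⟨M₁.e nn, hnz⟩ : zc T)
  let s' : Additive (zc T) := Additive.ofMul (⟨M₁.e ss, hsz⟩ : zc T)
  let x' : X := ⟨x, hxX⟩
  have hs : s' ≠ 0 := fun h0 => s_ne M₁ (congrArg Subtype.val (Additive.ofMul.injective h0 :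
    (⟨M₁.e ss, hsz⟩ : zc T) = 1))
  have hmk : ∀ {d e : zc T}, (d : G) = e → Additive.ofMul d = Additive.ofMul e := fun h0 =>
    congrArg Additive.ofMul (Subtype.ext h0)
  have hxs : act x' s' = s' := hmk (Dih.tt_s hx)
  have hxn : act x' n' = n' + s' := by
    refine hmk ((Dih.tt_n hx).trans ?_)
    exact (ns M₁).symm
  have hx' : ∀ d, act x' d = d ∨ act x' d = d + s' := by
    intro d
    have hd := (Additive.toMul d : zc T).2
    obtain ⟨v, hv, h1⟩ := hz _ hd
    have hxv : x * v * x⁻¹ = v := by rw [hV0S v hv x hxS, mul_inv_cancel_right]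
    have hc : ∀ y, x * (v * y) * x⁻¹ = v * (x * y * x⁻¹) := by
      intro y
      calc x * (v * y) * x⁻¹ = (x * v * x⁻¹) * (x * y * x⁻¹) := by group
        _ = _ := by rw [hxv]
    rcases h1 with h1 | h1 | h1 | h1
    · left
      refine hmk ?_
      change x * ((Additive.toMul d : zc T) : G) * x⁻¹ = ((Additive.toMul d : zc T) : G)
      rw [h1]; exact hxv
    · right
      refine hmk ?_
      change x * ((Additive.toMul d : zc T) : G) * x⁻¹ = ((Additive.toMul d : zc T) : G) * M₁.e ss
      rw [h1, hc, Dih.tt_n hx, mul_assoc, ns]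
    · right
      refine hmk ?_
      change x * ((Additive.toMul d : zc T) : G) * x⁻¹ = ((Additive.toMul d : zc T) : G) * M₁.e ss
      rw [h1, hc, Dih.tt_a hx, mul_assoc, as]
    · left
      refine hmk ?_
      change x * ((Additive.toMul d : zc T) : G) * x⁻¹ = ((Additive.toMul d : zc T) : G)
      rw [h1, hc, Dih.tt_s hx]
  have hTX : T ≤ X := Subgroup.le_normalizer
  have hT' : ¬ 4 ∣ (T.subgroupOf X).index := by
    have e1 : T.relIndex X = T.relIndex S * (S : Subgroup G).relIndex X :=
      (relIndex_mul_relIndex T S X inf_le_left hSX).symm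
    have e2 : T.relIndex (S : Subgroup G) = 2 := by
      have h3 := card_mul_index (T.subgroupOf (S : Subgroup G))
      have h4 : Nat.card (T.subgroupOf (S : Subgroup G)) = Nat.card T :=
        Nat.card_congr (subgroupOfEquivOfLe inf_le_left).toEquiv
      rw [h4, b.card_S, mul_comm 2] at h3
      exact Nat.eq_of_mul_eq_mul_left Nat.card_pos h3
    have e3 := MinSimple.Basic.not_dvd_relIndex S hSX
    change ¬ 4 ∣ T.relIndex X
    rw [e1, e2]
    intro h4
    apply e3
    have h5 : 2 * 2 ∣ 2 * (S : Subgroup G).relIndex X := h4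
    exact Nat.dvd_of_mul_dvd_mul_left (by norm_num) h5
  have hT : ∀ t ∈ T.subgroupOf X, ∀ d, act t d = d := by
    intro t ht d
    refine hmk ?_
    change (t : G) * ((Additive.toMul d : zc T) : G) * (t : G)⁻¹ = ((Additive.toMul d : zc T) : G)
    rw [(MinSimple.VModule.mem_zc.1 (Additive.toMul d : zc T).2).2.1 t (mem_subgroupOf.1 ht),
      mul_inv_cancel_right]
  have hstar := A.star h2 hT' hT hx' hxs hxn hs
  let k' : X := ⟨k, hk⟩
  have hkn' : act k' n' = n' := by
    refine hmk ?_
    change k * M₁.e nn * k⁻¹ = M₁.e nn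
    rw [hkn, mul_inv_cancel_right]
  -- `k ^ r ∈ T` with `r` odd
  have hk2 : act k' (act k' s') = s' → act k' s' = s' := by
    intro h0
    obtain ⟨j, r, hr, hjr⟩ := Nat.exists_eq_two_pow_mul_odd (orderOf_pos k).ne'
    have hkr : k ^ r ∈ T := by
      refine mem_of_two (S.isPGroup'.to_le inf_le_left) inf_le_right b.not_dvd (pow_mem (mem_C.2 hkn) r)
        (pow_mem hk r) ⟨j, ?_⟩
      rw [← pow_mul, mul_comm, ← hjr, pow_orderOf_eq_one]
    have h1 : act (k' ^ r) s' = s' := hT _ (mem_subgroupOf.2 (by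
      rw [SubmonoidClass.coe_pow]; exact hkr)) _
    obtain ⟨i, hi⟩ := hr
    have h3 : ∀ i : ℕ, act (k' ^ (2 * i)) s' = s' := by
      intro i
      induction i with
      | zero => rw [mul_zero, pow_zero]; exact A.one _
      | succ i ih =>
        rw [mul_add, mul_one, pow_add, A.mul, pow_two, A.mul, h0, ih]
    rw [hi, pow_succ', A.mul, h3] at h1
    exact h1
  have h5 := A.core h2 hx' hxs hxn hs hkn' hk2 hstar
  have h6 : k * M₁.e ss * k⁻¹ = M₁.e ss :=
    congrArg (fun d : Additive (zc T) => ((Additive.toMul d : zc T) : G)) h5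
  rwa [mul_inv_eq_iff_eq_mul] at h6

/-- **(4)**: `a` is the only element of `a ^ C_G(n)` centralised by `T`. -/
theorem eq_a (hV0S : ∀ v ∈ V₀, ∀ g ∈ (S : Subgroup G), g * v = v * g)
    (hz : ∀ d ∈ zc ((S : Subgroup G) ⊓ centralizer ({M₁.e nn} : Set G)),
      ∃ v ∈ V₀, d = v ∨ d = v * M₁.e nn ∨ d = v * M₁.e aa ∨ d = v * M₁.e ss)
    {g : G} (hg : g * M₁.e nn = M₁.e nn * g)
    (hc : ∀ t ∈ (S : Subgroup G) ⊓ centralizer ({M₁.e nn} : Set G),
      t * (g * M₁.e aa * g⁻¹) = g * M₁.e aa * g⁻¹ * t) : g * M₁.e aa * g⁻¹ = M₁.e aa := by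
  set T := (S : Subgroup G) ⊓ centralizer ({M₁.e nn} : Set G) with hTdef
  set c := g * M₁.e aa * g⁻¹ with hcdef
  set Y := centralizer ({M₁.e nn} : Set G) ⊓ centralizer ({c} : Set G) with hY
  have hTp : IsPGroup 2 T := S.isPGroup'.to_le inf_le_left
  have hTY : T ≤ Y := le_inf inf_le_right fun t ht => mem_C.2 (hc t ht)
  have hd : ¬ 2 ∣ T.relIndex Y := by
    intro h2
    apply b.not_dvd
    refine dvd_trans h2 ?_
    rw [← relIndex_mul_relIndex T Y (centralizer ({M₁.e nn} : Set G)) hTY inf_le_left]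
    exact Dvd.intro _ rfl
  have hgT : cj g T ≤ Y := by
    rintro _ ⟨t, ht, rfl⟩
    change g * t * g⁻¹ ∈ Y
    have h1 : t * M₁.e nn = M₁.e nn * t := mem_C.1 ht.2
    have h3 := b.dih₁.T_comm_a ht
    have hg' : M₁.e nn = g * M₁.e nn * g⁻¹ := by rw [hg, mul_inv_cancel_right]
    refine mem_inf.2 ⟨mem_C.2 ?_, mem_C.2 ?_⟩
    · rw [hg']
      calc g * t * g⁻¹ * (g * M₁.e nn * g⁻¹) = g * (t * M₁.e nn) * g⁻¹ := by group
        _ = g * (M₁.e nn * t) * g⁻¹ := by rw [h1]
        _ = g * M₁.e nn * g⁻¹ * (g * t * g⁻¹) := by group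
    · calc g * t * g⁻¹ * (g * M₁.e aa * g⁻¹) = g * (t * M₁.e aa) * g⁻¹ := by group
        _ = g * (M₁.e aa * t) * g⁻¹ := by rw [h3]
        _ = g * M₁.e aa * g⁻¹ * (g * t * g⁻¹) := by group
  have hgTp : IsPGroup 2 (cj g T) := hTp.map _
  obtain ⟨k, hk, hkT⟩ := exists_conj_le_of_odd_relIndex hTp hd hgTp hgT
  have hkg : k * g ∈ normalizer (T : Set G) := by
    refine mem_normalizer_of_cj_le ?_
    rintro _ ⟨t, ht, rfl⟩
    change k * g * t * (k * g)⁻¹ ∈ T
    have h1 := hkT (g * t * g⁻¹) ⟨t, ht, rfl⟩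
    have e : k * g * t * (k * g)⁻¹ = k * (g * t * g⁻¹) * k⁻¹ := by group
    rwa [e]
  have hkn : k * M₁.e nn = M₁.e nn * k := mem_C.1 hk.1
  have hkc : k * c = c * k := mem_C.1 hk.2
  have h1 : k * g * M₁.e nn = M₁.e nn * (k * g) := by
    calc k * g * M₁.e nn = k * (g * M₁.e nn) := by group
      _ = k * M₁.e nn * g := by rw [hg]; group
      _ = M₁.e nn * (k * g) := by rw [hkn]; group
  have h3 := norm_s b hV0S hz hkg h1
  have h4 : k * g * M₁.e aa * (k * g)⁻¹ = M₁.e aa := by
    rw [mul_inv_eq_iff_eq_mul, ← ns M₁]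
    calc k * g * (M₁.e nn * M₁.e ss) = k * g * M₁.e nn * M₁.e ss := by group
      _ = M₁.e nn * (k * g * M₁.e ss) := by rw [h1]; group
      _ = M₁.e nn * M₁.e ss * (k * g) := by rw [h3]; group
  have h5 : k * g * M₁.e aa * (k * g)⁻¹ = c := by
    calc k * g * M₁.e aa * (k * g)⁻¹ = k * c * k⁻¹ := by rw [hcdef]; group
      _ = c := by rw [hkc, mul_inv_cancel_right]
  rw [← h5, h4]

end

end Cfsg.Agent.Omega.TTn.Z.Fus
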