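import Cfsg.Agent.Omega.TTn.Z.Align
import Cfsg.Agent.Omega.NSix.NoTk
import Cfsg.Agent.Omega.S5.OfEven
import Cfsg.Agent.Omega.F4Leaf.Def

/-!
# #15257: a labelled T-T pair with `n` not 2-central, `V_P = V₀ × A`, is a `Z.Base`

* `two_of_labZ` : the position `NoTk.Two` for `A`, `A₂ ^ y`;
* `exists_one_side`, `exists_base` : the normal form.
-/

set_option autoImplicit false
set_option linter.unusedSectionVars false

namespace Cfsg.Agent.Omega.TTn.Z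

open Subgroup Cfsg Cfsg.Agent.ZN Cfsg.Agent.ZN.ChoiceBase
open Cfsg.Agent.Omega.S5.Mod Cfsg.Agent.Omega.S5.TT
open Cfsg.Agent.Omega.S5.TT.Pos (na ns as sn n_ne s_ne a_ne n_ne_a n_ne_s a_ne_s e_sq' mem_C)
open Cfsg.Agent.Omega.S5.Def Cfsg.Agent.Omega.S5.Syl Cfsg.Agent.Omega.S5.Pair Cfsg.Agent.Omega.S5.Main
open Cfsg.Agent.Omega.F4Leaf.Def Cfsg.Agent.Omega.MinPar
open Cfsg.Agent.Omega.FrameFF (cv)
open scoped commutatorElement

universe u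

variable {G : Type u} [Group G]

/-! ### The position of `A` and `A₂ ^ y` -/

theorem _root_.Cfsg.Agent.Omega.F4Leaf.Def.Split.A_le_S [Finite G] {S : Sylow 2 G} {P A : Subgroup G} {m : ℕ}
    {ε : (Fin (2 ^ m + 1) → ZMod 2) → G} (h : Split (S : Subgroup G) P m A ε) (hP : IsParS (S : Subgroup G) P) :
    A ≤ (S : Subgroup G) :=
  NSix.NoTk.le_sylow S h.even.isPGroup (hP.le.trans h.even.le_normalizer)

theorem _root_.Cfsg.Agent.Omega.F4Leaf.Def.Split.A_le_P [Finite G] {S : Sylow 2 G} {P A : Subgroup G} {m : ℕ}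
    {ε : (Fin (2 ^ m + 1) → ZMod 2) → G} (h : Split (S : Subgroup G) P m A ε) (hP : IsParS (S : Subgroup G) P) :
    A ≤ P := (h.A_le_S hP).trans hP.le

/-- an offender `v a`, `v` centralising `V`: the transpositions are induced by the `a`'s -/
theorem side_of {n : ℕ} {ε : (Fin n → ZMod 2) → G} {W W' D V L : Subgroup G} (h : EvenSet n V L ε)
    (hW : W' ≤ W) (hD : D ≤ centralizer (V : Set G)) (hWD : ∀ w ∈ W, ∃ d ∈ D, ∃ a ∈ W', w = d * a)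
    (hs : Side W ε) : Side W' ε := by
  intro a ha
  obtain ⟨τ, h1, h2⟩ := hs a (hW ha)
  refine ⟨τ, h1, fun i hi => ⟨(h2 i hi).1, ?_⟩⟩
  obtain ⟨b, hb, h3⟩ := (h2 i hi).2
  obtain ⟨d, hd, a', ha', rfl⟩ := hWD b hb
  refine ⟨a', ha', ?_⟩
  have h4 : Acts ε d⁻¹ 1 := h.acts_one_iff.2 (inv_mem (hD hd))
  have h5 := h4.mul h3
  rwa [inv_mul_cancel_left, one_mul] at h5

section labZ

variable [Finite G] {S : Sylow 2 G} {P₁ P₂ : Subgroup G} {y : G} {m m' : ℕ} {A A₂ : Subgroup G}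
  {ε : (Fin (2 ^ m + 1) → ZMod 2) → G} {ε₂ : (Fin (2 ^ m' + 1) → ZMod 2) → G}

/-- `V₀' ^ y` centralises `V`, `V₀` centralises `V' ` -/
theorem two_of_labZ (hG : IsCharacteristicTwoType G) (hl : LabTwoZ S P₁ P₂ y m m' A ε A₂ ε₂) :
    NSix.NoTk.Two A (cj y A₂) P₁ (cj y P₂) (S : Subgroup G) ((y • S : Sylow 2 G) : Subgroup G) ε
      fun x => y * ε₂ x * y⁻¹ := by
  have hA : A ≤ zl (S : Subgroup G) P₁ := hl.split.A_le
  have hA₂ : A₂ ≤ zl (S : Subgroup G) P₂ := hl.split₂.A_le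
  have hcA : ∀ v ∈ cv (S : Subgroup G) P₁, ∀ s ∈ (S : Subgroup G), s * v = v * s := fun v hv s hs =>
    hl.split.comm (hl.pair.star₁.le hs) hv
  have hcA₂ : ∀ v ∈ cv (S : Subgroup G) P₂, ∀ s ∈ (S : Subgroup G), s * v = v * s := fun v hv s hs =>
    hl.split₂.comm (hl.pair.star₂.le hs) hv
  have hin : A ≤ cj y (S : Subgroup G) := hA.trans hl.ge
  have hin' : cj y A₂ ≤ (S : Subgroup G) := (cj_mono y hA₂).trans hl.le
  refine
    { even := hl.split.even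
      even' := hl.split₂.even.conj y
      le := hl.pair.star₁.le
      le' := by rw [NSix.NoTk.coe_smul]; exact cj_mono y hl.pair.star₂.le
      fix := hl.split.fix0
      fix' := by rw [NSix.NoTk.coe_smul]; exact NSix.NoTk.fix0_conj hl.split₂.fix0 y
      in' := hin'
      in_ := by rw [NSix.NoTk.coe_smul]; exact hin
      side := ?_
      side' := ?_ }
  · refine side_of hl.split.even (cj_mono y hA₂) (D := cj y (cv (S : Subgroup G) P₂)) ?_ ?_ hl.side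
    · rintro _ ⟨v, hv, rfl⟩
      refine mem_centralizer_iff.2 fun a ha => ?_
      have h1 : y⁻¹ * a * y ∈ (S : Subgroup G) := by rw [← mem_cj]; exact hin ha
      have h2 := hcA₂ v hv _ h1
      change a * (y * v * y⁻¹) = y * v * y⁻¹ * a
      calc a * (y * v * y⁻¹) = y * (y⁻¹ * a * y * v) * y⁻¹ := by group
        _ = y * (v * (y⁻¹ * a * y)) * y⁻¹ := by rw [h2]
        _ = y * v * y⁻¹ * a := by group
    · rintro _ ⟨w, hw, rfl⟩
      obtain ⟨v, hv, a, ha, rfl⟩ := hl.split₂.mul_eq hG hl.pair.star₂ hw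
      exact ⟨_, ⟨v, hv, rfl⟩, _, ⟨a, ha, rfl⟩, map_mul _ _ _⟩
  · refine side_of (hl.split₂.even.conj y) hA (D := cv (S : Subgroup G) P₁) ?_ ?_ hl.side₂
    · intro v hv
      refine mem_centralizer_iff.2 fun a ha => hcA v hv a (hin' ha)
    · intro w hw
      exact hl.split.mul_eq hG hl.pair.star₁ hw

/-- `[V, V'] = [A, A₂ ^ y]` -/
theorem comm_labZ (hG : IsCharacteristicTwoType G) (hl : LabTwoZ S P₁ P₂ y m m' A ε A₂ ε₂) :
    ⁅zl (S : Subgroup G) P₁, cj y (zl (S : Subgroup G) P₂)⁆ = ⁅A, cj y A₂⁆ := by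
  have hA : A ≤ zl (S : Subgroup G) P₁ := hl.split.A_le
  have hA₂ : A₂ ≤ zl (S : Subgroup G) P₂ := hl.split₂.A_le
  have hcA : ∀ v ∈ cv (S : Subgroup G) P₁, ∀ s ∈ (S : Subgroup G), s * v = v * s := fun v hv s hs =>
    hl.split.comm (hl.pair.star₁.le hs) hv
  have hcA₂ : ∀ v ∈ cv (S : Subgroup G) P₂, ∀ s ∈ (S : Subgroup G), s * v = v * s := fun v hv s hs =>
    hl.split₂.comm (hl.pair.star₂.le hs) hv
  refine le_antisymm ?_ (commutator_mono hA (cj_mono y hA₂))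
  rw [commutator_le]
  rintro v hv _ ⟨w, hw, rfl⟩
  obtain ⟨d, hd, a, ha, rfl⟩ := hl.split.mul_eq hG hl.pair.star₁ hv
  obtain ⟨d', hd', a', ha', rfl⟩ := hl.split₂.mul_eq hG hl.pair.star₂ hw
  change ⁅d * a, y * (d' * a') * y⁻¹⁆ ∈ _
  have hwS : y * (d' * a') * y⁻¹ ∈ (S : Subgroup G) := hl.le ⟨_, hw, rfl⟩
  have h1 : y * (d' * a') * y⁻¹ * d = d * (y * (d' * a') * y⁻¹) := hcA d hd _ hwS
  have haS : y⁻¹ * a * y ∈ (S : Subgroup G) := by rw [← mem_cj]; exact hl.ge (hA ha)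
  have h2 : y⁻¹ * a * y * d' = d' * (y⁻¹ * a * y) := hcA₂ d' hd' _ haS
  have h3 : a * (y * d' * y⁻¹) = y * d' * y⁻¹ * a := by
    calc a * (y * d' * y⁻¹) = y * (y⁻¹ * a * y * d') * y⁻¹ := by group
      _ = y * (d' * (y⁻¹ * a * y)) * y⁻¹ := by rw [h2]
      _ = y * d' * y⁻¹ * a := by group
  have h4 : d * a = a * d := (hl.split.comm (hl.split.A_le_P hl.pair.star₁ ha) hd).symm
  have h5 : d' * a' = a' * d' := (hl.split₂.comm (hl.split₂.A_le_P hl.pair.star₂ ha') hd').symm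
  have e : ⁅d * a, y * (d' * a') * y⁻¹⁆ = ⁅a, y * a' * y⁻¹⁆ := by
    rw [commutatorElement_def, commutatorElement_def]
    calc d * a * (y * (d' * a') * y⁻¹) * (d * a)⁻¹ * (y * (d' * a') * y⁻¹)⁻¹ =
        a * (d * (y * (d' * a') * y⁻¹)) * d⁻¹ * a⁻¹ * (y * (d' * a') * y⁻¹)⁻¹ := by rw [h4]; group
      _ = a * (y * (d' * a') * y⁻¹ * d) * d⁻¹ * a⁻¹ * (y * (d' * a') * y⁻¹)⁻¹ := by rw [h1]
      _ = a * (y * (d' * a') * y⁻¹) * a⁻¹ * (y * (d' * a') * y⁻¹)⁻¹ := by group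
      _ = a * (y * (a' * d') * y⁻¹) * a⁻¹ * (y * (a' * d') * y⁻¹)⁻¹ := by rw [h5]
      _ = a * (y * a' * y⁻¹) * (y * d' * y⁻¹ * a * (y * d' * y⁻¹)⁻¹ )⁻¹ * (y * a' * y⁻¹)⁻¹ := by group
      _ = a * (y * a' * y⁻¹) * (a * (y * d' * y⁻¹) * (y * d' * y⁻¹)⁻¹ )⁻¹ * (y * a' * y⁻¹)⁻¹ := by rw [h3]
      _ = a * (y * a' * y⁻¹) * a⁻¹ * (y * a' * y⁻¹)⁻¹ := by group
  rw [e]
  exact commutator_mem_commutator ha ⟨a', ha', rfl⟩

end labZ

/-! ### One side of a T-T pair -/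

theorem exists_one_side [Finite G] {S : Sylow 2 G} {V L W : Subgroup G} (M : FiveMod V L)
    (hS : (S : Subgroup G) ≤ L) (hWS : W ≤ (S : Subgroup G)) {i j : Fin 5} (hij : i ≠ j)
    (hex : ∃ b ∈ W, M.Ind b (Equiv.swap i j)) (hall : ∀ b ∈ W, M.Ind b 1 ∨ M.Ind b (Equiv.swap i j)) :
    ∃ M' : FiveMod V L, Dih S M' ∧ (∀ w ∈ W, ∃ p, Tp p ∧ M'.Ind w p) ∧
      ∃ w ∈ W, M'.Ind w (Equiv.swap 0 1) := by
  obtain ⟨σ, hd, hd'⟩ := Cfsg.Agent.Omega.S5.Types.exists_relabel M S hS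
  have t : Dih S (M.relabel σ) := ⟨hS, hd, hd'⟩
  obtain ⟨w₀, hw₀, hi₀⟩ := hex
  have e0 : σ⁻¹ * Equiv.swap i j * σ = Equiv.swap (σ⁻¹ i) (σ⁻¹ j) := by
    rw [Equiv.swap_apply_apply, inv_inv]
  have hij' : σ⁻¹ i ≠ σ⁻¹ j := fun h => hij (σ⁻¹.injective h)
  obtain ⟨i', hi'⟩ : ∃ i', i' = σ⁻¹ i := ⟨_, rfl⟩
  obtain ⟨j', hj'⟩ : ∃ j', j' = σ⁻¹ j := ⟨_, rfl⟩
  rw [← hi', ← hj'] at e0 hij'
  have hp₀ : (M.relabel σ).Ind w₀ (Equiv.swap i' j') := by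
    have := FiveMod.relabel_ind σ hi₀
    rwa [e0] at this
  have hp₀d := hd w₀ (hWS hw₀) _ hp₀
  have hW : ∀ w ∈ W, (M.relabel σ).Ind w 1 ∨ (M.relabel σ).Ind w (Equiv.swap i' j') := by
    intro w hw
    rcases hall w hw with h1 | h1
    · left
      have := FiveMod.relabel_ind σ h1
      rwa [show σ⁻¹ * 1 * σ = (1 : Equiv.Perm (Fin 5)) by group] at this
    · right
      have := FiveMod.relabel_ind σ h1
      rwa [e0] at this
  rcases TTn.swap_d8 i' j' hij' hp₀d with h1 | h1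
  · rw [h1] at hW hp₀
    refine ⟨M.relabel σ, t, fun w hw => ?_, w₀, hw₀, hp₀⟩
    rcases hW w hw with h2 | h2
    · exact ⟨1, Or.inl rfl, h2⟩
    · exact ⟨_, Or.inr rfl, h2⟩
  · rw [h1] at hW hp₀
    have e : tt⁻¹ * Equiv.swap 2 3 * tt = (Equiv.swap 0 1 : Equiv.Perm (Fin 5)) := by decide
    refine ⟨(M.relabel σ).relabel tt, t.relabel, fun w hw => ?_, w₀, hw₀, ?_⟩
    · rcases hW w hw with h2 | h2
      · refine ⟨1, Or.inl rfl, ?_⟩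
        have := FiveMod.relabel_ind tt h2
        rwa [show tt⁻¹ * 1 * tt = (1 : Equiv.Perm (Fin 5)) by group] at this
      · refine ⟨_, Or.inr rfl, ?_⟩
        have := FiveMod.relabel_ind tt h2
        rwa [e] at this
    · have := FiveMod.relabel_ind tt hp₀
      rwa [e] at this

/-- **The normal form.** -/
theorem exists_base [Finite G] (hG : IsCharacteristicTwoType G) {S : Sylow 2 G} {P₁ P₂ : Subgroup G} {y : G}
    {A A₂ : Subgroup G} {ε ε₂ : (Fin (2 ^ 2 + 1) → ZMod 2) → G} (hl : LabTwoZ S P₁ P₂ y 2 2 A ε A₂ ε₂)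
    (hB₁ : ∀ M : FiveMod A P₁, Dih S M → ∀ b ∈ zc ((S : Subgroup G) ⊓ centralizer ({M.e nn} : Set G)),
      ∀ g ∈ (S : Subgroup G), g * b * g⁻¹ = b ∨ g * b * g⁻¹ = b * M.e ss)
    (hB₂ : ∀ M : FiveMod A₂ P₂, Dih S M → ∀ b ∈ zc ((S : Subgroup G) ⊓ centralizer ({M.e nn} : Set G)),
      ∀ g ∈ (S : Subgroup G), g * b * g⁻¹ = b ∨ g * b * g⁻¹ = b * M.e ss)
    (hC : ¬ Cen (zl (S : Subgroup G) P₁) (cj y (zl (S : Subgroup G) P₂))) :
    ∃ (g k : G) (M₁ : FiveMod A P₁) (M₂ : FiveMod (cj g A₂) (cj g P₂)),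
      (∀ x ∈ (S : Subgroup G), g * x * g⁻¹ ∈ (S : Subgroup G)) ∧ Base S M₁ M₂ k := by
  have h2 := two_of_labZ hG hl
  have hcomm := comm_labZ hG hl
  have hS : (S : Subgroup G) ≤ P₁ := hl.pair.star₁.le
  have hS₂ : (S : Subgroup G) ≤ P₂ := hl.pair.star₂.le
  have hne : ⁅A, cj y A₂⁆ ≠ ⊥ := by
    rw [← hcomm]
    exact hl.pair.ne
  have hge : A ≤ cj y (S : Subgroup G) := hl.split.A_le.trans hl.ge
  -- the first side
  obtain ⟨i, j, hij, hex, hall⟩ := NSix.NoTk.acts_one_or hG le_rfl le_rfl h2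
    (fun h0 => hne (by rw [commutator_comm]; exact commutator_eq_bot_iff_le_centralizer.2 h0))
  obtain ⟨M₁, s₁, a₁, e₁⟩ := exists_one_side (S := S) (S5.OfEven.ofEven hl.split.even) hS h2.in' hij hex hall
  -- the second side
  obtain ⟨i', j', hij', ⟨b', hb', hb''⟩, hall'⟩ := NSix.NoTk.acts_one_or hG le_rfl le_rfl h2.symm
    (fun h0 => hne (commutator_eq_bot_iff_le_centralizer.2 h0))
  have hconj : ∀ (b : G) (p : Equiv.Perm (Fin 5)), Acts (fun x => y * ε₂ x * y⁻¹) b p →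
      (S5.OfEven.ofEven hl.split₂.even).Ind (y⁻¹ * b * y) p := by
    intro b p hp
    rw [S5.OfEven.ofEven_ind]
    rw [← acts_conj_label_iff y]
    have e : y * (y⁻¹ * b * y) * y⁻¹ = b := by group
    rw [e]
    exact hp
  have hAy : cj y⁻¹ A ≤ (S : Subgroup G) := by rw [cj_le_iff, inv_inv]; exact hge
  obtain ⟨M₂, s₂, a₂, e₂⟩ := exists_one_side (S := S) (W := cj y⁻¹ A) (S5.OfEven.ofEven hl.split₂.even) hS₂ hAy
    hij' ⟨y⁻¹ * b' * y, ⟨b', hb', by simp⟩, hconj _ _ hb''⟩ (by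
      rintro _ ⟨b, hb, rfl⟩
      change (S5.OfEven.ofEven hl.split₂.even).Ind (y⁻¹ * b * y⁻¹⁻¹) 1 ∨
        (S5.OfEven.ofEven hl.split₂.even).Ind (y⁻¹ * b * y⁻¹⁻¹) _
      rw [inv_inv]
      exact (hall' b hb).imp (hconj _ _) (hconj _ _))
  -- `y n₂ y⁻¹ = n`
  have a₂' : ∀ v ∈ A, ∃ p, Tp p ∧ (M₂.cj y).Ind v p := by
    intro v hv
    obtain ⟨p, hp, hi⟩ := a₂ (y⁻¹ * v * y) (by rw [mem_cj, inv_inv]; convert hv using 1; group)
    refine ⟨p, hp, ?_⟩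
    have h1 := M₂.cj_ind (g := y) hi
    rwa [show y * (y⁻¹ * v * y) * y⁻¹ = v by group] at h1
  have hn : y * M₂.e nn * y⁻¹ = M₁.e nn := TTn.comm_eq (M := M₁) (M' := M₂.cj y) e₁ a₂'
  have nc : ∀ P : Sylow 2 G, ¬ (P : Subgroup G) ≤ centralizer ({M₁.e nn} : Set G) := by
    intro P hP
    refine hC ⟨P, ?_⟩
    rw [hcomm]
    exact TTn.comm_le a₁ hP
  obtain ⟨g, k, hy, hgS, hk, hgn, hga⟩ := exists_align s₁ s₂ hn nc (hB₁ M₁ s₁) (hB₂ M₂ s₂)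
  refine ⟨g, k, M₁, M₂.cj g, hgS, hG, s₁, s₂.cj hgS, hgn.symm, hga.symm, hk, ?_, ?_, ?_, nc⟩
  · rw [cj_cj, ← hy]
    exact a₁
  · intro v hv
    obtain ⟨p, hp, hi⟩ := a₂' v hv
    refine ⟨p, hp, fun x => ?_⟩
    have h1 := hi x
    rw [M₂.cj_e, M₂.cj_e] at h1
    change v * (k * (g * M₂.e x * g⁻¹) * k⁻¹) * v⁻¹ = k * (g * M₂.e (x ∘ p.symm) * g⁻¹) * k⁻¹
    calc v * (k * (g * M₂.e x * g⁻¹) * k⁻¹) * v⁻¹ = v * (y * M₂.e x * y⁻¹) * v⁻¹ := by rw [hy]; group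
      _ = y * M₂.e (x ∘ p.symm) * y⁻¹ := h1
      _ = k * (g * M₂.e (x ∘ p.symm) * g⁻¹) * k⁻¹ := by rw [hy]; group
  · rw [cj_cj, ← hy]
    exact e₁

end Cfsg.Agent.Omega.TTn.Z
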