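import Cfsg.Agent.Omega.TTn.Z.Base
import Cfsg.Agent.Omega.TT.Main

/-!
# #15257 (2) for `n` not 2-central: `V ≤ O₂(C_G(s))` if `V₀ ≠ 1` (THEOREM E)
-/

set_option autoImplicit false
set_option linter.unusedSectionVars false

namespace Cfsg.Agent.Omega.TTn.Z.QsLarge

open Subgroup Cfsg Cfsg.Agent.ZN Cfsg.Agent.ZN.ChoiceBase
open Cfsg.Agent.Omega.S5.Mod Cfsg.Agent.Omega.S5.TT
open Cfsg.Agent.Omega.S5.TT.Pos (na ns as sn n_ne s_ne a_ne n_ne_a n_ne_s a_ne_s e_sq' mem_C)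
open Cfsg.Agent.MinSimple.VModule (o2_isPGroup le_o2 o2_le le_normalizer_o2 o2_le_of_sylow)

/-- weight 1, weight 2, or trivial -/
theorem trich : ∀ x : Vec, (x = 0 ∨ x = 1) ∨ (∃ i, x = Pi.single i 1 ∨ x = Pi.single i 1 + 1) ∨
    ∃ i j : Fin 5, nn ∘ (Equiv.swap 0 i * Equiv.swap 1 j : Equiv.Perm (Fin 5)).symm = x ∨
      nn ∘ (Equiv.swap 0 i * Equiv.swap 1 j : Equiv.Perm (Fin 5)).symm = x + 1 := by
  decide +kernel

universe u

variable {G : Type u} [Group G]

variable {S : Sylow 2 G} {V L : Subgroup G} {M : FiveMod V L}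

/-- the points -/
def pt (M : FiveMod V L) (i : Fin 5) : G := M.e (Pi.single i 1)

theorem pt_conj {g : G} {p : Equiv.Perm (Fin 5)} (hg : M.Ind g p) (i : Fin 5) :
    g * pt M i * g⁻¹ = pt M (p i) := by
  rw [pt, hg, FiveMod.single_comp]
  rfl

theorem vec_eq : ∀ x : Vec, x = (x 0) • (Pi.single 0 1 : Vec) + (x 1) • (Pi.single 1 1 : Vec) +
    (x 2) • (Pi.single 2 1 : Vec) + (x 3) • (Pi.single 3 1 : Vec) + (x 4) • (Pi.single 4 1 : Vec) := by
  decide +kernel

theorem gen (M : FiveMod V L) : V = closure (Set.range (pt M)) := by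
  refine le_antisymm (fun v hv => ?_) ((closure_le _).2 ?_)
  · obtain ⟨x, rfl⟩ := (M.mem_iff v).1 hv
    have h1 : ∀ (c : ZMod 2) (i : Fin 5), M.e (c • (Pi.single i 1 : Vec)) ∈ closure (Set.range (pt M)) := by
      intro c i
      have hc : ∀ c : ZMod 2, c = 0 ∨ c = 1 := by decide
      rcases hc c with rfl | rfl
      · rw [zero_smul, M.e_zero]; exact one_mem _
      · rw [one_smul]; exact subset_closure ⟨i, rfl⟩
    rw [vec_eq x, M.e_add, M.e_add, M.e_add, M.e_add]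
    exact mul_mem (mul_mem (mul_mem (mul_mem (h1 _ _) (h1 _ _)) (h1 _ _)) (h1 _ _)) (h1 _ _)
  · rintro _ ⟨i, rfl⟩
    exact M.e_mem _

theorem pt_inj : Function.Injective (pt M) := by
  intro i j hij
  exact FiveMod.single_inj i j (M.e_eq_iff.1 hij)

/-- `N_G(V)` permutes the points if `n` is not 2-central. -/
theorem perm (t : Z.Dih S M) (nc : ∀ P : Sylow 2 G, ¬ (P : Subgroup G) ≤ centralizer ({M.e nn} : Set G))
    {g : G} (hg : g ∈ normalizer (V : Set G)) : ∃ σ : Equiv.Perm (Fin 5), TT.Act (pt M) g σ := by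
  have key : ∀ i, ∃ j, g * pt M i * g⁻¹ = pt M j := by
    intro i
    have h1 : g * pt M i * g⁻¹ ∈ V := (mem_normalizer_iff.1 hg _).1 (M.e_mem _)
    obtain ⟨x, hx⟩ := (M.mem_iff _).1 h1
    rcases trich x with h2 | ⟨j, h2⟩ | ⟨j, k, h2⟩
    · exfalso
      rw [(M.ker x).2 h2] at hx
      have h3 : pt M i = 1 := by
        have := congrArg (fun y => g⁻¹ * y * g) hx
        simpa [mul_assoc] using this.symm
      have h4 := (M.ker _).1 h3
      revert h4
      fin_cases i <;> decide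
    · exact ⟨j, by rw [← hx]; exact M.e_eq_iff.2 h2⟩
    · exfalso
      obtain ⟨l, -, hl⟩ := M.exists_lift (Equiv.swap 0 j * Equiv.swap 1 k)
      have hl : M.Ind l _ := hl
      obtain ⟨r, -, hr⟩ := M.exists_lift (Equiv.swap i 4)
      have hr : M.Ind r _ := hr
      -- `l n l⁻¹ = M.e x = g (pt i) g⁻¹`, `pt i = r (pt 4) r⁻¹`
      have e1 : l * M.e nn * l⁻¹ = M.e x := by rw [hl, M.e_eq_iff]; exact h2
      have e2 : r * M.e ss * r⁻¹ = pt M i := by
        have h3 := pt_conj hr 4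
        rw [Equiv.swap_apply_right] at h3
        have e3 : (ss : Vec) = Pi.single 4 1 := by decide
        rw [e3]; exact h3
      have e3 : (l⁻¹ * g * r) * M.e ss * (l⁻¹ * g * r)⁻¹ = M.e nn := by
        calc (l⁻¹ * g * r) * M.e ss * (l⁻¹ * g * r)⁻¹ = l⁻¹ * (g * (r * M.e ss * r⁻¹) * g⁻¹) * l := by group
          _ = l⁻¹ * (l * M.e nn * l⁻¹) * l := by rw [e2, ← hx, e1]
          _ = M.e nn := by group
      refine nc ((l⁻¹ * g * r) • S) ?_
      rintro _ ⟨y, hy, rfl⟩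
      refine mem_C.2 ?_
      change (l⁻¹ * g * r) * y * (l⁻¹ * g * r)⁻¹ * M.e nn = M.e nn * ((l⁻¹ * g * r) * y * (l⁻¹ * g * r)⁻¹)
      have h4 := t.S_comm hy
      rw [← e3]
      set w := l⁻¹ * g * r
      calc w * y * w⁻¹ * (w * M.e ss * w⁻¹) = w * (y * M.e ss) * w⁻¹ := by group
        _ = w * (M.e ss * y) * w⁻¹ := by rw [h4]
        _ = w * M.e ss * w⁻¹ * (w * y * w⁻¹) := by group
  choose j hj using key
  have hinj : Function.Injective j := by
    intro i i' h0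
    have h1 : g * pt M i * g⁻¹ = g * pt M i' * g⁻¹ := by rw [hj, hj, h0]
    exact pt_inj (mul_left_cancel (mul_right_cancel h1))
  exact ⟨Equiv.ofBijective j (Finite.injective_iff_bijective.1 hinj), hj⟩

theorem pts (t : Z.Dih S M) (nc : ∀ P : Sylow 2 G, ¬ (P : Subgroup G) ≤ centralizer ({M.e nn} : Set G)) :
    TT.Pts V (pt M) where
  gen := gen M
  sq _ := M.e_sq _
  comm _ _ := M.e_comm _ _
  prod := by
    simp only [pt]
    rw [← M.e_add, ← M.e_add, ← M.e_add, ← M.e_add,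
      show (Pi.single 0 1 + Pi.single 1 1 + Pi.single 2 1 + Pi.single 3 1 + Pi.single 4 1 : Vec) = 1 by decide,
      M.e_one]
  inj := pt_inj
  perm _ hg := perm t nc hg
  alt σ _ := by
    obtain ⟨g, hg, hi⟩ := M.exists_lift σ
    exact ⟨g, M.le_normalizer hg, fun i => pt_conj hi i⟩

/-- **(2)**: `V ≤ O₂(C_G(s))`. -/
theorem V_le_Qs [Finite G] (h2 : IsCharacteristicTwoType G) (t : Z.Dih S M)
    (nc : ∀ P : Sylow 2 G, ¬ (P : Subgroup G) ≤ centralizer ({M.e nn} : Set G)) {v : G}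
    (hvS : ∀ g ∈ (S : Subgroup G), g * v = v * g) (hvL : ∀ g ∈ L, g * v = v * g) (hv1 : v ≠ 1) :
    V ≤ Q (M.e ss) := by
  by_contra hne
  have e0 : (ss : Vec) = Pi.single 4 1 := by decide
  have hs : M.e ss = pt M 4 := by rw [e0]; rfl
  have hL := (pts t nc).large h2 S t.S_norm (k := 4) (by rw [← hs]; exact hne)
  rw [← hs] at hL
  have hQS : o2 (centralizer ({M.e ss} : Set G)) ≤ (S : Subgroup G) :=
    o2_le_of_sylow S.isPGroup' (MinSimple.Basic.not_dvd_relIndex S fun _ hg => mem_C.2 (t.S_comm hg))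
  have hvQ : ∀ y ∈ o2 (centralizer ({M.e ss} : Set G)), v * y = y * v := fun y hy => (hvS y (hQS hy)).symm
  have hvs : v * M.e ss = M.e ss * v := (hvS _ (t.V_le_S (M.e_mem _))).symm
  have h3 := hL.self v hvs hvQ
  rcases hL.cent v h3 hvQ with h4 | h4
  · exact hv1 h4
  · obtain ⟨l, hlL, hl⟩ := M.exists_lift (Equiv.swap 0 4)
    have hl : M.Ind l _ := hl
    have h5 := hvL l hlL
    rw [h4, hl.commute_iff] at h5
    revert h5
    decide

end Cfsg.Agent.Omega.TTn.Z.QsLarge
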