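import Cfsg.Agent.Omega.TTn.Z.OmT
import Cfsg.Agent.Omega.TTn.Z.Fus
import Cfsg.Agent.Omega.TTn.Z.BOne
import Cfsg.Agent.Omega.TTn.Z.Di
import Cfsg.Agent.Omega.TTn.Z.QsLarge

/-!
# #15257: assembly of (3) - (6) for T-T, `n` not 2-central, `V₀` arbitrary

`t : OmT.Dat S M V₀ Om`, `Ω₁(Z(T)) ≤ Om`:
* `zT`: `Ω₁(Z(T)) = V₀ {1, n, a, s}`; `heq`: `a` is the only element of `a ^ C_G(n)` centralised by `T`;
* `false_of_le`: `V ≤ Q_s` and `U_n ≤ Q_a` is impossible;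
* `false_of_inf`: `V ≤ Q_s` and `⋂ U_π = 1` is impossible;
* `le_Qs`: `V₀ ≠ 1` implies `V ≤ Q_s` ((2), THEOREM E).
-/

set_option autoImplicit false
set_option linter.unusedSectionVars false

namespace Cfsg.Agent.Omega.TTn.Z.Nc

open Subgroup Cfsg Cfsg.Agent.ZN Cfsg.Agent.ZN.ChoiceBase
open Cfsg.Agent.Omega.S5.Mod Cfsg.Agent.Omega.S5.TT
open Cfsg.Agent.Omega.S5.TT.Pos (na ns as sn n_ne s_ne a_ne n_ne_a n_ne_s a_ne_s e_sq' mem_C)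
open Cfsg.Agent.Omega.S5.ChiConst (cls)

universe u

variable {G : Type u} [Group G]

variable {S : Sylow 2 G} {V₁ V₂ L₁ L₂ : Subgroup G} {M₁ : FiveMod V₁ L₁} {M₂ : FiveMod V₂ L₂} {h : G}
  {V₀ Om : Subgroup G}

theorem zT (t : OmT.Dat S M₁ V₀ Om) (hOm : zc ((S : Subgroup G) ⊓ centralizer ({M₁.e nn} : Set G)) ≤ Om) :
    ∀ d ∈ zc ((S : Subgroup G) ⊓ centralizer ({M₁.e nn} : Set G)),
      ∃ v ∈ V₀, d = v ∨ d = v * M₁.e nn ∨ d = v * M₁.e aa ∨ d = v * M₁.e ss := fun _ hd =>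
  t.fixT (hOm hd) fun u hu => (MinSimple.VModule.mem_zc.1 hd).2.1 u hu

variable [Finite G]

theorem heq (b : Z.Base S M₁ M₂ h) (hV0S : ∀ v ∈ V₀, ∀ g ∈ (S : Subgroup G), g * v = v * g)
    (hz : ∀ d ∈ zc ((S : Subgroup G) ⊓ centralizer ({M₁.e nn} : Set G)),
      ∃ v ∈ V₀, d = v ∨ d = v * M₁.e nn ∨ d = v * M₁.e aa ∨ d = v * M₁.e ss) :
    ∀ c ∈ cls (centralizer ({M₁.e nn} : Set G)) (M₁.e aa),
      (∀ t ∈ (S : Subgroup G) ⊓ centralizer ({M₁.e nn} : Set G), t * c = c * t) → c = M₁.e aa := by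
  rintro _ ⟨g, hg, rfl⟩ hc
  exact Fus.eq_a b hV0S hz (mem_C.1 hg) hc

theorem hfix (b : Z.Base S M₁ M₂ h)
    (hz : ∀ d ∈ zc ((S : Subgroup G) ⊓ centralizer ({M₁.e nn} : Set G)),
      ∃ v ∈ V₀, d = v ∨ d = v * M₁.e nn ∨ d = v * M₁.e aa ∨ d = v * M₁.e ss) :
    ∀ u ∈ UU (M₁.e nn) (M₁.e aa), (∀ t ∈ (S : Subgroup G) ⊓ centralizer ({M₁.e nn} : Set G),
      t * u = u * t) → ∃ v ∈ V₀, u = v ∨ u = v * M₁.e nn ∨ u = v * M₁.e aa ∨ u = v * M₁.e ss := by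
  intro u hu hT
  refine hz u (MinSimple.VModule.mem_zc.2 ⟨b.Q_le_T (b.UU_le_Q hu), hT, ?_⟩)
  rw [pow_two]
  exact b.UU_sq hu

theorem hV0S (t : OmT.Dat S M₁ V₀ Om) : ∀ v ∈ V₀, ∀ g ∈ (S : Subgroup G), g * v = v * g :=
  fun v hv g hg => t.V0L g (t.dih.S_le hg) v hv

/-- **(5)** -/
theorem false_of_le (b : Z.Base S M₁ M₂ h) (t : OmT.Dat S M₁ V₀ Om)
    (hOm : zc ((S : Subgroup G) ⊓ centralizer ({M₁.e nn} : Set G)) ≤ Om)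
    (hV : V₁ ≤ Q (M₁.e ss)) (hU : UU (M₁.e nn) (M₁.e aa) ≤ Q (M₁.e aa)) : False :=
  BOne.false_of b (hV0S t) (fun v hv g hg => t.V0L g hg v hv) (hfix b (zT t hOm))
    (heq b (hV0S t) (zT t hOm)) hV hU

/-- **(6)** -/
theorem false_of_inf {V L : Subgroup G} {M : FiveMod V L} (b : Z.Base S M M h) (t : OmT.Dat S M V₀ Om)
    (hOm : zc ((S : Subgroup G) ⊓ centralizer ({M.e nn} : Set G)) ≤ Om)
    (hV : V ≤ Q (M.e ss)) (hI : ∀ x, (∀ i j, i ≠ j → x ∈ Cfsg.Agent.Omega.TTn.Di.UP M i j) → x = 1) : False :=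
  false_of_le b t hOm hV (Z.Di.di b hI)

/-- **(2)** -/
theorem le_Qs (b : Z.Base S M₁ M₂ h) (t : OmT.Dat S M₁ V₀ Om) (h0 : V₀ ≠ ⊥) : V₁ ≤ Q (M₁.e ss) := by
  obtain ⟨v, hv, hv1⟩ : ∃ v ∈ V₀, v ≠ 1 := by
    by_contra hne
    push Not at hne
    exact h0 ((Subgroup.eq_bot_iff_forall _).2 hne)
  exact QsLarge.V_le_Qs b.two b.dih₁ b.nc (hV0S t v hv) (fun g hg => t.V0L g hg v hv) hv1

/-- `U_n ≤ Q_a` is impossible if `V₀ ≠ 1`. -/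
theorem not_le (b : Z.Base S M₁ M₂ h) (t : OmT.Dat S M₁ V₀ Om)
    (hOm : zc ((S : Subgroup G) ⊓ centralizer ({M₁.e nn} : Set G)) ≤ Om) (h0 : V₀ ≠ ⊥) :
    ¬ UU (M₁.e nn) (M₁.e aa) ≤ Q (M₁.e aa) := fun hU => false_of_le b t hOm (le_Qs b t h0) hU

/-- the ten groups `U_π` have a common element `≠ 1` if `V₀ ≠ 1` -/
theorem exists_inf {V L : Subgroup G} {M : FiveMod V L} (b : Z.Base S M M h) (t : OmT.Dat S M V₀ Om)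
    (hOm : zc ((S : Subgroup G) ⊓ centralizer ({M.e nn} : Set G)) ≤ Om) (h0 : V₀ ≠ ⊥) :
    ∃ x, x ≠ 1 ∧ ∀ i j, i ≠ j → x ∈ Cfsg.Agent.Omega.TTn.Di.UP M i j := by
  by_contra hne
  push Not at hne
  refine false_of_inf b t hOm (le_Qs b t h0) fun x hx => ?_
  by_contra hx1
  obtain ⟨i, j, hij, h1⟩ := hne x hx1
  exact h1 (hx i j hij)

end Cfsg.Agent.Omega.TTn.Z.Nc
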