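import Cfsg.Agent.Omega.TTn.Z.Base
import Cfsg.Agent.Omega.TTn.DiCore

/-!
# #15257 (3): `Ω₁(Z(T)) = V₀ × E₄`
-/

set_option autoImplicit false
set_option linter.unusedSectionVars false

namespace Cfsg.Agent.Omega.TTn.Z.OmT

open Subgroup Cfsg Cfsg.Agent.ZN Cfsg.Agent.ZN.ChoiceBase
open Cfsg.Agent.Omega.S5.Mod Cfsg.Agent.Omega.S5.TT
open Cfsg.Agent.Omega.S5.TT.Pos (na ns as sn n_ne s_ne a_ne n_ne_a n_ne_s a_ne_s e_sq' mem_C)

/-- `(2 3 4)` -/
def cc : Equiv.Perm (Fin 5) := Equiv.swap 2 3 * Equiv.swap 3 4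

/-- the permutations used in the final count -/
def pp (i k : Fin 5) : Equiv.Perm (Fin 5) := Equiv.swap 0 i * Equiv.swap 1 k

/-- the combinatorial core of (3) -/
theorem combi (δ : Equiv.Perm (Fin 5) → ZMod 2) (ψ : Fin 5 → ZMod 2) (ε κ : ZMod 2)
    (hT : ∀ p q, TTp (p⁻¹ * q) → δ q = δ p) (htt : ∀ p, δ (p * tt) = δ p + 1)
    (hψ : ψ 0 + ψ 1 + ψ 2 + ψ 3 + ψ 4 = 0)
    (hz : ∀ p, (δ p + δ (p * cc) + δ (p * (cc * cc))) +
      (δ (p * tt) + δ (p * tt * cc) + δ (p * tt * (cc * cc))) = κ + ε * ψ (p 4)) : False := by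
  have h2 : (2 : ZMod 2) = 0 := rfl
  have hT' : ∀ p r s : Equiv.Perm (Fin 5), TTp (r⁻¹ * s) → δ (p * s) = δ (p * r) := by
    intro p r s h
    refine hT _ _ ?_
    have e : (p * r)⁻¹ * (p * s) = r⁻¹ * s := by group
    rw [e]; exact h
  have hP : ∀ q q' : Equiv.Perm (Fin 5), TTp (tt⁻¹ * q⁻¹ * q') → δ q' = δ q + 1 := by
    intro q q' h
    rw [← htt q]
    refine hT _ _ ?_
    have e : (q * tt)⁻¹ * q' = tt⁻¹ * q⁻¹ * q' := by group
    rw [e]; exact h
  set ν : Equiv.Perm (Fin 5) → ZMod 2 := fun p => δ p + δ (p * cc) + δ (p * (cc * cc)) +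
    ε * (ψ (p 0) + ψ (p 1)) with hν
  have hsum : ∀ p : Equiv.Perm (Fin 5), ψ (p 0) + ψ (p 1) + ψ (p 2) + ψ (p 3) + ψ (p 4) = 0 := by
    intro p
    have h1 := Equiv.sum_comp p ψ
    rw [Fin.sum_univ_five, Fin.sum_univ_five, hψ] at h1
    exact h1
  have hν01 : ∀ p, ν (p * Equiv.swap 0 1) = ν p := by
    intro p
    have e1 := hT' p 1 (Equiv.swap 0 1) (by decide)
    have e2 := hT' p cc (Equiv.swap 0 1 * cc) (by decide)
    have e3 := hT' p (cc * cc) (Equiv.swap 0 1 * (cc * cc)) (by decide)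
    simp only [hν, mul_assoc, Equiv.Perm.mul_apply, Equiv.swap_apply_left, Equiv.swap_apply_right]
    rw [e1, e2, e3, mul_one]
    ring
  have hν23 : ∀ p, ν (p * Equiv.swap 2 3) = ν p := by
    intro p
    have e1 := hT' p 1 (Equiv.swap 2 3) (by decide)
    have e2 := hT' p (cc * cc) (Equiv.swap 2 3 * cc) (by decide)
    have e3 := hT' p cc (Equiv.swap 2 3 * (cc * cc)) (by decide)
    simp only [hν, mul_assoc, Equiv.Perm.mul_apply,
      show (Equiv.swap 2 3 : Equiv.Perm (Fin 5)) 0 = 0 by decide,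
      show (Equiv.swap 2 3 : Equiv.Perm (Fin 5)) 1 = 1 by decide]
    rw [e1, e2, e3, mul_one]
    ring
  have hνc : ∀ p, ν (p * cc) = ν p := by
    intro p
    have e3 : p * (cc * (cc * cc)) = p := by
      rw [show cc * (cc * cc) = 1 by decide, mul_one]
    simp only [hν, mul_assoc, Equiv.Perm.mul_apply, show cc 0 = 0 by decide,
      show cc 1 = 1 by decide]
    rw [e3]
    ring
  have hνtt : ∀ p, ν (p * tt) = ν p + κ := by
    intro p
    have h1 := hz p
    have h3 := hsum p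
    simp only [hν, Equiv.Perm.mul_apply, show tt 0 = 2 by decide, show tt 1 = 3 by decide]
    linear_combination h1 + ε * h3 - (δ p + δ (p * cc) + δ (p * (cc * cc)) + ε * (ψ (p 0) + ψ (p 1))) * h2
  have hκ : κ = 0 := by
    have hr : ∀ p, ν (p * (tt * (cc * cc))) = ν p + κ := by
      intro p
      rw [← mul_assoc, ← mul_assoc, hνc, hνc, hνtt]
    have h5 : ν ((1 : Equiv.Perm (Fin 5)) * (tt * (cc * cc)) * (tt * (cc * cc)) * (tt * (cc * cc)) *
      (tt * (cc * cc)) * (tt * (cc * cc))) = ν 1 + κ + κ + κ + κ + κ := by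
      rw [hr, hr, hr, hr, hr]
    rw [show (1 : Equiv.Perm (Fin 5)) * (tt * (cc * cc)) * (tt * (cc * cc)) * (tt * (cc * cc)) *
      (tt * (cc * cc)) * (tt * (cc * cc)) = 1 by decide +kernel] at h5
    linear_combination (-1 : ZMod 2) * h5 - 2 * κ * h2
  have hνtt' : ∀ p, ν (p * tt) = ν p := by
    intro p
    rw [hνtt, hκ, add_zero]
  let H : Subgroup (Equiv.Perm (Fin 5)) :=
    { carrier := {q | ∀ p, ν (p * q) = ν p}
      one_mem' := fun p => by rw [mul_one]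
      mul_mem' := by
        intro a b ha hb p
        rw [← mul_assoc, hb, ha]
      inv_mem' := by
        intro a ha p
        have h1 := ha (p * a⁻¹)
        rw [inv_mul_cancel_right] at h1
        exact h1.symm }
  have m01 : Equiv.swap 0 1 ∈ H := hν01
  have m23 : Equiv.swap 2 3 ∈ H := hν23
  have mc : cc ∈ H := hνc
  have mt : tt ∈ H := hνtt'
  have m34 : Equiv.swap 3 4 ∈ H := by
    have h1 := H.mul_mem m23 mc
    rwa [show Equiv.swap 2 3 * cc = Equiv.swap 3 4 by decide] at h1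
  have m14 : Equiv.swap 1 4 ∈ H := by
    have h1 := H.mul_mem (H.mul_mem mt m34) (H.inv_mem mt)
    rwa [show tt * Equiv.swap 3 4 * tt⁻¹ = Equiv.swap 1 4 by decide] at h1
  have hH : H = ⊤ := perm_top m01 m14 (by rw [Equiv.swap_comm]; exact m34) (by rw [Equiv.swap_comm]; exact m23)
  obtain ⟨c0, hc0⟩ : ∃ c0, ∀ p, ν p = c0 := by
    refine ⟨ν 1, fun p => ?_⟩
    have h1 : p ∈ H := by rw [hH]; exact mem_top _
    have h3 := h1 1
    rwa [one_mul] at h3
  have hE : ∀ (p : Equiv.Perm (Fin 5)) (i j : Fin 5), p 0 = i → p 1 = j →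
      δ p + δ (p * cc) + δ (p * (cc * cc)) = c0 + ε * (ψ i + ψ j) := by
    intro p i j h0 h1
    have h3 := hc0 p
    simp only [hν] at h3
    rw [h0, h1] at h3
    linear_combination h3 - ε * (ψ i + ψ j) * h2
  have E0 := hE (pp 0 1) 0 1 (by decide) (by decide)
  have E1 := hE (pp 0 2) 0 2 (by decide) (by decide)
  have E2 := hE (pp 0 3) 0 3 (by decide) (by decide)
  have E3 := hE (pp 0 4) 0 4 (by decide) (by decide)
  have E4 := hE (pp 1 2) 1 2 (by decide) (by decide)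
  have E5 := hE (pp 1 3) 1 3 (by decide) (by decide)
  have E6 := hE (pp 1 4) 1 4 (by decide) (by decide)
  have E7 := hE (pp 2 3) 2 3 (by decide) (by decide)
  have E8 := hE (pp 2 4) 2 4 (by decide) (by decide)
  have E9 := hE (pp 3 4) 3 4 (by decide) (by decide)
  have P0 := hP (pp 0 1) (pp 2 3) (by decide)
  have P1 := hP (pp 0 1 * cc) (pp 3 4 * cc) (by decide)
  have P2 := hP (pp 0 1 * (cc * cc)) (pp 2 4 * (cc * cc)) (by decide)
  have P3 := hP (pp 0 2) (pp 1 3) (by decide)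
  have P4 := hP (pp 0 2 * cc) (pp 3 4) (by decide)
  have P5 := hP (pp 0 2 * (cc * cc)) (pp 1 4 * (cc * cc)) (by decide)
  have P6 := hP (pp 0 3) (pp 1 2) (by decide)
  have P7 := hP (pp 0 3 * cc) (pp 1 4 * cc) (by decide)
  have P8 := hP (pp 0 3 * (cc * cc)) (pp 2 4) (by decide)
  have P9 := hP (pp 0 4) (pp 2 3 * (cc * cc)) (by decide)
  have P10 := hP (pp 0 4 * cc) (pp 1 3 * cc) (by decide)
  have P11 := hP (pp 0 4 * (cc * cc)) (pp 1 2 * (cc * cc)) (by decide)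
  have P12 := hP (pp 1 2 * cc) (pp 3 4 * (cc * cc)) (by decide)
  have P13 := hP (pp 1 3 * (cc * cc)) (pp 2 4 * cc) (by decide)
  have P14 := hP (pp 1 4) (pp 2 3 * cc) (by decide)
  have hfin : (1 : ZMod 2) = 0 := by
    linear_combination (E0 + E1 + E2 + E3 + E4 + E5 + E6 + E7 + E8 + E9) - (P0 + P1 + P2 + P3 + P4 + P5 + P6 + P7 + P8 + P9 + P10 + P11 + P12 + P13 + P14) +
      (-(δ (pp 0 1) + δ (pp 0 1 * cc) + δ (pp 0 1 * (cc * cc)) + δ (pp 0 2) + δ (pp 0 2 * cc) + δ (pp 0 2 * (cc * cc)) + δ (pp 0 3) + δ (pp 0 3 * cc) + δ (pp 0 3 * (cc * cc)) + δ (pp 0 4) + δ (pp 0 4 * cc) + δ (pp 0 4 * (cc * cc)) + δ (pp 1 2 * cc) + δ (pp 1 3 * (cc * cc)) + δ (pp 1 4)) - 7 + 5 * c0 +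
        2 * ε * (ψ 0 + ψ 1 + ψ 2 + ψ 3 + ψ 4)) * h2
  exact one_ne_zero hfin

universe u

variable {G : Type u} [Group G]

/-- a linear functional on an elementary abelian 2-subgroup, not trivial on `v` -/
theorem exists_phi {Om : Subgroup G} (hc : ∀ x ∈ Om, ∀ y ∈ Om, x * y = y * x) (h2 : ∀ x ∈ Om, x * x = 1)
    {v : G} (hv : v ∈ Om) (hv1 : v ≠ 1) :
    ∃ φ : G → ZMod 2, (∀ x ∈ Om, ∀ y ∈ Om, φ (x * y) = φ x + φ y) ∧ φ v = 1 := by
  classical
  let _ : CommGroup Om := { (inferInstance : Group Om) with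
    mul_comm := fun x y => Subtype.ext (hc x x.2 y y.2) }
  let _ : Module (ZMod 2) (Additive Om) := AddCommGroup.zmodModule (n := 2) (fun x => by
    rw [two_nsmul]
    exact congrArg Additive.ofMul (Subtype.ext (h2 _ (Additive.toMul x).2) :
      Additive.toMul x * Additive.toMul x = 1))
  have hne : ¬ (Additive.ofMul (⟨v, hv⟩ : Om)) = 0 := fun h => hv1 (congrArg Subtype.val
    (Additive.ofMul.injective h : (⟨v, hv⟩ : Om) = 1))
  rw [← Module.forall_dual_apply_eq_zero_iff (ZMod 2)] at hne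
  push Not at hne
  obtain ⟨f, hf⟩ := hne
  refine ⟨fun g => if h : g ∈ Om then f (Additive.ofMul (⟨g, h⟩ : Om)) else 0, fun x hx y hy => ?_, ?_⟩
  · simp only [dif_pos hx, dif_pos hy, dif_pos (mul_mem hx hy)]
    rw [← map_add]
    rfl
  · simp only [dif_pos hv]
    have h01 : ∀ c : ZMod 2, c ≠ 0 → c = 1 := by decide
    exact h01 _ hf

/-- The configuration of (3). -/
structure Dat (S : Sylow 2 G) {A L : Subgroup G} (M : FiveMod A L) (V₀ Om : Subgroup G) : Prop where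
  dih : Z.Dih S M
  OmS : Om ≤ (S : Subgroup G)
  Omc : ∀ x ∈ Om, ∀ y ∈ Om, x * y = y * x
  Om2 : ∀ x ∈ Om, x * x = 1
  OmL : L ≤ normalizer (Om : Set G)
  AOm : A ≤ Om
  cen : ∀ g ∈ L, g ∈ centralizer (A : Set G) → ∀ x ∈ Om, g * x = x * g
  V0Om : V₀ ≤ Om
  V0L : ∀ g ∈ L, ∀ v ∈ V₀, g * v = v * g
  zS : ∀ z ∈ zc (S : Subgroup G), ∃ v ∈ V₀, z = v ∨ z = v * M.e ss

namespace Dat

variable {S : Sylow 2 G} {A L : Subgroup G} {M : FiveMod A L} {V₀ Om : Subgroup G} (t : Dat S M V₀ Om)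
include t

theorem conj_mem {g x : G} (hg : g ∈ L) (hx : x ∈ Om) : g * x * g⁻¹ ∈ Om :=
  (mem_normalizer_iff.1 (t.OmL hg) x).1 hx

/-- the action of `g ∈ L` on `Om` depends only on the permutation -/
theorem wd {g g' x : G} {p : Equiv.Perm (Fin 5)} (hg : g ∈ L) (hg' : g' ∈ L) (hp : M.Ind g p)
    (hp' : M.Ind g' p) (hx : x ∈ Om) : g * x * g⁻¹ = g' * x * g'⁻¹ := by
  have h1 : M.Ind (g'⁻¹ * g) 1 := by
    have h2 := hp'.inv.mul hp
    rwa [inv_mul_cancel] at h2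
  have h2 := t.cen _ (mul_mem (inv_mem hg') hg) (FiveMod.ind_one_iff.1 h1) x hx
  calc g * x * g⁻¹ = g' * (g'⁻¹ * g * x) * g⁻¹ := by group
    _ = g' * (x * (g'⁻¹ * g)) * g⁻¹ := by rw [h2]
    _ = g' * x * g'⁻¹ := by group

/-- **Key claim**: if `x ∈ S` induces `tt` and `[x, d] = v ∈ V₀` then `v = 1`. -/
theorem key {d x v : G} (hd : d ∈ Om)
    (hT : ∀ u ∈ (S : Subgroup G) ⊓ centralizer ({M.e nn} : Set G), u * d = d * u)
    (hxS : x ∈ (S : Subgroup G)) (hx : M.Ind x tt) (hv : v ∈ V₀) (hxd : x * d * x⁻¹ = d * v) :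
    v = 1 := by
  by_contra hv1
  obtain ⟨φ, hφ, hφv⟩ := exists_phi t.Omc t.Om2 (t.V0Om hv) hv1
  choose g hgL hgi using fun p : Equiv.Perm (Fin 5) => M.exists_lift p
  have hgi : ∀ p, M.Ind (g p) p := hgi
  set D : Equiv.Perm (Fin 5) → G := fun p => g p * d * (g p)⁻¹ with hD
  have hDm : ∀ p, D p ∈ Om := fun p => t.conj_mem (hgL p) hd
  have hDg : ∀ {y : G} {p : Equiv.Perm (Fin 5)}, y ∈ L → M.Ind y p → y * d * y⁻¹ = D p :=
    fun hy hp => t.wd hy (hgL _) hp (hgi _) hd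
  -- `y (D q) y⁻¹ = D (p q)`
  have hDD : ∀ {y : G} {p : Equiv.Perm (Fin 5)}, y ∈ L → M.Ind y p → ∀ q, y * D q * y⁻¹ = D (p * q) := by
    intro y p hy hp q
    rw [← hDg (mul_mem hy (hgL q)) (hp.mul (hgi q))]
    simp only [hD]
    group
  have hDT1 : ∀ q, TTp q → D q = d := by
    intro q hq
    obtain ⟨u, hu, hui⟩ := t.dih.d8' q (ttp_dd q hq)
    have h1 := hT u (Dih.mem_T_of_ind hu hq hui)
    rw [← hDg (t.dih.S_le hu) hui, h1, mul_inv_cancel_right]
  have hDT : ∀ p q, TTp (p⁻¹ * q) → D q = D p := by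
    intro p q h
    have h1 := hDD (hgL p) (hgi p) (p⁻¹ * q)
    rw [hDT1 _ h, mul_inv_cancel_left] at h1
    rw [← h1]
  have hDtt : D tt = d * v := by rw [← hxd, hDg (t.dih.S_le hxS) hx]
  have hDptt : ∀ p, D (p * tt) = D p * v := by
    intro p
    rw [← hDD (hgL p) (hgi p) tt, hDtt]
    have h1 := t.V0L _ (hgL p) v hv
    calc g p * (d * v) * (g p)⁻¹ = g p * d * (g p)⁻¹ * (g p * v) * (g p)⁻¹ := by group
      _ = g p * d * (g p)⁻¹ * (v * g p) * (g p)⁻¹ := by rw [h1]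
      _ = D p * v := by simp only [hD]; group
  set F : Equiv.Perm (Fin 5) → G := fun p => (D p * D (p * cc) * D (p * (cc * cc))) *
    (D (p * tt) * D (p * tt * cc) * D (p * tt * (cc * cc))) with hF
  have hFm : ∀ p, F p ∈ Om := fun p => mul_mem (mul_mem (mul_mem (hDm _) (hDm _)) (hDm _))
    (mul_mem (mul_mem (hDm _) (hDm _)) (hDm _))
  have hFF : ∀ {y : G} {p : Equiv.Perm (Fin 5)}, y ∈ L → M.Ind y p → y * F 1 * y⁻¹ = F p := by
    intro y p hy hp
    have e := hDD hy hp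
    have h1 : y * F 1 * y⁻¹ = ((y * D 1 * y⁻¹) * (y * D (1 * cc) * y⁻¹) * (y * D (1 * (cc * cc)) * y⁻¹)) *
      ((y * D (1 * tt) * y⁻¹) * (y * D (1 * tt * cc) * y⁻¹) * (y * D (1 * tt * (cc * cc)) * y⁻¹)) := by
      simp only [hF]; group
    rw [h1, e, e, e, e, e, e]
    simp only [hF, mul_assoc, mul_one, one_mul]
  have hFT : ∀ q, TTp q → F q = F 1 := by
    intro q hq
    have c1 : D (q * cc) * D (q * (cc * cc)) = D (1 * cc) * D (1 * (cc * cc)) := by
      rcases hq with rfl | rfl | rfl | rfl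
      · rfl
      · rw [hDT (1 * cc) (Equiv.swap 0 1 * cc) (by decide), hDT (1 * (cc * cc)) (Equiv.swap 0 1 * (cc * cc)) (by decide)]
      · rw [hDT (1 * (cc * cc)) (Equiv.swap 2 3 * cc) (by decide), hDT (1 * cc) (Equiv.swap 2 3 * (cc * cc)) (by decide)]
        exact t.Omc _ (hDm _) _ (hDm _)
      · rw [hDT (1 * (cc * cc)) (dd * cc) (by decide), hDT (1 * cc) (dd * (cc * cc)) (by decide)]
        exact t.Omc _ (hDm _) _ (hDm _)
    have c2 : D (q * tt * cc) * D (q * tt * (cc * cc)) = D (1 * tt * cc) * D (1 * tt * (cc * cc)) := by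
      rcases hq with rfl | rfl | rfl | rfl
      · rfl
      · rw [hDT (1 * tt * (cc * cc)) (Equiv.swap 0 1 * tt * cc) (by decide),
          hDT (1 * tt * cc) (Equiv.swap 0 1 * tt * (cc * cc)) (by decide)]
        exact t.Omc _ (hDm _) _ (hDm _)
      · rw [hDT (1 * tt * cc) (Equiv.swap 2 3 * tt * cc) (by decide),
          hDT (1 * tt * (cc * cc)) (Equiv.swap 2 3 * tt * (cc * cc)) (by decide)]
      · rw [hDT (1 * tt * (cc * cc)) (dd * tt * cc) (by decide),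
          hDT (1 * tt * cc) (dd * tt * (cc * cc)) (by decide)]
        exact t.Omc _ (hDm _) _ (hDm _)
    have c3 : D q = D 1 := hDT 1 q (by rw [inv_one, one_mul]; exact hq)
    have c4 : D (q * tt) = D (1 * tt) := by
      refine hDT _ _ ?_
      rcases hq with rfl | rfl | rfl | rfl <;> decide
    simp only [hF]
    rw [mul_assoc (D q), mul_assoc (D (q * tt)), c1, c2, c3, c4, ← mul_assoc (D 1), ← mul_assoc (D (1 * tt))]
  have hFx : F tt = F 1 := by
    have e1 : D (tt * tt) = D 1 := hDT _ _ (by decide)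
    have e2 : D (tt * tt * cc) = D (1 * cc) := hDT _ _ (by decide)
    have e3 : D (tt * tt * (cc * cc)) = D (1 * (cc * cc)) := hDT _ _ (by decide)
    simp only [hF]
    rw [e1, e2, e3, one_mul tt]
    exact t.Omc _ (mul_mem (mul_mem (hDm _) (hDm _)) (hDm _)) _ (mul_mem (mul_mem (hDm _) (hDm _)) (hDm _))
  -- `z := F 1 ∈ Ω₁(Z(S))`
  have hzx : x * F 1 = F 1 * x := by
    have h1 := hFF (t.dih.S_le hxS) hx
    rwa [hFx, mul_inv_eq_iff_eq_mul] at h1
  have hzT : ∀ u ∈ (S : Subgroup G) ⊓ centralizer ({M.e nn} : Set G), u * F 1 = F 1 * u := by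
    intro u hu
    obtain ⟨q, hq, hui⟩ := t.dih.T_ind hu
    have h1 := hFF (t.dih.S_le hu.1) hui
    rwa [hFT q hq, mul_inv_eq_iff_eq_mul] at h1
  have hz : F 1 ∈ zc (S : Subgroup G) := by
    refine MinSimple.VModule.mem_zc.2 ⟨t.OmS (hFm 1), fun b hb => ?_, ?_⟩
    · rcases t.dih.mem_or hxS hx hb with h4 | h4
      · exact hzT b h4
      · have h5 := hzT _ h4
        have h6 : b * F 1 * x = F 1 * b * x := by
          calc b * F 1 * x = b * (F 1 * x) := by group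
            _ = b * (x * F 1) := by rw [hzx]
            _ = b * x * F 1 := by group
            _ = F 1 * (b * x) := h5
            _ = F 1 * b * x := by group
        exact mul_right_cancel h6
    · rw [pow_two]; exact t.Om2 _ (hFm 1)
  obtain ⟨v₁, hv₁, hz1⟩ := t.zS _ hz
  have hz2 : ∃ ε : ZMod 2, ∀ p, φ (F p) = φ v₁ + ε * φ (M.e (Pi.single (p 4) 1)) := by
    have hc : ∀ p, g p * v₁ * (g p)⁻¹ = v₁ := by
      intro p
      rw [t.V0L _ (hgL p) v₁ hv₁, mul_inv_cancel_right]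
    rcases hz1 with h1 | h1
    · refine ⟨0, fun p => ?_⟩
      rw [← hFF (hgL p) (hgi p), h1, hc, zero_mul, add_zero]
    · refine ⟨1, fun p => ?_⟩
      have e1 : (ss : Vec) = Pi.single 4 1 := by decide
      have e2 : g p * (v₁ * M.e ss) * (g p)⁻¹ = v₁ * M.e (Pi.single (p 4) 1) := by
        calc g p * (v₁ * M.e ss) * (g p)⁻¹ = (g p * v₁ * (g p)⁻¹) * (g p * M.e ss * (g p)⁻¹) := by group
          _ = v₁ * M.e (Pi.single (p 4) 1) := by rw [hc, hgi p, e1, FiveMod.single_comp]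
      rw [← hFF (hgL p) (hgi p), h1, e2, hφ _ (t.V0Om hv₁) _ (t.AOm (M.e_mem _)), one_mul]
  obtain ⟨ε, hε⟩ := hz2
  refine combi (fun p => φ (D p)) (fun i => φ (M.e (Pi.single i 1))) ε (φ v₁) ?_ ?_ ?_ ?_
  · intro p q h
    simp only [hDT p q h]
  · intro p
    simp only [hDptt p]
    rw [hφ _ (hDm _) _ (t.V0Om hv), hφv]
  · have hm : ∀ y, M.e y ∈ Om := fun y => t.AOm (M.e_mem y)
    rw [← hφ _ (hm _) _ (hm _), ← M.e_add, ← hφ _ (hm _) _ (hm _), ← M.e_add, ← hφ _ (hm _) _ (hm _),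
      ← M.e_add, ← hφ _ (hm _) _ (hm _), ← M.e_add,
      show (Pi.single 0 1 + Pi.single 1 1 + Pi.single 2 1 + Pi.single 3 1 + Pi.single 4 1 : Vec) = 1 by decide,
      M.e_one]
    have h1 := hφ 1 (one_mem _) 1 (one_mem _)
    rw [mul_one] at h1
    have h3 : ∀ c : ZMod 2, c = c + c → c = 0 := by decide
    exact h3 _ h1
  · intro p
    rw [← hε p]
    simp only [hF]
    rw [hφ _ (mul_mem (mul_mem (hDm _) (hDm _)) (hDm _)) _ (mul_mem (mul_mem (hDm _) (hDm _)) (hDm _)),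
      hφ _ (mul_mem (hDm _) (hDm _)) _ (hDm _), hφ _ (hDm _) _ (hDm _),
      hφ _ (mul_mem (hDm _) (hDm _)) _ (hDm _), hφ _ (hDm _) _ (hDm _)]

/-- **(3)**: the elements of `Om` centralised by `T` are in `V₀ × {1, n, a, s}`. -/
theorem fixT {d : G} (hd : d ∈ Om)
    (hT : ∀ u ∈ (S : Subgroup G) ⊓ centralizer ({M.e nn} : Set G), u * d = d * u) :
    ∃ v ∈ V₀, d = v ∨ d = v * M.e nn ∨ d = v * M.e aa ∨ d = v * M.e ss := by
  obtain ⟨x, hxS, hx⟩ := t.dih.exists_swap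
  have hxL := t.dih.S_le hxS
  have hxx : x * x ∈ (S : Subgroup G) ⊓ centralizer ({M.e nn} : Set G) := by
    refine Dih.mem_T_of_ind (mul_mem hxS hxS) (p := tt * tt) (by decide) (hx.mul hx)
  -- if `x` centralises `d'` then `d' ∈ Ω₁(Z(S))`
  have hfix : ∀ d' ∈ Om, (∀ u ∈ (S : Subgroup G) ⊓ centralizer ({M.e nn} : Set G), u * d' = d' * u) →
      x * d' = d' * x → ∃ v ∈ V₀, d' = v ∨ d' = v * M.e ss := by
    intro d' hd' hT' hx'
    refine t.zS _ (MinSimple.VModule.mem_zc.2 ⟨t.OmS hd', fun b hb => ?_, by rw [pow_two]; exact t.Om2 _ hd'⟩)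
    rcases t.dih.mem_or hxS hx hb with h4 | h4
    · exact hT' b h4
    · have h5 := hT' _ h4
      have h6 : b * d' * x = d' * b * x := by
        calc b * d' * x = b * (d' * x) := by group
          _ = b * (x * d') := by rw [hx']
          _ = b * x * d' := by group
          _ = d' * (b * x) := h5
          _ = d' * b * x := by group
      exact mul_right_cancel h6
  set w := x * d * x⁻¹ * d with hw
  have hxd : x * d * x⁻¹ ∈ Om := t.conj_mem hxL hd
  have hwOm : w ∈ Om := mul_mem hxd hd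
  have hwx : x * w = w * x := by
    have h1 := hT _ hxx
    have h2 := t.Omc _ hxd _ hd
    calc x * w = (x * x * d) * x⁻¹ * x⁻¹ * (x * d) := by rw [hw]; group
      _ = (d * (x * x)) * x⁻¹ * x⁻¹ * (x * d) := by rw [h1]
      _ = d * (x * d * x⁻¹) * x := by group
      _ = w * x := by rw [← h2]
  have hwT : ∀ u ∈ (S : Subgroup G) ⊓ centralizer ({M.e nn} : Set G), u * w = w * u := by
    intro u hu
    have h1 := hT u hu
    have h2 : x⁻¹ * u * x ∈ (S : Subgroup G) ⊓ centralizer ({M.e nn} : Set G) := by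
      have h3 := t.dih.conj_T hxS hx hu
      have h4 := mul_mem (mul_mem (inv_mem hxx) h3) hxx
      have e : (x * x)⁻¹ * (x * u * x⁻¹) * (x * x) = x⁻¹ * u * x := by group
      rwa [e] at h4
    have h3 := hT _ h2
    calc u * w = x * (x⁻¹ * u * x * d) * x⁻¹ * d := by rw [hw]; group
      _ = x * (d * (x⁻¹ * u * x)) * x⁻¹ * d := by rw [h3]
      _ = x * d * x⁻¹ * (u * d) := by group
      _ = x * d * x⁻¹ * (d * u) := by rw [h1]
      _ = w * u := by rw [hw]; group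
  have hdd := t.Om2 d hd
  have hnT : ∀ u ∈ (S : Subgroup G) ⊓ centralizer ({M.e nn} : Set G), u * M.e nn = M.e nn * u :=
    fun u hu => mem_C.1 hu.2
  have hnOm : M.e nn ∈ Om := t.AOm (M.e_mem _)
  obtain ⟨v, hv, h1 | h1⟩ := hfix w hwOm hwT hwx
  · -- `[x, d] = v`
    have h2 : x * d * x⁻¹ = d * v := by
      have h3 : x * d * x⁻¹ * d * d = v * d := by rw [← hw, h1]
      rw [mul_assoc, hdd, mul_one] at h3
      rw [h3]
      exact t.Omc _ (t.V0Om hv) _ hd
    have h3 := t.key hd hT hxS hx hv h2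
    rw [h3, mul_one, mul_inv_eq_iff_eq_mul] at h2
    obtain ⟨v', hv', h4 | h4⟩ := hfix d hd hT h2
    · exact ⟨v', hv', Or.inl h4⟩
    · exact ⟨v', hv', Or.inr (Or.inr (Or.inr h4))⟩
  · -- `[x, d n] = v`
    have hdn : d * M.e nn ∈ Om := mul_mem hd hnOm
    have hdnT : ∀ u ∈ (S : Subgroup G) ⊓ centralizer ({M.e nn} : Set G),
        u * (d * M.e nn) = d * M.e nn * u := by
      intro u hu
      rw [← mul_assoc, hT u hu, mul_assoc, hnT u hu, mul_assoc]
    have h2 : x * (d * M.e nn) * x⁻¹ = d * M.e nn * v := by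
      have h3 : x * d * x⁻¹ = v * M.e ss * d := by
        have h3 : x * d * x⁻¹ * d * d = v * M.e ss * d := by rw [← hw, h1]
        rwa [mul_assoc, hdd, mul_one] at h3
      have h4 : M.e ss * (d * M.e aa) = d * M.e nn := by
        calc M.e ss * (d * M.e aa) = M.e ss * d * M.e aa := by group
          _ = d * M.e ss * M.e aa := by rw [t.Omc _ (t.AOm (M.e_mem _)) _ hd]
          _ = d * (M.e ss * M.e aa) := by group
          _ = d * M.e nn := by rw [M.e_comm, as]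
      calc x * (d * M.e nn) * x⁻¹ = (x * d * x⁻¹) * (x * M.e nn * x⁻¹) := by group
        _ = v * (M.e ss * (d * M.e aa)) := by rw [h3, Dih.tt_n hx]; group
        _ = d * M.e nn * v := by rw [h4]; exact t.Omc _ (t.V0Om hv) _ hdn
    have h3 := t.key hdn hdnT hxS hx hv h2
    rw [h3, mul_one, mul_inv_eq_iff_eq_mul] at h2
    obtain ⟨v', hv', h4 | h4⟩ := hfix _ hdn hdnT h2
    · refine ⟨v', hv', Or.inr (Or.inl ?_)⟩
      rw [← h4, mul_assoc, M.e_sq, mul_one]
    · refine ⟨v', hv', Or.inr (Or.inr (Or.inl ?_))⟩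
      have h5 : d = d * M.e nn * M.e nn := by rw [mul_assoc, M.e_sq, mul_one]
      rw [h5, h4, mul_assoc, sn]

end Dat

end Cfsg.Agent.Omega.TTn.Z.OmT
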