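import Mathlib

/-!
# THEOREM 2 of #17653 (helper79), linear algebra

`Γ` a group of automorphisms of the `F₂`-space `U`, `O₂(Γ) = 1`; `A ≤ Γ` abelian, fixing `a`, normalised by `C_Γ(a)`.
A transvection `t ∈ A` with centre `z ≠ 0` such that elements `w_a`, `w_b` of `C_Γ(z)` permute the transpositions
`a`, `b`, `a + b` does not exist (`Dat.false`).
-/

set_option autoImplicit false
set_option linter.unusedSectionVars false

namespace Cfsg.Agent.Omega.TTn.Z.TransD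

variable {U : Type*} [AddCommGroup U] [Module (ZMod 2) U]

theorem z2 (c : ZMod 2) : c = 0 ∨ c = 1 := by revert c; decide

theorem zz (c : ZMod 2) : c + c = 0 := by revert c; decide

theorem uu (u : U) : u + u = 0 := by
  have h : (2 : ZMod 2) • u = 0 := by
    rw [show (2 : ZMod 2) = 0 by decide, zero_smul]
  rwa [two_smul] at h

/-- `γ` is the transvection `(y, f)`. -/
def IsT (γ : U ≃ₗ[ZMod 2] U) (y : U) (f : U →ₗ[ZMod 2] ZMod 2) : Prop := ∀ u, γ u = u + f u • y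

theorem IsT.self {γ : U ≃ₗ[ZMod 2] U} {y : U} {f : U →ₗ[ZMod 2] ZMod 2} (h : IsT γ y f) (hy : y ≠ 0) : f y = 0 := by
  rcases z2 (f y) with h1 | h1
  · exact h1
  · exfalso
    have h2 := h y
    rw [h1, one_smul, uu] at h2
    exact hy ((LinearEquiv.map_eq_zero_iff γ).1 h2)

theorem IsT.sq {γ : U ≃ₗ[ZMod 2] U} {y : U} {f : U →ₗ[ZMod 2] ZMod 2} (h : IsT γ y f) (hy : f y = 0) : γ * γ = 1 := by
  ext u
  rw [LinearEquiv.mul_apply, h (γ u), h u, map_add, map_smul, hy, smul_zero, add_zero, add_assoc, uu, add_zero]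
  rfl

theorem IsT.inv {γ : U ≃ₗ[ZMod 2] U} {y : U} {f : U →ₗ[ZMod 2] ZMod 2} (h : IsT γ y f) (hy : f y = 0) : γ⁻¹ = γ :=
  inv_eq_of_mul_eq_one_left (h.sq hy)

theorem IsT.mul {γ δ : U ≃ₗ[ZMod 2] U} {y : U} {f g : U →ₗ[ZMod 2] ZMod 2} (h : IsT γ y f) (h' : IsT δ y g)
    (hy : f y = 0) : IsT (γ * δ) y (f + g) := by
  intro u
  rw [LinearEquiv.mul_apply, h' u, map_add, h u, LinearMap.add_apply, add_smul]
  rcases z2 (g u) with h1 | h1
  · rw [h1]; simp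
  · rw [h1, one_smul, h y, hy, zero_smul, add_zero, add_assoc]

/-- `(y + y', g) (y', g) = (y, g)` -/
theorem IsT.mul' {γ δ : U ≃ₗ[ZMod 2] U} {y y' : U} {g : U →ₗ[ZMod 2] ZMod 2} (h : IsT γ (y + y') g) (h' : IsT δ y' g)
    (_hy : g y = 0) (hy' : g y' = 0) : IsT (γ * δ) y g := by
  intro u
  rw [LinearEquiv.mul_apply, h' u, map_add, h u]
  rcases z2 (g u) with h1 | h1
  · rw [h1]; simp
  · rw [h1, one_smul, one_smul, one_smul, h y', hy', zero_smul, add_zero, add_assoc, add_assoc y, uu, add_zero]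

/-- conjugation by a transvection -/
theorem IsT.conj {γ τ : U ≃ₗ[ZMod 2] U} {y y' : U} {f g : U →ₗ[ZMod 2] ZMod 2} (h : IsT γ y g) (h' : IsT τ y' f)
    (hy : g y = 0) : IsT (γ * τ * γ⁻¹) (y' + g y' • y) (f + f y • g) := by
  intro u
  rw [h.inv hy, LinearEquiv.mul_apply, LinearEquiv.mul_apply, h u, h' _, map_add γ, h (u + g u • y), map_add f, map_smul f,
    map_add g, map_smul g, hy, smul_zero, add_zero, smul_eq_mul, LinearMap.add_apply, LinearMap.smul_apply,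
    smul_eq_mul]
  have h1 : u + g u • y + g u • y = u := by rw [add_assoc, uu, add_zero]
  rw [h1, mul_comm (f y)]
  congr 1
  have h2 : ∀ c : ZMod 2, γ (c • y') = c • (y' + g y' • y) := by
    intro c
    rcases z2 c with hc | hc
    · rw [hc, zero_smul, zero_smul, map_zero]
    · rw [hc, one_smul, one_smul, h y']
  exact h2 _

theorem IsT.conj' {γ τ : U ≃ₗ[ZMod 2] U} {y : U} {f : U →ₗ[ZMod 2] ZMod 2} (h : IsT τ y f) (g : U →ₗ[ZMod 2] ZMod 2)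
    (hg : ∀ u, g u = f (γ⁻¹ u)) : IsT (γ * τ * γ⁻¹) (γ y) g := by
  intro u
  rw [LinearEquiv.mul_apply, LinearEquiv.mul_apply, h _, map_add, hg]
  have h1 : γ (γ⁻¹ u) = u := by rw [← LinearEquiv.mul_apply, mul_inv_cancel]; rfl
  rw [h1]
  congr 1
  rcases z2 (f (γ⁻¹ u)) with h2 | h2
  · rw [h2, zero_smul, zero_smul, map_zero]
  · rw [h2, one_smul, one_smul]

/-- `f ∘ γ⁻¹` -/
def pull (γ : U ≃ₗ[ZMod 2] U) (f : U →ₗ[ZMod 2] ZMod 2) : U →ₗ[ZMod 2] ZMod 2 :=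
  f.comp ((γ⁻¹ : U ≃ₗ[ZMod 2] U) : U →ₗ[ZMod 2] U)

theorem pull_apply (γ : U ≃ₗ[ZMod 2] U) (f : U →ₗ[ZMod 2] ZMod 2) (u : U) : pull γ f u = f (γ⁻¹ u) := rfl

/-- the functionals of the transvections with centre `y` in `Γ` -/
def Phi (Γ : Subgroup (U ≃ₗ[ZMod 2] U)) (y : U) : Set (U →ₗ[ZMod 2] ZMod 2) := {f | ∃ γ ∈ Γ, IsT γ y f}

section Phi

variable {Γ : Subgroup (U ≃ₗ[ZMod 2] U)}

theorem Phi.self {y : U} (hy : y ≠ 0) {f : U →ₗ[ZMod 2] ZMod 2} (h : f ∈ Phi Γ y) : f y = 0 := by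
  obtain ⟨γ, -, h1⟩ := h
  exact h1.self hy

theorem Phi.add {y : U} (hy : y ≠ 0) {f g : U →ₗ[ZMod 2] ZMod 2} (h : f ∈ Phi Γ y) (h' : g ∈ Phi Γ y) :
    f + g ∈ Phi Γ y := by
  obtain ⟨γ, hγ, h1⟩ := h
  obtain ⟨δ, hδ, h2⟩ := h'
  exact ⟨γ * δ, mul_mem hγ hδ, h1.mul h2 (h1.self hy)⟩

theorem Phi.pull {y : U} {f : U →ₗ[ZMod 2] ZMod 2} (h : f ∈ Phi Γ y) {γ : U ≃ₗ[ZMod 2] U} (hγ : γ ∈ Γ) :
    pull γ f ∈ Phi Γ (γ y) := by
  obtain ⟨δ, hδ, h1⟩ := h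
  exact ⟨γ * δ * γ⁻¹, mul_mem (mul_mem hγ hδ) (inv_mem hγ), h1.conj' _ (pull_apply γ f)⟩

theorem pull_inj (γ : U ≃ₗ[ZMod 2] U) {f g : U →ₗ[ZMod 2] ZMod 2} (h : TransD.pull γ f = TransD.pull γ g) : f = g := by
  ext u
  have h1 : ∀ v, f (γ⁻¹ v) = g (γ⁻¹ v) := fun v => by
    rw [← pull_apply, ← pull_apply, h]
  have h2 := h1 (γ u)
  rwa [← LinearEquiv.mul_apply, inv_mul_cancel] at h2

theorem Phi.card_le [Finite U] {y : U} {γ : U ≃ₗ[ZMod 2] U} (hγ : γ ∈ Γ) :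
    (Phi Γ y).ncard ≤ (Phi Γ (γ y)).ncard := by
  have hfin : Finite (U →ₗ[ZMod 2] ZMod 2) := DFunLike.finite _
  exact Set.ncard_le_ncard_of_injOn (TransD.pull γ) (fun f hf => Phi.pull hf hγ)
    (fun f _ g _ h => pull_inj γ h) (Set.toFinite _)

end Phi

/-- The configuration. -/
structure Dat (Γ A : Subgroup (U ≃ₗ[ZMod 2] U)) (z a b : U) (τ : U ≃ₗ[ZMod 2] U) (f : U →ₗ[ZMod 2] ZMod 2) : Prop where
  z_ne : z ≠ 0
  A_le : A ≤ Γ
  A_comm : ∀ x ∈ A, ∀ y ∈ A, x * y = y * x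
  A_norm : ∀ γ ∈ Γ, γ a = a → ∀ x ∈ A, γ * x * γ⁻¹ ∈ A
  A_fix : ∀ x ∈ A, x a = a
  mem : τ ∈ A
  isT : IsT τ z f
  f_ne : f ≠ 0
  O2 : ∀ E : Subgroup (U ≃ₗ[ZMod 2] U), E ≤ Γ → (∀ γ ∈ Γ, ∀ x ∈ E, γ * x * γ⁻¹ ∈ E) → (∀ x ∈ E, ∀ y ∈ E, x * y = y * x) →
    (∀ x ∈ E, x * x = 1) → E = ⊥
  wa : ∃ w ∈ Γ, w z = z ∧ w b = a + b
  wb : ∃ w ∈ Γ, w z = z ∧ w a = a + b

namespace Dat

variable {Γ A : Subgroup (U ≃ₗ[ZMod 2] U)} {z a b : U} {τ : U ≃ₗ[ZMod 2] U} {f : U →ₗ[ZMod 2] ZMod 2}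

/-- the orbit of `z` -/
def Om (Γ : Subgroup (U ≃ₗ[ZMod 2] U)) (z : U) : Set U := {y | ∃ γ ∈ Γ, γ z = y}

theorem Om.conj {y : U} (hy : y ∈ Om Γ z) {γ : U ≃ₗ[ZMod 2] U} (hγ : γ ∈ Γ) : γ y ∈ Om Γ z := by
  obtain ⟨δ, hδ, rfl⟩ := hy
  exact ⟨γ * δ, mul_mem hγ hδ, rfl⟩

theorem Om.ne (hz : z ≠ 0) {y : U} (hy : y ∈ Om Γ z) : y ≠ 0 := by
  obtain ⟨δ, hδ, rfl⟩ := hy
  exact fun h => hz ((LinearEquiv.map_eq_zero_iff δ).1 h)

theorem Om.exists {y y' : U} (hy : y ∈ Om Γ z) (hy' : y' ∈ Om Γ z) : ∃ γ ∈ Γ, γ y = y' := by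
  obtain ⟨δ, hδ, rfl⟩ := hy
  obtain ⟨δ', hδ', rfl⟩ := hy'
  refine ⟨δ' * δ⁻¹, mul_mem hδ' (inv_mem hδ), ?_⟩
  rw [LinearEquiv.mul_apply, ← LinearEquiv.mul_apply δ⁻¹ δ, inv_mul_cancel]
  rfl

/-- (s1) -/
theorem symm [Finite U] (hz : z ≠ 0) {y y' : U} (hy : y ∈ Om Γ z) (hy' : y' ∈ Om Γ z)
    {g : U →ₗ[ZMod 2] ZMod 2} (hg : g ∈ Phi Γ y) (h1 : g y' = 1) : ∃ h ∈ Phi Γ y', h y = 1 := by
  by_contra hcon
  push Not at hcon
  have h0 : ∀ h ∈ Phi Γ y', h y = 0 := fun h hh => (z2 (h y)).resolve_right (hcon h hh)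
  have hy0 := Om.ne hz hy
  have hy0' := Om.ne hz hy'
  have hsub : Phi Γ y' ⊆ Phi Γ y := by
    rintro h hh
    obtain ⟨δ, hδ, hd⟩ := hh
    obtain ⟨γ, hγ, hc⟩ := hg
    have h2 := hc.conj hd (hc.self hy0)
    rw [h1, one_smul, h0 h ⟨δ, hδ, hd⟩, zero_smul, add_zero, add_comm y' y] at h2
    exact ⟨_, mul_mem (mul_mem (mul_mem hγ hδ) (inv_mem hγ)) hδ,
      h2.mul' hd (h0 h ⟨δ, hδ, hd⟩) (hd.self hy0')⟩
  obtain ⟨γ, hγ, e⟩ := Om.exists hy hy'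
  have hcard : (Phi Γ y).ncard ≤ (Phi Γ y').ncard := by
    rw [← e]
    exact Phi.card_le hγ
  have hfin : Finite (U →ₗ[ZMod 2] ZMod 2) := DFunLike.finite _
  have heq := Set.eq_of_subset_of_ncard_le hsub hcard (Set.toFinite _)
  have h3 : g ∈ Phi Γ y' := heq ▸ hg
  have h4 := Phi.self hy0' h3
  rw [h4] at h1
  exact absurd h1 (by decide)

theorem comm_of {σ ρ : U ≃ₗ[ZMod 2] U} {y y' : U} {g h : U →ₗ[ZMod 2] ZMod 2} (h1 : IsT σ y g) (h2 : IsT ρ y' h)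
    (e1 : g y' = 0) (e2 : h y = 0) : σ * ρ = ρ * σ := by
  ext u
  rw [LinearEquiv.mul_apply, LinearEquiv.mul_apply, h2 u, h1 u, h1 _, h2 _, map_add, map_smul, e1, map_add, map_smul, e2,
    smul_zero, smul_zero, add_zero, add_zero, add_assoc, add_assoc, add_comm (h u • y')]

variable (D : Dat Γ A z a b τ f)
include D

omit D in
theorem z_mem_Om : z ∈ Om Γ z := ⟨1, one_mem _, rfl⟩

theorem z_mem : z ∈ Om Γ z := ⟨1, one_mem _, rfl⟩

theorem exists_y : ∃ y ∈ Om Γ z, f y = 1 := by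
  by_contra hcon
  push Not at hcon
  have h0 : ∀ y ∈ Om Γ z, f y = 0 := fun h hh => (z2 (f h)).resolve_right (hcon h hh)
  set X : Set (U ≃ₗ[ZMod 2] U) := {σ | ∃ γ ∈ Γ, σ = γ * τ * γ⁻¹} with hX
  have hXc : ∀ x ∈ X, ∀ y ∈ X, x * y = y * x := by
    rintro _ ⟨γ, hγ, rfl⟩ _ ⟨δ, hδ, rfl⟩
    refine comm_of (D.isT.conj' _ (pull_apply γ f)) (D.isT.conj' _ (pull_apply δ f)) ?_ ?_
    · rw [pull_apply, ← LinearEquiv.mul_apply]
      exact h0 _ ⟨_, mul_mem (inv_mem hγ) hδ, rfl⟩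
    · rw [pull_apply, ← LinearEquiv.mul_apply]
      exact h0 _ ⟨_, mul_mem (inv_mem hδ) hγ, rfl⟩
  have hE := D.O2 (Subgroup.closure X) ?_ ?_ ?_ ?_
  · have h1 : τ ∈ Subgroup.closure X :=
      Subgroup.subset_closure ⟨1, one_mem _, by rw [one_mul, inv_one, mul_one]⟩
    rw [hE, Subgroup.mem_bot] at h1
    apply D.f_ne
    ext u
    have h2 := D.isT u
    rw [h1] at h2
    have h3 : f u • z = 0 := by
      have h4 : (1 : U ≃ₗ[ZMod 2] U) u = u := rfl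
      rw [h4] at h2
      exact left_eq_add.1 h2
    rcases z2 (f u) with h4 | h4
    · rw [h4]; rfl
    · rw [h4, one_smul] at h3
      exact absurd h3 D.z_ne
  · rw [Subgroup.closure_le]
    rintro _ ⟨γ, hγ, rfl⟩
    exact mul_mem (mul_mem hγ (D.A_le D.mem)) (inv_mem hγ)
  · intro γ hγ x hx
    induction hx using Subgroup.closure_induction with
    | mem x hx =>
      obtain ⟨δ, hδ, rfl⟩ := hx
      exact Subgroup.subset_closure ⟨γ * δ, mul_mem hγ hδ, by group⟩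
    | one => rw [mul_one, mul_inv_cancel]; exact one_mem _
    | mul x y _ _ h1 h2 =>
      have e : γ * (x * y) * γ⁻¹ = γ * x * γ⁻¹ * (γ * y * γ⁻¹) := by group
      rw [e]; exact mul_mem h1 h2
    | inv x _ h1 =>
      have e : γ * x⁻¹ * γ⁻¹ = (γ * x * γ⁻¹)⁻¹ := by group
      rw [e]; exact inv_mem h1
  · intro x hx y hy
    exact Subgroup.closure_induction₂ (p := fun x y _ _ => x * y = y * x) (fun x y hx hy => hXc x hx y hy)
      (fun x _ => by rw [one_mul, mul_one]) (fun x _ => by rw [one_mul, mul_one])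
      (fun x y z _ _ _ h1 h2 => (show Commute (x * y) z from Commute.mul_left h1 h2))
      (fun x y z _ _ _ h1 h2 => (show Commute z (x * y) from Commute.mul_right h1 h2))
      (fun x y _ _ h1 => (show Commute x⁻¹ y from Commute.inv_left h1))
      (fun x y _ _ h1 => (show Commute x y⁻¹ from Commute.inv_right h1)) hx hy
  · intro x hx
    have hcl : ∀ x ∈ Subgroup.closure X, ∀ y ∈ Subgroup.closure X, x * y = y * x := by
      intro x hx y hy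
      exact Subgroup.closure_induction₂ (p := fun x y _ _ => x * y = y * x) (fun x y hx hy => hXc x hx y hy)
        (fun x _ => by rw [one_mul, mul_one]) (fun x _ => by rw [one_mul, mul_one])
        (fun x y z _ _ _ h1 h2 => (show Commute (x * y) z from Commute.mul_left h1 h2))
        (fun x y z _ _ _ h1 h2 => (show Commute z (x * y) from Commute.mul_right h1 h2))
        (fun x y _ _ h1 => (show Commute x⁻¹ y from Commute.inv_left h1))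
        (fun x y _ _ h1 => (show Commute x y⁻¹ from Commute.inv_right h1)) hx hy
    induction hx using Subgroup.closure_induction with
    | mem x hx =>
      obtain ⟨δ, hδ, rfl⟩ := hx
      have e : δ * τ * δ⁻¹ * (δ * τ * δ⁻¹) = δ * (τ * τ) * δ⁻¹ := by group
      rw [e, D.isT.sq (D.isT.self D.z_ne), mul_one, mul_inv_cancel]
    | one => rw [mul_one]
    | mul x y hx hy h1 h2 =>
      have e : x * y * (x * y) = x * (y * x) * y := by group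
      rw [e, hcl y hy x hx, mul_assoc, mul_assoc, h2, mul_one, h1]
    | inv x _ h1 =>
      rw [← mul_inv_rev, h1, inv_one]

/-- (1), first half -/
theorem one_a {τ₁ : U ≃ₗ[ZMod 2] U} (hτ : τ₁ ∈ A) {y₁ y : U} {e g : U →ₗ[ZMod 2] ZMod 2} (h1 : IsT τ₁ y₁ e)
    (hy₁ : y₁ ≠ 0) (hy : y ≠ 0) (hey : e y = 1) (hg : g ∈ Phi Γ y) (hgy : g y₁ = 1) : g a = 1 := by
  rcases z2 (g a) with h0 | h0
  swap
  · exact h0
  exfalso
  obtain ⟨γ, hγ, hc⟩ := hg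
  have h2 : γ a = a := by rw [hc a, h0, zero_smul, add_zero]
  have h3 := D.A_norm γ hγ h2 τ₁ hτ
  have h4 := hc.conj h1 (hc.self hy)
  rw [hgy, one_smul, hey, one_smul] at h4
  generalize γ * τ₁ * γ⁻¹ = σ at h3 h4
  have h5 := DFunLike.congr_fun (D.A_comm _ h3 _ hτ) y₁
  have e1 := h1.self hy₁
  rw [LinearEquiv.mul_apply, LinearEquiv.mul_apply, h1 y₁, e1, zero_smul, add_zero, h4 y₁, LinearMap.add_apply, e1, hgy,
    zero_add, one_smul, h1 _, map_add, map_add, e1, hey, zero_add, zero_add, one_smul] at h5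
  have h6 : y₁ + (y₁ + y) + y₁ = y₁ + (y₁ + y) := h5.symm
  exact hy₁ (add_eq_left.1 h6)

/-- (1) -/
theorem one [Finite U] {τ₁ : U ≃ₗ[ZMod 2] U} (hτ : τ₁ ∈ A) {y₁ y : U} {e g : U →ₗ[ZMod 2] ZMod 2} (h1 : IsT τ₁ y₁ e)
    (hy₁ : y₁ ∈ Om Γ z) (hy : y ∈ Om Γ z) (hey : e y = 1) (hg : g ∈ Phi Γ y) : g a = g y₁ := by
  have hn := Om.ne D.z_ne hy
  have hn₁ := Om.ne D.z_ne hy₁
  rcases z2 (g y₁) with h0 | h0
  swap
  · rw [h0]
    exact D.one_a hτ h1 hn₁ hn hey hg h0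
  obtain ⟨g₀, hg₀, h2⟩ := symm D.z_ne hy₁ hy ⟨τ₁, D.A_le hτ, h1⟩ hey
  have h3 := D.one_a hτ h1 hn₁ hn hey hg₀ h2
  have h4 := D.one_a hτ h1 hn₁ hn hey (Phi.add hn hg hg₀) (by rw [LinearMap.add_apply, h0, h2, zero_add])
  rw [LinearMap.add_apply, h3] at h4
  rw [h0]
  rcases z2 (g a) with h5 | h5
  · exact h5
  · rw [h5] at h4
    exact absurd h4 (by decide)

omit D in
/-- (2) -/
theorem two [Finite U] (hz : z ≠ 0) {y y' : U} (hy : y ∈ Om Γ z) (hy' : y' ∈ Om Γ z)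
    {h : U →ₗ[ZMod 2] ZMod 2} (hh : h ∈ Phi Γ y') (h1 : h y = 1) {g : U →ₗ[ZMod 2] ZMod 2} (hg : g ∈ Phi Γ y)
    (h0 : g y' = 0) : g ∈ Phi Γ y' := by
  obtain ⟨γ, hγ, hc⟩ := hh
  obtain ⟨δ, hδ, hd⟩ := hg
  have hn := Om.ne hz hy
  have hn' := Om.ne hz hy'
  have h2 := hc.conj hd (hc.self hn')
  rw [h1, one_smul, h0, zero_smul, add_zero, add_comm y y'] at h2
  exact ⟨_, mul_mem (mul_mem (mul_mem hγ hδ) (inv_mem hγ)) hδ, h2.mul' hd h0 (hd.self hn)⟩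

/-- `Φ_z` kills `a`. -/
theorem phi_z [Finite U] {g : U →ₗ[ZMod 2] ZMod 2} (hg : g ∈ Phi Γ z) : g a = 0 := by
  obtain ⟨y, hy, h1⟩ := D.exists_y
  have hf : f ∈ Phi Γ z := ⟨τ, D.A_le D.mem, D.isT⟩
  have hfa : f a = 0 := by
    have h2 := D.isT a
    rw [D.A_fix τ D.mem] at h2
    have h3 : f a • z = 0 := left_eq_add.1 h2
    rcases z2 (f a) with h4 | h4
    · exact h4
    · rw [h4, one_smul] at h3
      exact absurd h3 D.z_ne
  have key : ∀ g ∈ Phi Γ z, g y = 0 → g a = 0 := by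
    intro g hg h0
    obtain ⟨h, hh, h2⟩ := symm D.z_ne D.z_mem hy hf h1
    have h3 : g ∈ Phi Γ y := two D.z_ne D.z_mem hy hh h2 hg h0
    rw [D.one D.mem D.isT D.z_mem hy h1 h3]
    exact Phi.self D.z_ne hg
  rcases z2 (g y) with h0 | h0
  · exact key g hg h0
  · have h2 := key (g + f) (Phi.add D.z_ne hg hf) (by rw [LinearMap.add_apply, h0, h1]; decide)
    rwa [LinearMap.add_apply, hfa, add_zero] at h2

/-- adjacency -/
def Adj (Γ : Subgroup (U ≃ₗ[ZMod 2] U)) (y y' : U) : Prop := ∃ g ∈ Phi Γ y, g y' = 1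

/-- (3) -/
theorem three [Finite U] {y' : U} (hy' : y' ∈ Om Γ z) (hadj : Adj Γ y' z) {h : U →ₗ[ZMod 2] ZMod 2}
    (hh : h ∈ Phi Γ y') : h a = h z := by
  have hn' := Om.ne D.z_ne hy'
  rcases z2 (h z) with h0 | h0
  · rw [h0]
    obtain ⟨k, hk, hk1⟩ := hadj
    obtain ⟨g, hg, hg1⟩ := symm D.z_ne hy' D.z_mem hk hk1
    exact D.phi_z (two D.z_ne hy' D.z_mem hg hg1 hh h0)
  rw [h0]
  rcases z2 (f y') with h1 | h1
  swap
  · rw [D.one D.mem D.isT D.z_mem hy' h1 hh, h0]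
  rcases z2 (h a) with h2 | h2
  swap
  · exact h2
  exfalso
  obtain ⟨γ, hγ, hc⟩ := hh
  have h3 : γ a = a := by rw [hc a, h2, zero_smul, add_zero]
  have h4 := D.A_norm γ hγ h3 τ D.mem
  have h5 := hc.conj D.isT (hc.self hn')
  rw [h0, one_smul, h1, zero_smul, add_zero] at h5
  have hfz := D.isT.self D.z_ne
  have h6 : IsT (γ * τ * γ⁻¹ * τ) y' f := by
    rw [add_comm z y'] at h5
    exact h5.mul' D.isT h1 hfz
  have h7 : z + y' ∈ Om Γ z := ⟨γ, hγ, by rw [hc z, h0, one_smul]⟩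
  obtain ⟨y, hy, h8⟩ := D.exists_y
  have hn := Om.ne D.z_ne hy
  obtain ⟨g, hg, hg1⟩ := symm D.z_ne h7 hy ⟨_, D.A_le h4, h5⟩ h8
  have e1 := D.one D.mem D.isT D.z_mem hy h8 hg
  have e2 := D.one (mul_mem h4 D.mem) h6 hy' hy h8 hg
  rw [map_add, ← e1, ← e2, zz] at hg1
  exact absurd hg1 (by decide)

omit D in
theorem adj_symm [Finite U] (hz : z ≠ 0) {y y' : U} (hy : y ∈ Om Γ z) (hy' : y' ∈ Om Γ z) (h : Adj Γ y y') :
    Adj Γ y' y := by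
  obtain ⟨g, hg, h1⟩ := h
  exact symm hz hy hy' hg h1

/-- paths of length `m` from `z` -/
def Path (Γ : Subgroup (U ≃ₗ[ZMod 2] U)) (z : U) : ℕ → U → Prop
  | 0, y => y = z
  | m + 1, y => ∃ x, Path Γ z m x ∧ y ∈ Om Γ z ∧ Adj Γ x y

omit D in
theorem Path.mem {m : ℕ} {y : U} (h : Path Γ z m y) : y ∈ Om Γ z := by
  cases m with
  | zero => rw [show y = z from h]; exact ⟨1, one_mem _, rfl⟩
  | succ m => obtain ⟨x, -, h1, -⟩ := h; exact h1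

/-- (4) -/
theorem four [Finite U] (m : ℕ) : (∀ y, Path Γ z m y → ∀ g ∈ Phi Γ y, g (a + z) = 0) ∧
    (∀ y, Path Γ z (m + 1) y → ∀ g ∈ Phi Γ y, g (a + z) = 0) := by
  induction m with
  | zero =>
    constructor
    · intro y hy g hg
      obtain rfl : y = z := hy
      rw [map_add, D.phi_z hg, Phi.self D.z_ne hg, add_zero]
    · rintro y ⟨x, hx, hy, hadj⟩ g hg
      obtain rfl : x = z := hx
      rw [map_add, D.three hy (adj_symm D.z_ne D.z_mem hy hadj) hg, zz]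
  | succ m ih =>
    refine ⟨ih.2, ?_⟩
    rintro y ⟨x, hx, hy, hadj⟩ h hh
    have hxO := hx.mem
    have hxk := ih.2 x hx
    obtain ⟨w, hw, -, hwx⟩ := hx
    have hwO := hw.mem
    by_cases hyw : Adj Γ w y
    · exact ih.2 y ⟨w, hw, hy, hyw⟩ h hh
    have hyx := adj_symm D.z_ne hxO hy hadj
    -- `k ∈ Φ_x` with `k y = k w = 1`
    obtain ⟨k, hk, hky, hkw⟩ : ∃ k ∈ Phi Γ x, k y = 1 ∧ k w = 1 := by
      obtain ⟨k₁, hk₁, e₁⟩ := hadj
      obtain ⟨k₂, hk₂, e₂⟩ := adj_symm D.z_ne hwO hxO hwx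
      rcases z2 (k₁ w) with h1 | h1
      swap
      · exact ⟨k₁, hk₁, e₁, h1⟩
      rcases z2 (k₂ y) with h2 | h2
      swap
      · exact ⟨k₂, hk₂, h2, e₂⟩
      exact ⟨k₁ + k₂, Phi.add (Om.ne D.z_ne hxO) hk₁ hk₂, by rw [LinearMap.add_apply, e₁, h2, add_zero],
        by rw [LinearMap.add_apply, h1, e₂, zero_add]⟩
    have hkx := Phi.self (Om.ne D.z_ne hxO) hk
    have hka := hxk k hk
    obtain ⟨κ, hκ, hc⟩ := hk
    have hO' : y + x ∈ Om Γ z := by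
      have h1 := Om.conj hy hκ
      rwa [hc y, hky, one_smul] at h1
    -- functionals of `y + x`
    have key : ∀ h ∈ Phi Γ y, h + h x • k ∈ Phi Γ (y + x) := by
      rintro h ⟨η, hη, hd⟩
      have h1 := hc.conj hd hkx
      rw [hky, one_smul] at h1
      exact ⟨_, mul_mem (mul_mem hκ hη) (inv_mem hκ), h1⟩
    have hnw : ∀ h ∈ Phi Γ y, h w = 0 := by
      intro h hh
      refine (z2 (h w)).resolve_right fun h1 => hyw ?_
      exact adj_symm D.z_ne hy hwO ⟨h, hh, h1⟩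
    have hadj' : Adj Γ (y + x) w := by
      obtain ⟨h', hh', h1⟩ := hyx
      refine ⟨_, key h' hh', ?_⟩
      rw [LinearMap.add_apply, LinearMap.smul_apply, hnw h' hh', h1, hkw, smul_eq_mul, mul_one, zero_add]
    have h2 := ih.2 (y + x) ⟨w, hw, hO', adj_symm D.z_ne hO' hwO hadj'⟩ _ (key h hh)
    rw [LinearMap.add_apply, LinearMap.smul_apply, hka, smul_zero, add_zero] at h2
    exact h2

theorem kill [Finite U] {m : ℕ} {y : U} (h : Path Γ z m y) {g : U →ₗ[ZMod 2] ZMod 2} (hg : g ∈ Phi Γ y) :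
    g (a + z) = 0 := (D.four m).1 y h g hg

omit D in
theorem Adj.conj {y y' : U} (h : Adj Γ y y') {γ : U ≃ₗ[ZMod 2] U} (hγ : γ ∈ Γ) : Adj Γ (γ y) (γ y') := by
  obtain ⟨g, hg, h1⟩ := h
  refine ⟨TransD.pull γ g, Phi.pull hg hγ, ?_⟩
  rw [pull_apply, ← LinearEquiv.mul_apply, inv_mul_cancel]
  exact h1

omit D in
theorem Path.conj {m : ℕ} {y : U} (h : Path Γ z m y) {γ : U ≃ₗ[ZMod 2] U} (hγ : γ ∈ Γ) (hz : γ z = z) :
    Path Γ z m (γ y) := by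
  induction m generalizing y with
  | zero =>
    obtain rfl : y = z := h
    exact hz
  | succ m ih =>
    obtain ⟨x, hx, hy, ha⟩ := h
    exact ⟨γ x, ih hx, Om.conj hy hγ, ha.conj hγ⟩

omit D in
/-- transport of "all functionals of the component kill `u`" -/
theorem transport {u : U} (hk : ∀ (m : ℕ) (y : U), Path Γ z m y → ∀ g ∈ Phi Γ y, g u = 0) {w : U ≃ₗ[ZMod 2] U}
    (hw : w ∈ Γ) (hz : w z = z) : ∀ (m : ℕ) (y : U), Path Γ z m y → ∀ g ∈ Phi Γ y, g (w u) = 0 := by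
  intro m y hy g hg
  have hz' : w⁻¹ z = z := by
    nth_rewrite 1 [← hz]
    rw [← LinearEquiv.mul_apply, inv_mul_cancel]
    rfl
  have h1 := hk m _ (hy.conj (inv_mem hw) hz') _ (Phi.pull hg (inv_mem hw))
  rwa [pull_apply, inv_inv] at h1

/-- **THEOREM 2 of #17653** -/
theorem false [Finite U] : False := by
  have k1 : ∀ (m : ℕ) (y : U), Path Γ z m y → ∀ g ∈ Phi Γ y, g (a + z) = 0 := fun m y hy g hg => D.kill hy hg
  obtain ⟨wb, hwb, hbz, hba⟩ := D.wb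
  obtain ⟨wa, hwa, haz, hab⟩ := D.wa
  have k2 := transport k1 hwb hbz
  rw [map_add, hba, hbz] at k2
  have k3 : ∀ (m : ℕ) (y : U), Path Γ z m y → ∀ g ∈ Phi Γ y, g b = 0 := by
    intro m y hy g hg
    have h1 := k1 m y hy g hg
    have h2 := k2 m y hy g hg
    have e : b = (a + z) + (a + b + z) := by
      have : (a + z) + (a + b + z) = (a + a) + (z + z) + b := by abel
      rw [this, uu, uu]; simp
    rw [e, map_add, h1, h2, add_zero]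
  have k4 := transport k3 hwa haz
  rw [hab] at k4
  obtain ⟨y, hy, h1⟩ := D.exists_y
  have hf : f ∈ Phi Γ z := ⟨τ, D.A_le D.mem, D.isT⟩
  obtain ⟨g, hg, hg1⟩ := symm D.z_ne D.z_mem hy hf h1
  have hp : Path Γ z 1 y := ⟨z, rfl, hy, f, hf, h1⟩
  have e1 := k1 1 y hp g hg
  have e3 := k3 1 y hp g hg
  have e4 := k4 1 y hp g hg
  rw [map_add] at e1 e4
  rw [e3, add_zero] at e4
  rw [e4, zero_add, hg1] at e1
  exact absurd e1 (by decide)

end Dat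

end Cfsg.Agent.Omega.TTn.Z.TransD
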