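import Cfsg.Agent.Omega.TTn.Z.TransD

/-!
# THEOREM 2 of #17653 (helper79), group form

`U` elementary abelian, normalised by `N`; `A ≤ N` abelian, commuting with `a`, normalised by `C_N(a)`; no normal subgroup
of `N` acts on `U` as a nontrivial elementary abelian 2-group. `t ∈ A` inducing a transvection with centre `z` on `U`
does not exist if elements of `C_N(z)` move `b ↦ ab` and `a ↦ ab`.
-/

set_option autoImplicit false

namespace Cfsg.Agent.Omega.TTn.Z.TransG

open Subgroup TransD

variable {G : Type*} [Group G]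

structure Hyp (N U A : Subgroup G) (z a b t : G) : Prop where
  norm : N ≤ normalizer (U : Set G)
  comm : ∀ x ∈ U, ∀ y ∈ U, x * y = y * x
  sq : ∀ x ∈ U, x * x = 1
  A_le : A ≤ N
  A_comm : ∀ x ∈ A, ∀ y ∈ A, x * y = y * x
  A_norm : ∀ g ∈ N, g * a = a * g → ∀ x ∈ A, g * x * g⁻¹ ∈ A
  A_fix : ∀ x ∈ A, x * a = a * x
  aU : a ∈ U
  bU : b ∈ U
  zU : z ∈ U
  z_ne : z ≠ 1
  tA : t ∈ A
  t_act : ∀ u ∈ U, t * u * t⁻¹ = u ∨ t * u * t⁻¹ = u * z
  t_ne : ∃ u ∈ U, t * u ≠ u * t
  O2 : ∀ E : Subgroup G, E ≤ N → N ≤ normalizer (E : Set G) → (∀ x ∈ E, x * x ∈ centralizer (U : Set G)) →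
    (∀ x ∈ E, ∀ y ∈ E, x * y * x⁻¹ * y⁻¹ ∈ centralizer (U : Set G)) → E ≤ centralizer (U : Set G)
  wa : ∃ w ∈ N, w * z = z * w ∧ w * b * w⁻¹ = a * b
  wb : ∃ w ∈ N, w * z = z * w ∧ w * a * w⁻¹ = a * b

/-- a multiplicative automorphism as a linear one -/
def lin {M : Type*} [CommGroup M] [Module (ZMod 2) (Additive M)] :
    MulAut M →* (Additive M ≃ₗ[ZMod 2] Additive M) where
  toFun e := { MulEquiv.toAdditive e with map_smul' := fun c x => ZMod.map_smul (MulEquiv.toAdditive e) c x }
  map_one' := rfl
  map_mul' _ _ := rfl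

theorem lin_apply {M : Type*} [CommGroup M] [Module (ZMod 2) (Additive M)] (e : MulAut M) (x : M) :
    lin e (Additive.ofMul x) = Additive.ofMul (e x) := rfl

theorem Hyp.false [Finite G] {N U A : Subgroup G} {z a b t : G} (H : Hyp N U A z a b t) : False := by
  let _ : CommGroup U := { (inferInstance : Group U) with mul_comm := fun x y => Subtype.ext (H.comm x x.2 y y.2) }
  let _ : Module (ZMod 2) (Additive U) := AddCommGroup.zmodModule (n := 2) fun x => by
    rw [two_nsmul]
    exact Subtype.ext (H.sq _ (Additive.toMul x).2)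
  let c : normalizer (U : Set G) →* (Additive U ≃ₗ[ZMod 2] Additive U) := lin.comp U.normalizerMonoidHom
  let ρ : N →* (Additive U ≃ₗ[ZMod 2] Additive U) := c.comp (Subgroup.inclusion H.norm)
  have hρ : ∀ (g : N) (u : U), ((Additive.toMul (ρ g (Additive.ofMul u)) : U) : G) = g * u * (g : G)⁻¹ :=
    fun _ _ => rfl
  have hρ' : ∀ (g : N) (u : Additive U), ((Additive.toMul (ρ g u) : U) : G) = g * ((Additive.toMul u : U) : G) *
    (g : G)⁻¹ := fun _ _ => rfl
  have hext : ∀ {x y : Additive U}, ((Additive.toMul x : U) : G) = ((Additive.toMul y : U) : G) → x = y :=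
    fun h => Additive.toMul.injective (Subtype.ext h)
  have hadd : ∀ x y : Additive U, ((Additive.toMul (x + y) : U) : G) =
    ((Additive.toMul x : U) : G) * ((Additive.toMul y : U) : G) := fun _ _ => rfl
  have hz0 : ((Additive.toMul (0 : Additive U) : U) : G) = 1 := rfl
  have hcent : ∀ g : N, ρ g = 1 ↔ (g : G) ∈ centralizer (U : Set G) := by
    intro g
    constructor
    · intro h
      refine mem_centralizer_iff.2 fun u hu => ?_
      have h1 := hρ g ⟨u, hu⟩
      rw [h] at h1
      have h2 : u = g * u * (g : G)⁻¹ := h1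
      exact mul_inv_eq_iff_eq_mul.1 h2.symm ▸ rfl
    · intro h
      apply LinearEquiv.ext
      intro u
      apply hext
      rw [hρ']
      have h1 := mem_centralizer_iff.1 h _ (Additive.toMul u).2
      rw [← h1, mul_inv_cancel_right]
      rfl
  -- the functional of `t`
  have hzu : ∀ u ∈ U, u * z ≠ u := fun u _ h => H.z_ne (mul_eq_left.1 h)
  have htz : t * z * t⁻¹ = z := by
    rcases H.t_act z H.zU with h | h
    · exact h
    · exfalso
      rw [H.sq z H.zU] at h
      exact H.z_ne (by rw [mul_inv_eq_one] at h; exact mul_eq_left.1 h)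
  classical
  let f₀ : Additive U →+ ZMod 2 :=
    { toFun := fun u => if t * ((Additive.toMul u : U) : G) * t⁻¹ = ((Additive.toMul u : U) : G) then 0 else 1
      map_zero' := by
        rw [if_pos]
        rw [hz0, mul_one, mul_inv_cancel]
      map_add' := by
        intro x y
        have hx := H.t_act _ (Additive.toMul x).2
        have hy := H.t_act _ (Additive.toMul y).2
        have e : t * ((Additive.toMul (x + y) : U) : G) * t⁻¹ = (t * ((Additive.toMul x : U) : G) * t⁻¹) *
            (t * ((Additive.toMul y : U) : G) * t⁻¹) := by rw [hadd]; group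
        have nz : ∀ w : U, (w : G) * z ≠ w := fun w h => H.z_ne (mul_eq_left.1 h)
        rw [e, hadd]
        have hcz : z * ((Additive.toMul y : U) : G) = ((Additive.toMul y : U) : G) * z :=
          H.comm _ H.zU _ (Additive.toMul y).2
        rcases hx with hx | hx <;> rcases hy with hy | hy
        · rw [hx, hy, if_pos rfl, if_pos rfl, if_pos rfl, add_zero]
        · rw [hx, hy, ← mul_assoc, if_neg (by rw [← hadd]; exact nz _), if_pos rfl, if_neg (nz _), zero_add]
        · rw [hx, hy, mul_assoc, hcz, ← mul_assoc, if_neg (by rw [← hadd]; exact nz _), if_neg (nz _), if_pos rfl,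
            add_zero]
        · rw [hx, hy, if_pos, if_neg (nz _), if_neg (nz _)]
          · decide
          · calc ((Additive.toMul x : U) : G) * z * (((Additive.toMul y : U) : G) * z)
                = ((Additive.toMul x : U) : G) * (z * ((Additive.toMul y : U) : G)) * z := by group
              _ = ((Additive.toMul x : U) : G) * ((Additive.toMul y : U) : G) * (z * z) := by rw [hcz]; group
              _ = _ := by rw [H.sq z H.zU, mul_one] }
  let f : Additive U →ₗ[ZMod 2] ZMod 2 := AddMonoidHom.toZModLinearMap 2 f₀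
  have hf : ∀ u, f u = if t * ((Additive.toMul u : U) : G) * t⁻¹ = ((Additive.toMul u : U) : G) then 0 else 1 :=
    fun _ => rfl
  let zz' : Additive U := Additive.ofMul ⟨z, H.zU⟩
  let aa' : Additive U := Additive.ofMul ⟨a, H.aU⟩
  let bb' : Additive U := Additive.ofMul ⟨b, H.bU⟩
  have D : Dat ρ.range ((A.subgroupOf N).map ρ) zz' aa' bb' (ρ ⟨t, H.A_le H.tA⟩) f :=
    { z_ne := fun h => H.z_ne (congrArg (fun x : Additive U => ((Additive.toMul x : U) : G)) h)
      A_le := by
        rintro _ ⟨x, -, rfl⟩
        exact ⟨x, rfl⟩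
      A_comm := by
        rintro _ ⟨x, hx, rfl⟩ _ ⟨y, hy, rfl⟩
        rw [← map_mul, ← map_mul]
        congr 1
        exact Subtype.ext (H.A_comm x hx y hy)
      A_norm := by
        rintro _ ⟨g, rfl⟩ hg _ ⟨x, hx, rfl⟩
        refine ⟨g * x * g⁻¹, ?_, by rw [map_mul, map_mul, map_inv]⟩
        have h1 := congrArg (fun x : Additive U => ((Additive.toMul x : U) : G)) hg
        have h2 : (g : G) * a * (g : G)⁻¹ = a := h1
        exact H.A_norm g g.2 (mul_inv_eq_iff_eq_mul.1 h2) x hx
      A_fix := by
        rintro _ ⟨x, hx, rfl⟩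
        apply hext
        rw [hρ']
        change (x : G) * a * (x : G)⁻¹ = a
        rw [H.A_fix x hx, mul_inv_cancel_right]
      mem := ⟨⟨t, H.A_le H.tA⟩, H.tA, rfl⟩
      isT := by
        intro u
        apply hext
        rw [hρ', hf]
        change t * ((Additive.toMul u : U) : G) * t⁻¹ = _
        split_ifs with h
        · rw [h, zero_smul, add_zero]
        · rw [one_smul, hadd]
          exact (H.t_act _ (Additive.toMul u).2).resolve_left h
      f_ne := by
        intro h
        obtain ⟨u, hu, h1⟩ := H.t_ne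
        have h2 := hf (Additive.ofMul ⟨u, hu⟩)
        rw [h, if_neg, LinearMap.zero_apply] at h2
        · exact absurd h2 (by decide)
        · change t * u * t⁻¹ ≠ u
          intro h3
          exact h1 (mul_inv_eq_iff_eq_mul.1 h3)
      O2 := by
        intro E hE hn hc hs
        set E' : Subgroup G := (E.comap ρ).map N.subtype with hE'
        have hm : ∀ x : N, (x : G) ∈ E' ↔ ρ x ∈ E := by
          intro x
          constructor
          · rintro ⟨y, hy, h1⟩
            have : y = x := Subtype.ext h1
            rw [← this]; exact hy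
          · exact fun h => ⟨x, h, rfl⟩
        have hle : E' ≤ N := map_subtype_le _
        have key := H.O2 E' hle ?_ ?_ ?_
        · rw [eq_bot_iff]
          intro x hx
          obtain ⟨g, rfl⟩ := hE hx
          rw [mem_bot]
          exact (hcent g).2 (key ((hm g).2 hx))
        · intro g hg
          rw [mem_normalizer_iff]
          intro x
          constructor
          · intro hx
            have h1 := (hm ⟨x, hle hx⟩).1 hx
            have h2 := hn _ ⟨⟨g, hg⟩, rfl⟩ _ h1
            rw [← map_inv, ← map_mul, ← map_mul] at h2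
            exact (hm _).2 h2
          · intro hx
            have hxN : x ∈ N := by
              have h3 := mul_mem (mul_mem (inv_mem hg) (hle hx)) hg
              have e : g⁻¹ * (g * x * g⁻¹) * g = x := by group
              rwa [e] at h3
            have h1 := (hm ⟨_, hle hx⟩).1 hx
            have h2 := hn _ ⟨⟨g, hg⟩⁻¹, rfl⟩ _ h1
            rw [← map_inv, ← map_mul, ← map_mul] at h2
            have e : (⟨g, hg⟩ : N)⁻¹ * ⟨g * x * g⁻¹, hle hx⟩ * (⟨g, hg⟩ : N)⁻¹⁻¹ = ⟨x, hxN⟩ := by
              apply Subtype.ext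
              change g⁻¹ * (g * x * g⁻¹) * g⁻¹⁻¹ = x
              group
            rw [e] at h2
            exact (hm ⟨x, hxN⟩).2 h2
        · intro x hx
          have h1 := hs _ ((hm ⟨x, hle hx⟩).1 hx)
          rw [← map_mul] at h1
          exact (hcent _).1 h1
        · intro x hx y hy
          have h1 := hc _ ((hm ⟨x, hle hx⟩).1 hx) _ ((hm ⟨y, hle hy⟩).1 hy)
          have h2 : ρ (⟨x, hle hx⟩ * ⟨y, hle hy⟩ * ⟨x, hle hx⟩⁻¹ * ⟨y, hle hy⟩⁻¹) = 1 := by
            rw [map_mul, map_mul, map_mul, h1, map_inv, map_inv]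
            group
          exact (hcent _).1 h2
      wa := by
        obtain ⟨w, hw, h1, h2⟩ := H.wa
        refine ⟨ρ ⟨w, hw⟩, ⟨_, rfl⟩, hext ?_, hext ?_⟩
        · rw [hρ']
          change w * z * w⁻¹ = z
          rw [h1, mul_inv_cancel_right]
        · rw [hρ']
          exact h2
      wb := by
        obtain ⟨w, hw, h1, h2⟩ := H.wb
        refine ⟨ρ ⟨w, hw⟩, ⟨_, rfl⟩, hext ?_, hext ?_⟩
        · rw [hρ']
          change w * z * w⁻¹ = z
          rw [h1, mul_inv_cancel_right]
        · rw [hρ']
          exact h2 }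
  exact D.false

end Cfsg.Agent.Omega.TTn.Z.TransG
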