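import Cfsg.Agent.Omega.TTn.Z.Base
import Cfsg.Agent.Omega.TTn.Z.TransG
import Cfsg.Agent.Omega.NOThreeL.Pair
import Cfsg.Agent.Omega.NO3b.UMethod

/-!
# #17653 (helper79): TRICK, THEOREM 1, THEOREM 2, over `Z.Base`

`n = 12`, `a = 34`, `s = 1234`, `N = C_G(n)`, `U_n = ⟨n, a ^ N⟩`, `U_a = ⟨a, n ^ C_G(a)⟩`, `W_a ≥ U_a`.

* `trick_sub` : `X` subnormal in `N`, `X ≤ C_G(a)` ⟹ `W_a ∩ X ≤ Q_n`; `trick_a`, `trick_s`;
* `FU` : `F_U = ⟨U_a ^ N⟩`; `nonLoc_FU` : THEOREM 1, `⟨F_U, S⟩` is nonlocal if `[U_n, U_a] ≠ 1`; `eq_one_of_cent`, ...;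
* `no_transv` : THEOREM 2.
-/

set_option autoImplicit false
set_option linter.unusedSectionVars false

namespace Cfsg.Agent.Omega.TTn.Z.TrickD

open Subgroup Cfsg Cfsg.Agent.ZN Cfsg.Agent.ZN.ChoiceBase
open Cfsg.Agent.Omega.S5.Mod Cfsg.Agent.Omega.S5.TT
open Cfsg.Agent.Omega.S5.TT.Pos (na ns as sn n_ne s_ne a_ne n_ne_a n_ne_s a_ne_s e_sq' mem_C)
open Cfsg.Agent.MinSimple.VModule (o2_isPGroup le_o2 o2_le le_normalizer_o2 zc_le_zl le_normalizer_zl)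
open Cfsg.Agent.Omega.MinPar (NonLoc IsLoc o2_ne_bot_of_le)

universe u

variable {G : Type u} [Group G]

/-! ### TRICK -/

/-- A 2-group normalised by the subnormal subgroup `X` of `N` meets `X` in `O₂(N)`. -/
theorem trick_abs [Finite G] {N K X W : Subgroup G} (hKN : K ≤ N) (hK : N ≤ normalizer (K : Set G)) (hXK : X ≤ K)
    (hX : K ≤ normalizer (X : Set G)) (hW : IsPGroup 2 W) (hXW : X ≤ normalizer (W : Set G)) : W ⊓ X ≤ o2 N := by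
  have h1 : W ⊓ X ≤ o2 X := by
    refine le_o2 inf_le_right (hW.to_le inf_le_left) ?_
    intro x hx
    refine mem_normalizer_of_cj_le ?_
    rintro _ ⟨w, hw, rfl⟩
    exact mem_inf.2 ⟨(mem_normalizer_iff.1 (hXW hx) w).1 hw.1, X.mul_mem (X.mul_mem hx hw.2) (X.inv_mem hx)⟩
  have h2 : o2 X ≤ o2 K := le_o2 ((o2_le X).trans hXK) (o2_isPGroup X) (hX.trans (normalizer_le_normalizer_o2' X))
  have h3 : o2 K ≤ o2 N := le_o2 ((o2_le K).trans hKN) (o2_isPGroup K) (hK.trans (normalizer_le_normalizer_o2' K))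
  exact h1.trans (h2.trans h3)

/-- `F_U = ⟨U_a ^ C_G(n)⟩` -/
def FU {V₁ L₁ : Subgroup G} (M₁ : FiveMod V₁ L₁) : Subgroup G :=
  closure {y | ∃ g, g * M₁.e nn = M₁.e nn * g ∧ ∃ u ∈ UU (M₁.e aa) (M₁.e nn), y = g * u * g⁻¹}

section base

variable [Finite G] {S : Sylow 2 G} {V₁ V₂ L₁ L₂ : Subgroup G} {M₁ : FiveMod V₁ L₁} {M₂ : FiveMod V₂ L₂} {h : G}
  (b : Base S M₁ M₂ h)
include b

/-- **TRICK** -/
theorem trick_sub {K X : Subgroup G} (hKN : K ≤ centralizer ({M₁.e nn} : Set G))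
    (hK : centralizer ({M₁.e nn} : Set G) ≤ normalizer (K : Set G)) (hXK : X ≤ K)
    (hX : K ≤ normalizer (X : Set G)) (hXa : X ≤ centralizer ({M₁.e aa} : Set G)) :
    WW V₁ V₂ (M₁.e aa) ⊓ X ≤ Q (M₁.e nn) := by
  refine trick_abs hKN hK hXK hX ((o2_isPGroup _).to_le b.WWa_le_Qa) ?_
  intro x hx
  refine mem_normalizer_of_cj_le ?_
  rintro _ ⟨w, hw, rfl⟩
  exact WW_norm (mem_C.1 (hXa hx)) hw

/-- TRICK, `C_{W_a ∩ K}(a ^ K) ≤ Q_n` -/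
theorem trick_a {K : Subgroup G} (hKN : K ≤ centralizer ({M₁.e nn} : Set G))
    (hK : centralizer ({M₁.e nn} : Set G) ≤ normalizer (K : Set G)) {w : G} (hw : w ∈ WW V₁ V₂ (M₁.e aa))
    (hwK : w ∈ K) (hc : ∀ k ∈ K, w * (k * M₁.e aa * k⁻¹) = k * M₁.e aa * k⁻¹ * w) : w ∈ Q (M₁.e nn) := by
  set X : Subgroup G := K ⊓ centralizer {y | ∃ k ∈ K, y = k * M₁.e aa * k⁻¹} with hXd
  refine trick_sub b hKN hK (X := X) inf_le_left ?_ ?_ (mem_inf.2 ⟨hw, mem_inf.2 ⟨hwK, ?_⟩⟩)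
  · intro k hk
    refine mem_normalizer_of_cj_le ?_
    rintro _ ⟨x, hx, rfl⟩
    refine mem_inf.2 ⟨mul_mem (mul_mem hk hx.1) (inv_mem hk), mem_centralizer_iff.2 ?_⟩
    rintro _ ⟨l, hl, rfl⟩
    have h1 := mem_centralizer_iff.1 hx.2 (k⁻¹ * l * M₁.e aa * (k⁻¹ * l)⁻¹) ⟨_, mul_mem (inv_mem hk) hl, rfl⟩
    change l * M₁.e aa * l⁻¹ * (k * x * k⁻¹) = k * x * k⁻¹ * (l * M₁.e aa * l⁻¹)
    calc l * M₁.e aa * l⁻¹ * (k * x * k⁻¹) = k * (k⁻¹ * l * M₁.e aa * (k⁻¹ * l)⁻¹ * x) * k⁻¹ := by group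
      _ = k * (x * (k⁻¹ * l * M₁.e aa * (k⁻¹ * l)⁻¹)) * k⁻¹ := by rw [h1]
      _ = k * x * k⁻¹ * (l * M₁.e aa * l⁻¹) := by group
  · intro x hx
    have h1 := mem_centralizer_iff.1 hx.2 (1 * M₁.e aa * 1⁻¹) ⟨1, one_mem _, rfl⟩
    rw [one_mul, inv_one, mul_one] at h1
    exact mem_C.2 h1.symm
  · refine mem_centralizer_iff.2 ?_
    rintro _ ⟨k, hk, rfl⟩
    exact (hc k hk).symm

/-- TRICK, `C_{W_a ∩ K}(s ^ K) ≤ Q_n` -/
theorem trick_s {K : Subgroup G} (hKN : K ≤ centralizer ({M₁.e nn} : Set G))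
    (hK : centralizer ({M₁.e nn} : Set G) ≤ normalizer (K : Set G)) {w : G} (hw : w ∈ WW V₁ V₂ (M₁.e aa))
    (hwK : w ∈ K) (hc : ∀ k ∈ K, w * (k * M₁.e ss * k⁻¹) = k * M₁.e ss * k⁻¹ * w) : w ∈ Q (M₁.e nn) := by
  refine trick_a b hKN hK hw hwK fun k hk => ?_
  have h1 : k * M₁.e aa * k⁻¹ = M₁.e nn * (k * M₁.e ss * k⁻¹) := by
    have hkn := mem_C.1 (hKN hk)
    rw [← ns M₁]
    calc k * (M₁.e nn * M₁.e ss) * k⁻¹ = (k * M₁.e nn) * M₁.e ss * k⁻¹ := by group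
      _ = M₁.e nn * (k * M₁.e ss * k⁻¹) := by rw [hkn]; group
  have hwn := mem_C.1 (hKN hwK)
  rw [h1]
  calc w * (M₁.e nn * (k * M₁.e ss * k⁻¹)) = (w * M₁.e nn) * (k * M₁.e ss * k⁻¹) := by group
    _ = M₁.e nn * (w * (k * M₁.e ss * k⁻¹)) := by rw [hwn]; group
    _ = _ := by rw [hc k hk]; group

/-! ### THEOREM 1 -/

omit b [Finite G] in
theorem UUa_le_FU : UU (M₁.e aa) (M₁.e nn) ≤ FU M₁ := fun u hu =>
  subset_closure ⟨1, by rw [one_mul, mul_one], u, hu, by rw [one_mul, inv_one, mul_one]⟩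

theorem UUa_comm_n {u : G} (hu : u ∈ UU (M₁.e aa) (M₁.e nn)) : u * M₁.e nn = M₁.e nn * u :=
  mem_C.1 (b.Qa_le_T (b.WWa_le_Qa (b.UUa_le_WWa hu))).2

theorem UUa_comm_a {u : G} (hu : u ∈ UU (M₁.e aa) (M₁.e nn)) : u * M₁.e aa = M₁.e aa * u :=
  mem_C.1 (o2_le _ (b.WWa_le_Qa (b.UUa_le_WWa hu)))

theorem FU_le : FU M₁ ≤ centralizer ({M₁.e nn} : Set G) := by
  rw [FU, closure_le]
  rintro _ ⟨g, hg, u, hu, rfl⟩
  exact mul_mem (mul_mem (mem_C.2 hg) (mem_C.2 (UUa_comm_n b hu))) (inv_mem (mem_C.2 hg))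

omit b in
theorem FU_norm : centralizer ({M₁.e nn} : Set G) ≤ normalizer (FU M₁ : Set G) := by
  intro x hx
  refine mem_normalizer_of_cj_le ?_
  rintro _ ⟨y, hy, rfl⟩
  change x * y * x⁻¹ ∈ FU M₁
  rw [SetLike.mem_coe, FU] at hy
  induction hy using closure_induction with
  | mem y hy =>
    obtain ⟨g, hg, u, hu, rfl⟩ := hy
    refine subset_closure ⟨x * g, ?_, u, hu, by group⟩
    exact mem_C.1 (mul_mem hx (mem_C.2 hg))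
  | one => rw [mul_one, mul_inv_cancel]; exact one_mem _
  | mul y z _ _ h1 h2 =>
    have e : x * (y * z) * x⁻¹ = x * y * x⁻¹ * (x * z * x⁻¹) := by group
    rw [e]; exact mul_mem h1 h2
  | inv y _ h1 =>
    have e : x * y⁻¹ * x⁻¹ = (x * y * x⁻¹)⁻¹ := by group
    rw [e]; exact inv_mem h1

/-- Elements `x s^k x⁻¹` in `K ⊴ C_G(n)` commuting with `s ^ K` lie in `Q_n`. -/
theorem conj_s_mem_Q {K : Subgroup G} (hKN : K ≤ centralizer ({M₁.e nn} : Set G))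
    (hK : centralizer ({M₁.e nn} : Set G) ≤ normalizer (K : Set G)) {x : G}
    (hx1 : x * M₁.e nn * x⁻¹ = M₁.e aa) (hx2 : x * M₁.e aa * x⁻¹ = M₁.e nn) {y : G}
    (hy : y ∈ closure {w | ∃ k ∈ K, w = x * (k * M₁.e ss * k⁻¹) * x⁻¹}) (hyK : y ∈ K)
    (hc : ∀ k ∈ K, ∀ k' ∈ K, k * M₁.e ss * k⁻¹ * (x * (k' * M₁.e ss * k'⁻¹) * x⁻¹) =
      x * (k' * M₁.e ss * k'⁻¹) * x⁻¹ * (k * M₁.e ss * k⁻¹)) : y ∈ Q (M₁.e nn) := by
  have hmem : ∀ k ∈ K, x * (k * M₁.e ss * k⁻¹) * x⁻¹ ∈ UU (M₁.e aa) (M₁.e nn) := by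
    intro k hk
    have h1 : M₁.e ss ∈ UU (M₁.e nn) (M₁.e aa) := by
      rw [← na M₁]; exact mul_mem (self_mem_UU _ _) (mem_UU_self _ _)
    have h2 := UU_conj x (UU_norm (mem_C.1 (hKN hk)) h1)
    rwa [hx1, hx2] at h2
  have hyU : y ∈ UU (M₁.e aa) (M₁.e nn) := by
    refine (closure_le _).2 ?_ hy
    rintro _ ⟨k, hk, rfl⟩
    exact hmem k hk
  refine trick_s b hKN hK (b.UUa_le_WWa hyU) hyK fun k hk => ?_
  have h1 : closure {w | ∃ k ∈ K, w = x * (k * M₁.e ss * k⁻¹) * x⁻¹} ≤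
      centralizer ({k * M₁.e ss * k⁻¹} : Set G) := by
    rw [closure_le]
    rintro _ ⟨k', hk', rfl⟩
    exact mem_C.2 (hc k hk k' hk').symm
  exact mem_C.1 (h1 hy)

/-- THEOREM 1, the calculation. -/
theorem one_core {x : G} (hx1 : x * M₁.e nn * x⁻¹ = M₁.e aa) (hx2 : x * M₁.e aa * x⁻¹ = M₁.e nn)
    (hc : ∀ k ∈ FU M₁, ∀ k' ∈ FU M₁, k * M₁.e ss * k⁻¹ * (x * (k' * M₁.e ss * k'⁻¹) * x⁻¹) =
      x * (k' * M₁.e ss * k'⁻¹) * x⁻¹ * (k * M₁.e ss * k⁻¹)) {u v : G} (hu : u ∈ UU (M₁.e nn) (M₁.e aa))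
    (hv : v ∈ UU (M₁.e aa) (M₁.e nn)) : u * v = v * u := by
  have h1 : M₁.e ss ∈ UU (M₁.e nn) (M₁.e aa) := by
    rw [← na M₁]; exact mul_mem (self_mem_UU _ _) (mem_UU_self _ _)
  -- `U₁ˣ` centralises `U_n`
  have h2 : ∀ k ∈ FU M₁, ∀ u ∈ UU (M₁.e nn) (M₁.e aa),
      u * (x * (k * M₁.e ss * k⁻¹) * x⁻¹) = x * (k * M₁.e ss * k⁻¹) * x⁻¹ * u := by
    intro k hk u hu
    have h3 : x * (k * M₁.e ss * k⁻¹) * x⁻¹ ∈ UU (M₁.e aa) (M₁.e nn) := by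
      have h4 := UU_conj x (UU_norm (mem_C.1 (FU_le b hk)) h1)
      rwa [hx1, hx2] at h4
    exact b.UU_comm_Q hu
      (conj_s_mem_Q b (FU_le b) FU_norm hx1 hx2 (subset_closure ⟨k, hk, rfl⟩) (UUa_le_FU h3) hc)
  -- `U₁` centralises `U_a`
  have h3 : ∀ k ∈ FU M₁, v * (k * M₁.e ss * k⁻¹) = k * M₁.e ss * k⁻¹ * v := by
    intro k hk
    have h4 : x * v * x⁻¹ ∈ UU (M₁.e nn) (M₁.e aa) := by
      have h5 := UU_conj x hv
      rwa [hx1, hx2] at h5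
    have h5 := h2 k hk _ h4
    calc v * (k * M₁.e ss * k⁻¹) = x⁻¹ * (x * v * x⁻¹ * (x * (k * M₁.e ss * k⁻¹) * x⁻¹)) * x := by group
      _ = x⁻¹ * (x * (k * M₁.e ss * k⁻¹) * x⁻¹ * (x * v * x⁻¹)) * x := by rw [h5]
      _ = _ := by group
  exact b.UU_comm_Q hu (trick_s b (FU_le b) FU_norm (b.UUa_le_WWa hv) (UUa_le_FU hv) h3)

theorem s_mem_zc : M₁.e ss ∈ zc (S : Subgroup G) :=
  MinSimple.VModule.mem_zc.2 ⟨b.dih₁.V_le_S (M₁.e_mem ss), fun _ hg => b.dih₁.S_comm hg, e_sq' M₁ ss⟩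

/-- the elements `s^g`, `g ∈ M`, commute if `M ∈ L(S)` -/
theorem comm_conj_s {M : Subgroup G} (hM : IsLoc (S : Subgroup G) M) {g g' : G} (hg : g ∈ M) (hg' : g' ∈ M) :
    g * M₁.e ss * g⁻¹ * (g' * M₁.e ss * g'⁻¹) = g' * M₁.e ss * g'⁻¹ * (g * M₁.e ss * g⁻¹) := by
  obtain ⟨h1, -⟩ := NOThreeL.Pair.zl_abel b.two S hM
  have h2 : ∀ g ∈ M, g * M₁.e ss * g⁻¹ ∈ zl (S : Subgroup G) M := fun g hg =>
    (mem_normalizer_iff.1 (le_normalizer_zl _ _ hg) _).1 (zc_le_zl _ _ (s_mem_zc b))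
  exact mem_centralizer_iff.1 (h1 (h2 g' hg')) _ (h2 g hg)

/-- **General form of THEOREM 1**: `K ⊴ C_G(n)`, `⟨K, S⟩` local, `x ∈ S` swapping `n` and `a` ⟹ `⟨s ^ (K ^ x)⟩ ∩ K ≤ Q_n`. -/
theorem conj_s_mem_Q_of_loc {K : Subgroup G} (hKN : K ≤ centralizer ({M₁.e nn} : Set G))
    (hK : centralizer ({M₁.e nn} : Set G) ≤ normalizer (K : Set G)) {M : Subgroup G}
    (hM : IsLoc (S : Subgroup G) M) (hKM : K ≤ M) {x : G} (hxS : x ∈ (S : Subgroup G)) (hx : M₁.Ind x tt) {y : G}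
    (hy : y ∈ closure {w | ∃ k ∈ K, w = x * (k * M₁.e ss * k⁻¹) * x⁻¹}) (hyK : y ∈ K) : y ∈ Q (M₁.e nn) := by
  refine conj_s_mem_Q b hKN hK (Dih.tt_n hx) (Dih.tt_a hx) hy hyK fun k hk k' hk' => ?_
  have h1 := comm_conj_s b hM (hKM hk) (mul_mem (hM.le hxS) (hKM hk'))
  have e : x * k' * M₁.e ss * (x * k')⁻¹ = x * (k' * M₁.e ss * k'⁻¹) * x⁻¹ := by group
  rwa [e] at h1

/-- **THEOREM 1**: if `[U_n, U_a] ≠ 1`, no `M ∈ L(S)` contains `F_U`. -/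
theorem not_le_of_loc (hne : ∃ u ∈ UU (M₁.e nn) (M₁.e aa), ∃ v ∈ UU (M₁.e aa) (M₁.e nn), u * v ≠ v * u)
    {M : Subgroup G} (hM : IsLoc (S : Subgroup G) M) : ¬ FU M₁ ≤ M := by
  intro hF
  obtain ⟨u, hu, v, hv, h0⟩ := hne
  obtain ⟨x, hxS, hx⟩ := b.dih₁.exists_swap
  refine h0 (one_core b (Dih.tt_n hx) (Dih.tt_a hx) (fun k hk k' hk' => ?_) hu hv)
  have h1 := comm_conj_s b hM (hF hk) (mul_mem (hM.le hxS) (hF hk'))
  have e : x * k' * M₁.e ss * (x * k')⁻¹ = x * (k' * M₁.e ss * k'⁻¹) * x⁻¹ := by group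
  rwa [e] at h1

/-- **THEOREM 1**: if `[U_n, U_a] ≠ 1`, `⟨F_U, S⟩` is nonlocal. -/
theorem nonLoc_FU (hne : ∃ u ∈ UU (M₁.e nn) (M₁.e aa), ∃ v ∈ UU (M₁.e aa) (M₁.e nn), u * v ≠ v * u) :
    NonLoc (FU M₁) (S : Subgroup G) := by
  intro R hR h1 h2
  by_contra h3
  exact not_le_of_loc b hne ⟨h2, o2_ne_bot_of_le hR h3 Subgroup.le_normalizer le_rfl⟩ h1

/-- An element of order ≤ 2 centralised by `S` and `F_U` is trivial. -/
theorem eq_one_of_cent (hne : ∃ u ∈ UU (M₁.e nn) (M₁.e aa), ∃ v ∈ UU (M₁.e aa) (M₁.e nn), u * v ≠ v * u) {w : G}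
    (hw : w * w = 1) (hS : ∀ g ∈ (S : Subgroup G), g * w = w * g) (hF : ∀ g ∈ FU M₁, g * w = w * g) : w = 1 := by
  have h1 : ∀ g : G, g * w = w * g → g ∈ normalizer (zpowers w : Set G) := by
    intro g hg
    rw [mem_normalizer_iff]
    intro y
    have hgc : ∀ y ∈ zpowers w, g * y * g⁻¹ = y := by
      rintro _ ⟨k, rfl⟩
      have : g * w ^ k = w ^ k * g := (show Commute g w from hg).zpow_right k
      change g * w ^ k * g⁻¹ = w ^ k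
      rw [this, mul_inv_cancel_right]
    have hgc' : ∀ y ∈ zpowers w, g⁻¹ * y * g = y := by
      intro y hy
      have := hgc y hy
      rw [mul_inv_eq_iff_eq_mul] at this
      rw [mul_assoc, ← this, inv_mul_cancel_left]
    constructor
    · intro hy
      rw [hgc y hy]; exact hy
    · intro hy
      have h2 := hgc' _ hy
      have e : g⁻¹ * (g * y * g⁻¹) * g = y := by group
      rw [e] at h2
      rw [h2]; exact hy
  have h2 : IsPGroup 2 (zpowers w) := by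
    rintro ⟨_, k, rfl⟩
    refine ⟨1, Subtype.ext ?_⟩
    change (w ^ k) ^ (2 ^ 1) = 1
    rw [pow_one, pow_two, ← zpow_add, ← two_mul, mul_comm, zpow_mul', zpow_two, hw, one_zpow]
  have h3 := nonLoc_FU b hne (zpowers w) h2 (fun g hg => h1 g (hF g hg)) (fun g hg => h1 g (hS g hg))
  exact zpowers_eq_bot.1 h3

/-- COR: `v ∈ Ω₁(Z(S))`, `v e` centralised by `F_U`, `e ∈ {1, s}` ⟹ `v e = 1`. -/
theorem cor_s (hne : ∃ u ∈ UU (M₁.e nn) (M₁.e aa), ∃ v ∈ UU (M₁.e aa) (M₁.e nn), u * v ≠ v * u) {v : G}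
    (hv : v ∈ zc (S : Subgroup G)) (hF : ∀ g ∈ FU M₁, g * (v * M₁.e ss) = v * M₁.e ss * g) : v * M₁.e ss = 1 := by
  obtain ⟨-, hvS, hv2⟩ := MinSimple.VModule.mem_zc.1 hv
  have hvs : M₁.e ss * v = v * M₁.e ss := hvS _ (b.dih₁.V_le_S (M₁.e_mem ss))
  refine eq_one_of_cent b hne ?_ (fun g hg => ?_) hF
  · calc v * M₁.e ss * (v * M₁.e ss) = v * (M₁.e ss * v) * M₁.e ss := by group
      _ = (v * v) * (M₁.e ss * M₁.e ss) := by rw [hvs]; group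
      _ = 1 := by rw [M₁.e_sq, mul_one, ← pow_two, hv2]
  · rw [← mul_assoc, hvS g hg, mul_assoc, b.dih₁.S_comm hg, ← mul_assoc]

theorem cor_one (hne : ∃ u ∈ UU (M₁.e nn) (M₁.e aa), ∃ v ∈ UU (M₁.e aa) (M₁.e nn), u * v ≠ v * u) {v : G}
    (hv : v ∈ zc (S : Subgroup G)) (hF : ∀ g ∈ FU M₁, g * v = v * g) : v = 1 := by
  obtain ⟨-, hvS, hv2⟩ := MinSimple.VModule.mem_zc.1 hv
  exact eq_one_of_cent b hne (by rw [← pow_two]; exact hv2) hvS hF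

/-- COR: `v ∈ Ω₁(Z(S))`, `v n` centralised by `F_U` ⟹ `v = 1`. -/
theorem cor_n (hne : ∃ u ∈ UU (M₁.e nn) (M₁.e aa), ∃ v ∈ UU (M₁.e aa) (M₁.e nn), u * v ≠ v * u) {v : G}
    (hv : v ∈ zc (S : Subgroup G)) (hF : ∀ g ∈ FU M₁, g * (v * M₁.e nn) = v * M₁.e nn * g) : v = 1 := by
  refine cor_one b hne hv fun g hg => ?_
  have h1 := hF g hg
  have h2 := mem_C.1 (FU_le b hg)
  have h3 : g * v * M₁.e nn = v * g * M₁.e nn := by
    rw [mul_assoc, h1, mul_assoc, ← h2, mul_assoc]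
  exact mul_right_cancel h3

/-- COR: `v ∈ Ω₁(Z(S))`, `v a` centralised by `F_U` ⟹ `v = s`. -/
theorem cor_a (hne : ∃ u ∈ UU (M₁.e nn) (M₁.e aa), ∃ v ∈ UU (M₁.e aa) (M₁.e nn), u * v ≠ v * u) {v : G}
    (hv : v ∈ zc (S : Subgroup G)) (hF : ∀ g ∈ FU M₁, g * (v * M₁.e aa) = v * M₁.e aa * g) :
    v * M₁.e ss = 1 := by
  refine cor_s b hne hv fun g hg => ?_
  have h1 := hF g hg
  have h2 := mem_C.1 (FU_le b hg)
  have e : M₁.e ss = M₁.e aa * M₁.e nn := by rw [← na M₁]; exact M₁.e_comm _ _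
  rw [e, ← mul_assoc v, ← mul_assoc g, h1, mul_assoc _ g, h2, ← mul_assoc]

/-- COR: `1 ≠ v ∈ Ω₁(Z(S))`: some `v ^ g`, `g ∈ C_G(n)`, does not commute with `U_a`. -/
theorem exists_conj_ne (hne : ∃ u ∈ UU (M₁.e nn) (M₁.e aa), ∃ v ∈ UU (M₁.e aa) (M₁.e nn), u * v ≠ v * u) {v : G}
    (hv : v ∈ zc (S : Subgroup G)) (hv1 : v ≠ 1) : ∃ g, g * M₁.e nn = M₁.e nn * g ∧
      ∃ u ∈ UU (M₁.e aa) (M₁.e nn), u * (g * v * g⁻¹) ≠ g * v * g⁻¹ * u := by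
  by_contra hcon
  push Not at hcon
  refine hv1 (cor_one b hne hv fun y hy => ?_)
  have h1 : FU M₁ ≤ centralizer ({v} : Set G) := by
    rw [FU, closure_le]
    rintro _ ⟨g, hg, u, hu, rfl⟩
    have hg' : g⁻¹ * M₁.e nn = M₁.e nn * g⁻¹ := by
      rw [inv_mul_eq_iff_eq_mul, ← mul_assoc, hg, mul_inv_cancel_right]
    have h2 := hcon g⁻¹ hg' u hu
    refine mem_C.2 ?_
    calc g * u * g⁻¹ * v = g * (u * (g⁻¹ * v * g⁻¹⁻¹)) * g⁻¹ := by group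
      _ = g * (g⁻¹ * v * g⁻¹⁻¹ * u) * g⁻¹ := by rw [h2]
      _ = v * (g * u * g⁻¹) := by group
  exact mem_C.1 (h1 hy)

/-! ### THEOREM 2 -/

/-- `O₂(C_G(n) / C(U_n)) = 1`, for normal subgroups inducing elementary abelian groups -/
theorem o2_quot {E : Subgroup G} (hE : E ≤ centralizer ({M₁.e nn} : Set G))
    (hn : centralizer ({M₁.e nn} : Set G) ≤ normalizer (E : Set G))
    (h2 : ∀ x ∈ E, x * x ∈ centralizer (UU (M₁.e nn) (M₁.e aa) : Set G))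
    (hc : ∀ x ∈ E, ∀ y ∈ E, x * y * x⁻¹ * y⁻¹ ∈ centralizer (UU (M₁.e nn) (M₁.e aa) : Set G)) :
    E ≤ centralizer (UU (M₁.e nn) (M₁.e aa) : Set G) := by
  set T := (S : Subgroup G) ⊓ centralizer ({M₁.e nn} : Set G) with hT
  have hCa : ∀ {x : G}, x ∈ centralizer (UU (M₁.e nn) (M₁.e aa) : Set G) → x ∈ centralizer ({M₁.e aa} : Set G) :=
    fun hx => (b.centralizer_UU_le hx).2
  have h3 := NO3b.UMethod.not_dvd_inf (inf_le_right : T ≤ _) b.not_dvd hE hn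
  set Y : Subgroup G := E ⊓ centralizer ({M₁.e aa} : Set G) with hY
  have h4 : ¬ 2 ∣ Y.relIndex E := by
    intro h5
    refine h3 (h5.trans (relIndex_dvd_of_le_left E ?_))
    exact fun x hx => mem_inf.2 ⟨hx.1, mem_C.2 (b.dih₁.T_comm_a hx.2)⟩
  have hYn : (Y.subgroupOf E).Normal := by
    refine ⟨?_⟩
    rintro ⟨y, hyE⟩ hy ⟨g, hg⟩
    rw [mem_subgroupOf] at hy ⊢
    change g * y * g⁻¹ ∈ Y
    have e : g * y * g⁻¹ = g * y * g⁻¹ * y⁻¹ * y := by group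
    refine mem_inf.2 ⟨mul_mem (mul_mem hg hyE) (inv_mem hg), ?_⟩
    rw [e]
    exact mul_mem (hCa (hc g hg y hyE)) hy.2
  have h5 : ∀ g ∈ E, g ∈ centralizer ({M₁.e aa} : Set G) := by
    intro g hg
    have h6 := (Y.subgroupOf E).pow_index_mem ⟨g, hg⟩
    obtain ⟨k, hk⟩ : ∃ k, (Y.subgroupOf E).index = 2 * k + 1 := by
      have h7 : ¬ 2 ∣ (Y.subgroupOf E).index := h4
      exact ⟨(Y.subgroupOf E).index / 2, by omega⟩
    rw [hk, mem_subgroupOf] at h6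
    have h8 : g ^ (2 * k + 1) ∈ Y := h6
    have h9 : (g ^ 2) ^ k ∈ centralizer ({M₁.e aa} : Set G) := pow_mem (by rw [pow_two]; exact hCa (h2 g hg)) k
    have e : g = ((g ^ 2) ^ k)⁻¹ * g ^ (2 * k + 1) := by
      rw [← pow_mul, pow_succ, ← mul_assoc, inv_mul_cancel, one_mul]
    rw [e]
    exact mul_mem (inv_mem h9) h8.2
  intro x hx
  refine mem_centralizer_iff.2 fun u hu => ?_
  have h6 : UU (M₁.e nn) (M₁.e aa) ≤ centralizer ({x} : Set G) := by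
    refine UU_le (mem_C.2 (mem_C.1 (hE hx)).symm) fun g hg => mem_C.2 ?_
    have hgN : g ∈ centralizer ({M₁.e nn} : Set G) := mem_C.2 hg
    have h7 := (mem_normalizer_iff.1 (hn (inv_mem hgN)) x).1 hx
    rw [inv_inv] at h7
    have h8 := mem_C.1 (h5 _ h7)
    calc g * M₁.e aa * g⁻¹ * x = g * (M₁.e aa * (g⁻¹ * x * g)) * g⁻¹ := by group
      _ = g * (g⁻¹ * x * g * M₁.e aa) * g⁻¹ := by rw [h8]
      _ = x * (g * M₁.e aa * g⁻¹) := by group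
  exact mem_C.1 (h6 hu)

/-- **THEOREM 2**: no `t ∈ U_a` induces on `U_n` a transvection with a centre `z` commuting with elements of `C_G(n)`
inducing the transpositions `(2 3)` and `(2 4)`. -/
theorem no_transv {z t : G} (hz : z ∈ UU (M₁.e nn) (M₁.e aa)) (hz1 : z ≠ 1) (ht : t ∈ UU (M₁.e aa) (M₁.e nn))
    (hact : ∀ u ∈ UU (M₁.e nn) (M₁.e aa), t * u * t⁻¹ = u ∨ t * u * t⁻¹ = u * z)
    (hne : ∃ u ∈ UU (M₁.e nn) (M₁.e aa), t * u ≠ u * t)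
    (hwa : ∃ w, w * M₁.e nn = M₁.e nn * w ∧ w * z = z * w ∧ M₁.Ind w (Equiv.swap 2 3))
    (hwb : ∃ w, w * M₁.e nn = M₁.e nn * w ∧ w * z = z * w ∧ M₁.Ind w (Equiv.swap 2 4)) : False := by
  have hbU : M₁.e bb ∈ UU (M₁.e nn) (M₁.e aa) := b.perp_mem₁ (by decide)
  have e1 : M₁.e aa * M₁.e bb = M₁.e cc := by
    rw [← M₁.e_add, M₁.e_eq_iff]; decide
  obtain ⟨wa, hwn, hwz, hwi⟩ := hwa
  obtain ⟨wb, hwn', hwz', hwi'⟩ := hwb
  refine TransG.Hyp.false (N := centralizer ({M₁.e nn} : Set G)) (U := UU (M₁.e nn) (M₁.e aa))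
    (A := UU (M₁.e aa) (M₁.e nn)) (z := z) (a := M₁.e aa) (b := M₁.e bb) (t := t) ?_
  refine ⟨?_, fun x hx y hy => b.UU_comm hx hy, fun x hx => b.UU_sq hx, fun x hx => mem_C.2 (UUa_comm_n b hx), ?_,
    fun g _ hga x hx => UU_norm hga hx, fun x hx => UUa_comm_a b hx, mem_UU_self _ _, hbU, hz, hz1, ht, hact, hne,
    fun E hE hn h2 hc => o2_quot b hE hn h2 hc, ⟨wa, mem_C.2 hwn, hwz, ?_⟩, ⟨wb, mem_C.2 hwn', hwz', ?_⟩⟩
  · intro g hg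
    refine mem_normalizer_of_cj_le ?_
    rintro _ ⟨u, hu, rfl⟩
    exact UU_norm (mem_C.1 hg) hu
  · intro x hx y hy
    exact (b.UUa_comm_Qa hx (b.WWa_le_Qa (b.UUa_le_WWa hy)))
  · rw [e1, hwi, M₁.e_eq_iff]; decide
  · rw [e1, hwi', M₁.e_eq_iff]; decide

end base

end Cfsg.Agent.Omega.TTn.Z.TrickD
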